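import Cfsg.Agent.Lib.FusionBasics.Central.Split
import Cfsg.Agent.Lib.FusionSub.Solvable

/-!
Weakly normal subsystems of quasisimple systems, and components of split systems.
-/

set_option autoImplicit false
set_option linter.style.haveILetI false
set_option linter.unusedSectionVars false

namespace CfsgLib.FusionBasics.Central

open Cfsg Cfsg.FusionSystem CfsgLib.Alperin

variable {Ω : Type*} [Group Ω] {S U A B : Subgroup Ω} {p : ℕ} [Fact p.Prime]

theorem center_fix [Finite U] {C : FusionSystem U} {P : Subgroup Ω} {φ : P →* Ω}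
    (hφ : φ ∈ C.Hom P) (x : P) (hx : (x : Ω) ∈ C.center) : φ x = x := by
  obtain ⟨ψ, -, hψx, hψQ⟩ := (CfsgLib.FusionExamples.isCentral_center C).2 P φ hφ
  rw [← hψx x]
  exact (congrArg ψ (Subtype.ext rfl)).trans (hψQ ⟨x, hx⟩)

theorem center_stronglyClosed [Finite U] (C : FusionSystem U) : C.StronglyClosed C.center :=
  ⟨(CfsgLib.FusionExamples.isCentral_center C).1, fun R hR φ hφ x => by
    rw [center_fix hφ x (hR x.2)]; exact hR x.2⟩

/-- A weakly normal subsystem of a quasisimple system lies over the centre or covers it modulo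
the centre. -/
theorem quasisimple_weaklyNormal [Finite U] (hU : IsPGroup p U) {C : FusionSystem U}
    (hq : C.Quasisimple p) {N : FusionSystem A} (hN : N.IsWeaklyNormalIn C p) :
    A ≤ C.center ∨ (U ≤ A ⊔ C.center ∧ ∀ (P : Subgroup Ω) (φ : P →* Ω), φ ∈ C.Hom P →
      ∃ φ₁ ∈ N.Hom (P ⊓ A), ∀ x : ↥(P ⊓ A),
        (φ₁ x)⁻¹ * φ (Subgroup.inclusion inf_le_left x) ∈ C.center) := by
  obtain ⟨hNs, hC, hNi⟩ := hN
  obtain ⟨-, -, hsimple⟩ := hq
  have hAU := hNi.2.1.1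
  haveI := finite_of_le hAU
  have hAp := isPGroup_of_le hU hAU
  have hZ := center_stronglyClosed C
  set Z := (C.center).subgroupOf U with hZdef
  set θ := QuotientGroup.mk' Z with hθ
  have hker : ∀ s : U, θ s = 1 ↔ (s : Ω) ∈ C.center := fun s => QuotientGroup.eq_one_iff s
  obtain ⟨E, hE⟩ := exists_isFactorSystem C hZ θ hker
    (MonoidHom.range_eq_top.mpr (QuotientGroup.mk'_surjective Z))
  have hsim := hsimple E hE
  obtain ⟨hEs, -, hnorm⟩ := hsim
  obtain ⟨hEmor, -, -⟩ := Cfsg.Agent.S5134.result p hU C hC C.center hZ θ E hE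
  set θA := θ.comp (Subgroup.inclusion hAU) with hθA
  have hkerA : ∀ s : A, θA s = 1 ↔ (s : Ω) ∈ C.center ⊓ A := fun s =>
    (hker (Subgroup.inclusion hAU s)).trans ⟨fun h => ⟨h, s.2⟩, fun h => h.1⟩
  have hZA : N.StronglyClosed (C.center ⊓ A) :=
    ⟨inf_le_right, fun R hR φ hφ x => by
      rw [center_fix (hNi.1 R hφ) x (hR x.2).1]; exact hR x.2⟩
  set A' := θA.range with hA'def
  obtain ⟨Nq, hNq⟩ := exists_isFactorSystem N hZA θA hkerA (S' := A') hA'def.symm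
  have hNqs := CfsgLib.FusionSub.factor_saturated hAp hNs hZA hNq
  obtain ⟨hNmor, -, hNsur⟩ := Cfsg.Agent.S5134.result p hAp N hNs _ hZA θA Nq hNq
  have hA' : A' = imageAlong θ A := by
    ext y
    constructor
    · rintro ⟨a, rfl⟩
      exact ⟨Subgroup.inclusion hAU a, a.2, rfl⟩
    · rintro ⟨a, ha, rfl⟩
      exact ⟨⟨a, ha⟩, rfl⟩
  have hA'c : E.StronglyClosed A' :=
    hA'.symm ▸ CfsgLib.FusionSub.factor_stronglyClosed_image hU hC hZ hNi.2.1 hE
  haveI : Finite A' := inferInstance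
  -- preimages along `θA` map onto
  have hpre : ∀ {P' : Subgroup (U ⧸ Z)}, P' ≤ A' → ∀ y : P', ∃ a : A,
      (a : Ω) ∈ preimageAlong θA P' ∧ θA a = (y : U ⧸ Z) := by
    intro P' hP' y
    obtain ⟨a, ha⟩ := hP' y.2
    exact ⟨a, mem_preimageAlong.mpr ⟨a.2, ha.symm ▸ y.2⟩, ha⟩
  have haut : ∀ {α' : MulAut A'}, α' ∈ E.autGroup A' → ∃ α ∈ C.autGroup A,
      ∀ a : A, θA (α a) = ((α' ⟨θA a, a, rfl⟩ : A') : U ⧸ Z) := by
    intro α' hα'
    obtain ⟨-, φ, hφ, hP, hφU, hPP, hind⟩ :=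
      (hE.2.2.2 A' _).mp ((mem_autGroup_iff E hA'c.1).mp hα')
    have hle : A ≤ preimageAlong θ A' := fun a ha =>
      mem_preimageAlong.mpr ⟨hAU ha, ⟨a, ha⟩, rfl⟩
    obtain ⟨α, hα, hαx⟩ := exists_aut_of_hom' C (restrict_mem hφ hle) fun a =>
      hNi.2.1.2 A le_rfl _ (restrict_mem hφ hle) a
    refine ⟨α, hα, fun a => ?_⟩
    have h := hind (Subgroup.inclusion hle a)
    refine Eq.trans (congrArg θ (Subtype.ext (hαx a) :
      Subgroup.inclusion hAU (α a) = ⟨φ (Subgroup.inclusion hle a), hφU _⟩)) (h.symm.trans ?_)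
    rfl
  have hNqi : Nq.IsInvariantIn E := by
    refine ⟨fun P' φ' hφ' => ?_, hA'c, fun P' hP' φ' hφ' α' hα' => ?_, fun P' hP' φ' hφ' => ?_⟩
    · obtain ⟨hP'A, φ, hφ, hP, hφA, hPP, hind⟩ := (hNq.2.2.2 P' φ').mp hφ'
      obtain ⟨ψ', hψ', hQ, hψU, hQQ, hind'⟩ := hEmor.2 _ φ (hNi.1 _ hφ)
      have hle : P' ≤ imageAlong θ (preimageAlong θA P') := fun y hy => by
        obtain ⟨a, ha, hay⟩ := hpre hP'A ⟨y, hy⟩
        exact ⟨Subgroup.inclusion hAU a, ha, hay⟩
      refine restrict_mem_apply hψ' hle fun y => ?_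
      obtain ⟨a, ha, hay⟩ := hpre hP'A y
      have h1 := hind ⟨a, ha⟩
      have h2 := hind' ⟨a, ha⟩
      have e1 : (⟨θA ⟨a, hP ha⟩, hPP ⟨a, ha⟩⟩ : P') = y := Subtype.ext hay
      have e2 : (⟨θ ⟨a, hQ ha⟩, hQQ ⟨a, ha⟩⟩ : imageAlong θ (preimageAlong θA P')) =
          ⟨(y : U ⧸ Z), hle y.2⟩ := Subtype.ext hay
      rw [← e1, ← e1] at *
      rw [← e2] at *
      exact h1.trans h2.symm
    · obtain ⟨hP'A, φ, hφ, hP, hφA, hPP, hind⟩ := (hNq.2.2.2 P' φ').mp hφ'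
      obtain ⟨α, hα, hαx⟩ := haut hα'
      obtain ⟨χ, hχ, hχx⟩ := hNi.2.2.1 _ hP φ hφ α hα
      obtain ⟨χ', hχ', hQ, hχA, hQQ, hind'⟩ := hNmor.2 _ χ hχ
      have hle : (P'.subgroupOf A').map (A'.subtype.comp α'.toMonoidHom) ≤
          imageAlong θA (((preimageAlong θA P').subgroupOf A).map
            (A.subtype.comp α.toMonoidHom)) := by
        rintro _ ⟨w, hw, rfl⟩
        obtain ⟨a, ha, hay⟩ := hpre hP'A ⟨(w : U ⧸ Z), hw⟩
        refine ⟨α a, ⟨a, ha, rfl⟩, (hαx a).trans ?_⟩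
        exact congrArg (fun v : A' => ((α' v : A') : U ⧸ Z)) (Subtype.ext hay)
      refine ⟨_, restrict_mem hχ' hle, fun y hφy hαy => ?_⟩
      obtain ⟨a, ha, hay⟩ := hpre hP'A y
      have hαa : ((α a : A) : Ω) ∈ ((preimageAlong θA P').subgroupOf A).map
          (A.subtype.comp α.toMonoidHom) := ⟨a, ha, rfl⟩
      have h1 := hind' ⟨_, hαa⟩
      have h2 := hind ⟨a, ha⟩
      have e1 : (⟨θA a, a, rfl⟩ : A') = ⟨y, hP'A y.2⟩ := Subtype.ext hay
      have e2 : (⟨φ' y, hφy⟩ : A') = ⟨θA ⟨φ ⟨a, ha⟩, hφA _⟩, _, rfl⟩ :=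
        Subtype.ext ((congrArg φ' (Subtype.ext hay.symm)).trans h2)
      show χ' (Subgroup.inclusion hle ⟨_, hαy⟩) = _
      rw [e2, ← hαx, show Subgroup.inclusion hle ⟨_, hαy⟩ = ⟨θA (α a), hQQ ⟨_, hαa⟩⟩ from
        Subtype.ext ((congrArg (fun v : A' => ((α' v : A') : U ⧸ Z)) e1).symm.trans (hαx a).symm)]
      refine h1.trans (congrArg θA (Subtype.ext ?_))
      exact hχx ⟨a, ha⟩ (hφA _) hαa
    · obtain ⟨-, ψ, hψ, hQ, hψU, hQQ, hind⟩ := (hE.2.2.2 P' φ').mp hφ'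
      set P := preimageAlong θA P' with hP
      have hPA : P ≤ A := preimageAlong_le θA P'
      have hle : P ≤ preimageAlong θ P' := fun x hx => by
        obtain ⟨hxA, hx'⟩ := mem_preimageAlong.mp hx
        exact mem_preimageAlong.mpr ⟨hAU hxA, hx'⟩
      obtain ⟨α, hα, φ₀, hφ₀, hx⟩ := hNi.2.2.2 P hPA _ (restrict_mem hψ hle)
      obtain ⟨φ₀', hφ₀', hR, hφ₀A, hRR, hind₀⟩ := hNmor.2 _ φ₀ hφ₀
      have hle0 : P' ≤ imageAlong θA P := fun y hy => by
        obtain ⟨a, ha, hay⟩ := hpre hP' ⟨y, hy⟩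
        exact ⟨a, ha, hay⟩
      obtain ⟨α₁, hα₁, hT, hα₁U, hTT, hindα⟩ :=
        hEmor.2 A _ ((mem_autGroup_iff C hAU).mp hα)
      have hA'le : A' ≤ imageAlong θ A := hA'.le
      have hval : ∀ z : A', α₁ (Subgroup.inclusion hA'le z) ∈ A' := fun z =>
        hA'c.2 A' le_rfl _ (restrict_mem hα₁ hA'le) z
      obtain ⟨α', hα', hα'x⟩ := exists_aut_of_hom' E (restrict_mem hα₁ hA'le) hval
      refine ⟨α', hα', _, restrict_mem hφ₀' hle0, fun y hy => ?_⟩
      obtain ⟨a, ha, hay⟩ := hpre hP' y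
      rw [hα'x]
      have h0 := hind₀ ⟨a, ha⟩
      have hy' : φ₀' (Subgroup.inclusion hle0 y) = θA ⟨φ₀ ⟨a, ha⟩, hφ₀A _⟩ :=
        (congrArg φ₀' (Subtype.ext hay.symm)).trans h0
      have h3 := hindα ⟨φ₀ ⟨a, ha⟩, hφ₀A ⟨a, ha⟩⟩
      have h4 := hind ⟨a, hle ha⟩
      refine ((congrArg φ' (Subtype.ext hay.symm)).trans h4).trans (Eq.symm ?_)
      refine Eq.trans (congrArg α₁ (Subtype.ext hy' : Subgroup.inclusion hA'le ⟨_, hy⟩ =
        ⟨_, hTT ⟨φ₀ ⟨a, ha⟩, hφ₀A _⟩⟩)) (h3.trans (congrArg θ (Subtype.ext ?_)))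
      exact (hx ⟨a, ha⟩ (hφ₀A _)).symm
  have hA'p : IsPGroup p A' := (hU.to_quotient Z).to_subgroup A'
  obtain ⟨X, hX⟩ := exists_isPPrimeResidual hA'p hNqs
  have hXn := pPrimeResidual_isNormalIn ((hU.to_quotient Z).to_subgroup ⊤) hEs hA'p hNqs hNqi hX
  rcases hnorm A' X hXn with h | ⟨htop, hEq⟩
  · left
    intro a ha
    have hm : θA ⟨a, ha⟩ ∈ A' := ⟨_, rfl⟩
    rw [h, Subgroup.mem_bot] at hm
    exact ((hkerA ⟨a, ha⟩).mp hm).1
  · right
    refine ⟨fun u hu => ?_, fun P φ hφ => ?_⟩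
    · obtain ⟨a, ha⟩ := (htop.ge (Subgroup.mem_top (θ ⟨u, hu⟩)) : θ ⟨u, hu⟩ ∈ A')
      have h1 : (a : Ω)⁻¹ * u ∈ C.center :=
        (hker ((Subgroup.inclusion hAU a)⁻¹ * (⟨u, hu⟩ : U))).mp (by
          rw [map_mul, map_inv, ← ha]; exact inv_mul_cancel _)
      have := Subgroup.mul_mem _ (Subgroup.mem_sup_left (T := C.center) a.2)
        (Subgroup.mem_sup_right (S := A) h1)
      rwa [mul_inv_cancel_left] at this
    · obtain ⟨φ', hφ', hP, hφU, hPP, hind⟩ := hEmor.2 P φ hφ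
      have hφN := hX.2.1.1 _ ((hEq _).ge hφ')
      obtain ⟨-, φ₁, hφ₁, hQ, hφ₁A, hQQ, hind₁⟩ := (hNq.2.2.2 _ φ').mp hφN
      have hle : P ⊓ A ≤ preimageAlong θA (imageAlong θ P) := fun x hx =>
        mem_preimageAlong.mpr ⟨hx.2, ⟨x, hP hx.1⟩, hx.1, rfl⟩
      refine ⟨_, restrict_mem hφ₁ hle, fun x => ?_⟩
      have h1 := hind₁ (Subgroup.inclusion hle x)
      have h2 := hind (Subgroup.inclusion inf_le_left x)
      refine (hker ((Subgroup.inclusion hAU ⟨_, hφ₁A (Subgroup.inclusion hle x)⟩)⁻¹ *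
        ⟨_, hφU (Subgroup.inclusion inf_le_left x)⟩)).mp ?_
      rw [map_mul, map_inv, ← h2]
      exact inv_mul_eq_one.mpr (h1.symm.trans (congrArg φ' (Subtype.ext rfl)))

/-- A quasisimple system is its own `p'`-residual. -/
theorem pPrimeResidual_quasisimple [Finite U] (hU : IsPGroup p U) {C X : FusionSystem U}
    (hq : C.Quasisimple p) (hX : C.IsPPrimeResidual p X) : X = C := by
  have hC := hq.1
  have hXn := pPrimeResidual_isNormalIn hU hC hU hC
    ⟨fun _ _ h => h, CfsgLib.FusionSub.stronglyClosed_self C, fun P hP φ hφ α hα => by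
      have hαC := (mem_autGroup_iff C le_rfl).mp hα
      set r := (U.subtype.comp α.toMonoidHom).comp (Subgroup.inclusion hP) with hr
      have hrC : r ∈ C.Hom P := restrict_mem hαC hP
      obtain ⟨θ, hθ, hθr, hθx, -⟩ := exists_inverse hrC (range_comp_inclusion _ hP)
      have hm : ∀ y, θ y ∈ P := fun y => hθr.le ⟨y, rfl⟩
      refine ⟨_, C.comp_mem (C.comp_mem hθ hφ hm) hαC (fun y => apply_mem hφ _),
        fun x hφx hαx => ?_⟩
      refine congrArg (U.subtype.comp α.toMonoidHom) (Subtype.ext ?_)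
      exact congrArg φ (Subtype.ext (hθx x hαx)),
    fun P hP φ hφ => ⟨1, Subgroup.one_mem _, φ, hφ, fun _ _ => rfl⟩⟩ hX
  rcases quasisimple_weaklyNormal hU hq hXn.1 with h | ⟨-, h⟩
  · exfalso
    set Z := (C.center).subgroupOf U
    have hne : ∀ x : U ⧸ Z, x = 1 := fun x => by
      obtain ⟨a, rfl⟩ := QuotientGroup.mk'_surjective Z x
      exact (QuotientGroup.eq_one_iff a).mpr (h a.2)
    obtain ⟨E, hE⟩ := exists_isFactorSystem C (center_stronglyClosed C) (QuotientGroup.mk' Z)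
      (fun s => QuotientGroup.eq_one_iff s)
      (MonoidHom.range_eq_top.mpr (QuotientGroup.mk'_surjective Z))
    exact (hq.2.2 E hE).2.1 (Subgroup.eq_bot_iff_forall _ |>.mpr fun x _ => hne x)
  refine CfsgLib.FusionSub.system_eq_of_subsystem hX.2.1.1 fun P φ hφ => ?_
  have hPU := dom_le hφ
  set R := P ⊔ C.center with hR
  obtain ⟨ψ, hψ, hψx, hψz⟩ := (CfsgLib.FusionExamples.isCentral_center C).2 P φ hφ
  obtain ⟨φ₁, hφ₁, hd⟩ := h R ψ hψ
  have hRU : R ≤ U := sup_le hPU (center_stronglyClosed C).1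
  haveI := finite_of_le hRU
  set f := φ₁.comp (Subgroup.inclusion (le_inf le_rfl hRU : R ≤ R ⊓ U)) with hf
  have hfX : f ∈ X.Hom R := restrict_mem hφ₁ _
  have hfC : f ∈ C.Hom R := hX.2.1.1 _ hfX
  let d : R → Ω := fun x => (f x)⁻¹ * ψ x
  have hdZ : ∀ x, d x ∈ C.center := fun x => hd (Subgroup.inclusion (le_inf le_rfl hRU) x)
  have hdR : ∀ x, d x ∈ R := fun x => Subgroup.mem_sup_right (hdZ x)
  have hfd : ∀ x, f ⟨d x, hdR x⟩ = d x := fun x => center_fix hfC _ (hdZ x)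
  obtain ⟨θ, hθ, hθr, hθx, -⟩ := exists_inverse hfX rfl
  have hm : ∀ x, ψ x ∈ f.range := fun x => ⟨x * ⟨d x, hdR x⟩, by
    rw [map_mul, hfd, mul_inv_cancel_left]⟩
  have hu₀x : ∀ x : R, (θ.comp (ψ.codRestrict f.range hm)) x = (x : Ω) * d x := fun x => by
    refine Eq.trans (congrArg θ (Subtype.ext ?_)) (hθx (x * ⟨d x, hdR x⟩) ⟨_, rfl⟩)
    show ψ x = f (x * ⟨d x, hdR x⟩)
    rw [map_mul, hfd, mul_inv_cancel_left]
  obtain ⟨u, hu, hux⟩ := exists_aut_of_hom' C (C.comp_mem hψ (hX.2.1.1 _ hθ) hm) fun x => by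
    rw [hu₀x]; exact R.mul_mem x.2 (hdR x)
  have e : ∀ x : R, u x = x * ⟨d x, hdR x⟩ := fun x => Subtype.ext (by rw [hux, hu₀x]; rfl)
  have hud : ∀ x : R, d (u x) = d x := by
    intro x
    show (f (u x))⁻¹ * ψ (u x) = (f x)⁻¹ * ψ x
    rw [e, map_mul, map_mul, hfd, center_fix hψ ⟨d x, hdR x⟩ (hdZ x)]
    have h1 : (f x)⁻¹ * ψ x = d x := rfl
    calc (f x * d x)⁻¹ * (ψ x * d x) = (d x)⁻¹ * ((f x)⁻¹ * ψ x) * d x := by group
      _ = (f x)⁻¹ * ψ x := by rw [h1]; group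
  have hpow : ∀ (n : ℕ) (x : R), (((u ^ n) x : R) : Ω) = (x : Ω) * d x ^ n := by
    intro n
    induction n with
    | zero => simp
    | succ n ih =>
      intro x
      rw [pow_succ, MulAut.mul_apply, ih, hux, hu₀x, hud, pow_succ', mul_assoc]
  obtain ⟨k, hk⟩ := IsPGroup.iff_card.mp hU
  have hu1 : u ^ p ^ k = 1 := MulEquiv.ext fun x => Subtype.ext (by
    have h1 : (⟨d x, (center_stronglyClosed C).1 (hdZ x)⟩ : U) ^ p ^ k = 1 :=
      hk ▸ pow_card_eq_one'
    rw [hpow, show d x ^ p ^ k = 1 from congrArg Subtype.val h1, mul_one]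
    rfl)
  have huX := (mem_autGroup_iff X hRU).mp (pElement_mem hX.2.1 hRU hu hu1)
  have hψX : ψ ∈ X.Hom R := comp_mem_apply huX hfX (fun x => (u x).2) fun x => by
    show ψ x = f ⟨((u x : R) : Ω), (u x).2⟩
    rw [show (⟨((u x : R) : Ω), (u x).2⟩ : R) = x * ⟨d x, hdR x⟩ from e x, map_mul, hfd,
      mul_inv_cancel_left]
  exact restrict_mem_apply hψX le_sup_left fun x => (hψx x).symm

/-- A quasisimple system is fixed by the operation. -/
theorem op_quasisimple [Finite U] (hU : IsPGroup p U) {C : FusionSystem U} (hq : C.Quasisimple p)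
    {X : FusionSystem (C.hyperfocalSubgroup p)} (hX : IsOp C p X) :
    ∀ P, X.Hom P = C.Hom P := by
  obtain ⟨E, hE, hEX⟩ := hX
  have h1 : C.IsSubsystemOf E := CfsgLib.FusionSub.subsystem_of_pPowerIndex hU hq.1
    (fun _ _ h => h) hE.2 hq.2.1.ge
  have hCE : ∀ P, E.Hom P = C.Hom P := fun P => Set.Subset.antisymm (hE.2.1 P) (h1 P)
  suffices h : ∀ (V : Subgroup Ω) (E X : FusionSystem V), V = U → (∀ P, E.Hom P = C.Hom P) →
      E.IsPPrimeResidual p X → ∀ P, X.Hom P = C.Hom P from h _ E X hq.2.1 hCE hEX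
  intro V E X hV hh hX P
  subst hV
  obtain rfl := CfsgLib.FusionSub.system_ext hh
  rw [pPrimeResidual_quasisimple hU hq hX]

theorem leftSystem_isWeaklyNormalIn [Finite S] {F : FusionSystem S} (hF : F.IsSaturated p)
    (hs : CSplit F A B) : (leftSystem hs).IsWeaklyNormalIn F p := by
  refine ⟨leftSystem_isSaturated hF hs, hF, fun P φ h => h.1, hs.closedL,
    fun P hP φ hφ α hα => ?_,
    fun P hP φ hφ => ⟨1, Subgroup.one_mem _, φ, ⟨hφ, hP⟩, fun _ _ => rfl⟩⟩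
  have hαF := (mem_autGroup_iff F hs.closedL.1).mp hα
  obtain ⟨θ, hθ, hθr, hθx, -⟩ := exists_inverse (restrict_mem hαF hP)
    (range_comp_inclusion _ hP)
  have hm : ∀ y, θ y ∈ P := fun y => hθr.le ⟨y, rfl⟩
  refine ⟨_, ⟨F.comp_mem (F.comp_mem hθ hφ.1 hm) hαF
    (fun y => hs.closedL.2 P hP φ hφ.1 _), (Subgroup.map_le_range _ _).trans ?_⟩,
    fun x hφx hαx => ?_⟩
  · rintro _ ⟨y, rfl⟩
    exact (α y).2
  · refine congrArg (A.subtype.comp α.toMonoidHom) (Subtype.ext ?_)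
    exact congrArg φ (Subtype.ext (hθx x hαx))

/-- The hyperfocal subgroup lies in a strongly closed subgroup covering the system modulo the
centre. -/
theorem hyperfocal_le_of_center_sup [Finite U] {C : FusionSystem U} (hA : C.StronglyClosed A)
    (hUA : U ≤ A ⊔ C.center) : C.hyperfocalSubgroup p ≤ A := by
  refine (Subgroup.closure_le _).mpr ?_
  rintro _ ⟨P, α, x, hP, -, rfl⟩
  obtain ⟨ψ, hψ, hψx, hψz⟩ := (CfsgLib.FusionExamples.isCentral_center C).2 P _
    ((mem_autGroup_iff C hP).mp α.2)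
  obtain ⟨a, ha, z, hz, he⟩ := exists_mul_of_mem_sup (center_stronglyClosed C) hA.1 (hUA (hP x.2))
  have hzR : z ∈ P ⊔ C.center := Subgroup.mem_sup_right hz
  have haR : a ∈ P ⊔ C.center := by
    have := Subgroup.mul_mem _ (Subgroup.mem_sup_left (T := C.center) x.2)
      (Subgroup.inv_mem _ hzR)
    rwa [he, mul_inv_cancel_right] at this
  have h1 : ψ ⟨a, haR⟩ ∈ A := CfsgLib.FusionSub.stronglyClosed_apply hA hψ _ ha
  have h2 : (((α : MulAut P) x : P) : Ω) = ψ ⟨a, haR⟩ * z := by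
    refine (hψx x).symm.trans ?_
    rw [show Subgroup.inclusion (le_sup_left : P ≤ P ⊔ C.center) x = ⟨a, haR⟩ * ⟨z, hzR⟩ from
      Subtype.ext he, map_mul]
    exact congrArg _ ((congrArg ψ (Subtype.ext rfl)).trans (hψz ⟨z, hz⟩))
  show (x : Ω)⁻¹ * _ ∈ A
  rw [h2, he, mul_inv_rev]
  have hc : ∀ y ∈ A, z * y = y * z := fun y hy =>
    (C.center_le_centralizer hz y (hA.1 hy)).symm
  rw [show z⁻¹ * a⁻¹ * (ψ ⟨a, haR⟩ * z) = z⁻¹ * (a⁻¹ * ψ ⟨a, haR⟩ * z) by group,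
    ← hc _ (A.mul_mem (A.inv_mem ha) h1), inv_mul_cancel_left]
  exact A.mul_mem (A.inv_mem ha) h1

/-- A quasisimple split system equals one of its factors. -/
theorem quasisimple_split [Finite U] (hU : IsPGroup p U) {C : FusionSystem U}
    (hq : C.Quasisimple p) (hs : CSplit C A B) : U = A ∨ U = B := by
  rcases quasisimple_weaklyNormal hU hq (leftSystem_isWeaklyNormalIn hq.1 hs) with h | ⟨h, -⟩
  · exact Or.inr (le_antisymm (hq.2.1.ge.trans (hyperfocal_le_of_center_sup hs.closedR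
      (hs.sup_eq.ge.trans (sup_le (h.trans le_sup_right) le_sup_left)))) hs.closedR.1)
  · exact Or.inl (le_antisymm (hq.2.1.ge.trans (hyperfocal_le_of_center_sup hs.closedL h))
      hs.closedL.1)

/-- Subnormality by a chain of given length. -/
def SubN (C : FusionSystem U) (p : ℕ) : ℕ → ∀ {R : Subgroup Ω}, FusionSystem R → Prop
  | 0, R, F => R = U ∧ ∀ P, F.Hom P = C.Hom P
  | n + 1, R, F => ∃ (V : Subgroup Ω) (D : FusionSystem V), SubN C p n D ∧ D.IsNormalIn F p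

theorem exists_subN {R T : Subgroup Ω} {C : FusionSystem T} {F : FusionSystem R}
    (h : C.IsSubnormalIn F p) : ∃ n, SubN C p n F := by
  induction h with
  | refl F p => exact ⟨0, rfl, fun _ => rfl⟩
  | step _ hDF ih =>
    obtain ⟨n, hn⟩ := ih
    exact ⟨n + 1, _, _, hn, hDF⟩

/-- The operation preserves chains ending in a quasisimple system. -/
theorem subN_op {C : FusionSystem U} (hq : C.Quasisimple p) :
    ∀ (n : ℕ) {R : Subgroup Ω} [Finite R] {F : FusionSystem R}, IsPGroup p R → SubN C p n F →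
      ∀ X : FusionSystem (F.hyperfocalSubgroup p), IsOp F p X → SubN C p n X := by
  intro n
  induction n with
  | zero =>
    intro R _ F hR ⟨hRU, hh⟩ X hX
    subst hRU
    obtain rfl := CfsgLib.FusionSub.system_ext hh
    exact ⟨hq.2.1, op_quasisimple hR hq hX⟩
  | succ n ih =>
    intro R _ F hR ⟨V, D, hD, hDF⟩ X hX
    have hVR := hDF.1.2.2.2.1.1
    haveI := finite_of_le hVR
    obtain ⟨X₁, hX₁⟩ := exists_op (isPGroup_of_le hR hVR) hDF.1.1
    exact ⟨_, X₁, ih (isPGroup_of_le hR hVR) hD X₁ hX₁, hX.isNormalIn_op hR hDF.1 hX₁⟩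

/-- Components of split systems are subnormal in one of the factors. -/
theorem subnormal_factor {C : FusionSystem U} (hq : C.Quasisimple p) :
    ∀ (n : ℕ) {R : Subgroup Ω} [Finite R] {F : FusionSystem R}, IsPGroup p R → F.IsSaturated p →
      SubN C p n F → ∀ {A B : Subgroup Ω} (hs : CSplit F A B),
      C.IsSubnormalIn (leftSystem hs) p ∨ C.IsSubnormalIn (leftSystem hs.symm) p := by
  intro n
  induction n with
  | zero =>
    intro R _ F hR _ ⟨hRU, hh⟩ A B hs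
    subst hRU
    obtain rfl := CfsgLib.FusionSub.system_ext hh
    have key : ∀ {A B : Subgroup Ω} (hs : CSplit F A B), R = A →
        F.IsSubnormalIn (leftSystem hs) p := by
      intro A B hs h
      subst h
      have e : leftSystem hs = F :=
        CfsgLib.FusionSub.system_ext fun P => Set.ext fun φ => ⟨fun h => h.1, fun h => ⟨h, dom_le h⟩⟩
      rw [e]
      exact IsSubnormalIn.refl F p
    rcases quasisimple_split hR hq hs with h | h
    · exact Or.inl (key hs h)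
    · exact Or.inr (key hs.symm h)
  | succ n ih =>
    intro R _ F hR hF ⟨V, D, hD, hDF⟩ A B hs
    have hVR := hDF.1.2.2.2.1.1
    haveI := finite_of_le hVR
    have hVp := isPGroup_of_le hR hVR
    obtain ⟨X, hX⟩ := exists_op hVp hDF.1.1
    have hXn := hX.isNormalIn hR hDF.1
    haveI := finite_of_le ((CfsgLib.FusionSub.hyperfocal_le D p).trans hVR)
    have hsX := hs.op hR hDF.1 hX
    rcases ih (isPGroup_of_le hVp (CfsgLib.FusionSub.hyperfocal_le D p)) hX.isSaturated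
        (subN_op hq n hVp hD X hX) hsX with h | h
    · exact Or.inl (IsSubnormalIn.step h (leftSystem_isNormalIn hs hXn hsX))
    · exact Or.inr (IsSubnormalIn.step h (leftSystem_isNormalIn hs.symm hXn hsX.symm))

end CfsgLib.FusionBasics.Central
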