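import Cfsg.Agent.S5099
import Cfsg.Agent.S5162
import Cfsg.Agent.S5136
import Cfsg.Agent.S5137
import Cfsg.Agent.Lib.FusionBasics.KSaturated
import Cfsg.Agent.Lib.FusionSub.NormalCriterion

/-!
The centralizer of a strongly closed central subgroup in a normal subsystem, and the central
product of two commuting normal subsystems.
-/

set_option autoImplicit false
set_option linter.style.haveILetI false
set_option linter.unusedSectionVars false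

namespace CfsgLib.FusionBasics.Central

open Cfsg Cfsg.FusionSystem CfsgLib.Alperin CfsgLib.Alperin.NormalLift

variable {Ω : Type*} [Group Ω] {S T T₁ T₂ Z : Subgroup Ω} {p : ℕ} [Fact p.Prime]

/-- The maps of a system which extend fixing a central subgroup form a system. -/
def fixSystem [Finite T] (E : FusionSystem T) (Z : Subgroup Ω) (hZT : Z ≤ T)
    (hc : ∀ t ∈ T, ∀ z ∈ Z, t * z = z * t) : FusionSystem T where
  Hom P := {φ | φ ∈ E.Hom P ∧ FixY E Z P φ}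
  le_of_mem h := E.le_of_mem h.1
  injective_of_mem h := E.injective_of_mem h.1
  conj_mem {P g} hP hg := ⟨E.conj_mem hP hg, conjHom (P ⊔ Z) g,
    E.conj_mem (sup_le hP hZT) hg, fun _ => rfl, fun z => by
      show g * (z : Ω) * g⁻¹ = z
      rw [hc g hg z z.2, mul_inv_cancel_right]⟩
  comp_mem h₁ h₂ h := ⟨E.comp_mem h₁.1 h₂.1 h, h₁.2.comp h₂.2 h fun _ => rfl⟩
  inv_mem {P φ} hφ := by
    obtain ⟨θ, hθ, -, hθx, -⟩ := exists_inverse hφ.1 rfl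
    exact ⟨θ, ⟨hθ, hφ.2.inv rfl hθx⟩, fun x => hθx x ⟨x, rfl⟩⟩

theorem fixSystem_self [Finite T] {E : FusionSystem T} {hZT : Z ≤ T}
    {hc : ∀ t ∈ T, ∀ z ∈ Z, t * z = z * t} {P : Subgroup Ω} {ψ : ↥(P ⊔ Z) →* Ω}
    (hψ : ψ ∈ E.Hom (P ⊔ Z)) (hz : ∀ z : Z, ψ (Subgroup.inclusion le_sup_right z) = z) :
    ψ ∈ (fixSystem E Z hZT hc).Hom (P ⊔ Z) := by
  have hle : (P ⊔ Z) ⊔ Z ≤ P ⊔ Z := sup_le le_rfl le_sup_right
  exact ⟨hψ, _, restrict_mem hψ hle, fun x => congrArg ψ (Subtype.ext rfl), fun z =>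
    (congrArg ψ (Subtype.ext rfl)).trans (hz z)⟩

/-- The centralizer of a strongly closed central subgroup in a normal subsystem is normal. -/
theorem fixSystem_isNormalIn [Finite S] [Finite T] (hS : IsPGroup p S) {F : FusionSystem S}
    {E : FusionSystem T} (hE : E.IsNormalIn F p) (hZ : F.StronglyClosed Z) (hZT : Z ≤ T)
    (hc : ∀ t ∈ T, ∀ z ∈ Z, t * z = z * t) : (fixSystem E Z hZT hc).IsNormalIn F p := by
  obtain ⟨⟨hEs, hF, hEi⟩, hext⟩ := hE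
  have hTS := hEi.2.1.1
  haveI := finite_of_le hTS
  haveI := finite_of_le (hZT.trans hTS)
  have hTp := isPGroup_of_le hS hTS
  have hZE : E.StronglyClosed Z := ⟨hZT, fun R hR φ hφ x => hZ.2 R hR φ (hEi.1 R hφ) x⟩
  have hZn : E.IsFullyNormalized Z := by
    refine ⟨hZT, fun Q ⟨φ, hφ, hr⟩ => ?_⟩
    have hQZ : Q ≤ Z := by
      rw [← hr]
      rintro _ ⟨x, rfl⟩
      exact hZE.2 Z le_rfl φ hφ x
    rw [Subgroup.eq_of_le_of_card_ge hQZ (by rw [← hr, card_range_eq (E.injective_of_mem hφ)])]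
  have hnorm : E.IsNormal Z := CfsgLib.FusionSub.isNormal_of_abelian hTp hEs hZE (by
    rw [eq_bot_iff, Subgroup.commutator_le]
    intro a ha b hb
    rw [Subgroup.mem_bot, commutatorElement_def, hc a (hZT ha) b hb]
    group)
  have hsat : (fixSystem E Z hZT hc).IsSaturated p := by
    obtain ⟨C, hC⟩ := exists_centralizerSystem E hZT
    have hCs := Cfsg.Agent.S5099.result p hTp E hEs Z
      (centralized_automized_of_fullyNormalized hTp hEs hZn).1 C hC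
    have hCT : centralizerIn T Z = T := le_antisymm inf_le_left fun t ht =>
      ⟨ht, fun z hz => (hc t ht z hz).symm⟩
    have hh : ∀ P, C.Hom P = (fixSystem E Z hZT hc).Hom P := fun P => by
      rw [hC P]
      refine Set.ext fun φ => ⟨fun h => ⟨h.1, h.2.2.2⟩, fun h => ⟨h.1, ?_, fun x => ?_, h.2⟩⟩
      · exact hCT.symm ▸ dom_le h.1
      · exact hCT.symm ▸ apply_mem h.1 x
    clear hC
    revert C
    rw [hCT]
    intro C hCs hh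
    exact CfsgLib.FusionSub.system_ext hh ▸ hCs
  refine ⟨⟨hsat, hF, fun P φ h => hEi.1 P h.1, hEi.2.1, fun P hPT φ hφ α hα => ?_,
    fun P hPT φ hφ => ?_⟩, fun α hα => hext α ?_⟩
  · obtain ⟨hφE, ψ, hψ, hψx, hψz⟩ := hφ
    obtain ⟨χ, hχ, hχx⟩ := hEi.2.2.1 P hPT φ hφE α hα
    obtain ⟨χ', hχ', hχ'x⟩ := hEi.2.2.1 _ (sup_le hPT hZT) ψ hψ α hα
    have hαF := (mem_autGroup_iff F hTS).mp hα
    have hpre : ∀ z ∈ Z, ∃ w : T, (w : Ω) ∈ Z ∧ ((α w : T) : Ω) = z := fun z hz =>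
      CfsgLib.FusionSub.exists_mem_of_mem_stronglyClosed hZ hZT hαF hz
    have hle : (P.subgroupOf T).map (T.subtype.comp α.toMonoidHom) ⊔ Z ≤
        ((P ⊔ Z).subgroupOf T).map (T.subtype.comp α.toMonoidHom) := by
      refine sup_le ?_ fun z hz => ?_
      · rintro _ ⟨w, hw, rfl⟩
        exact ⟨w, Subgroup.mem_subgroupOf.mpr (Subgroup.mem_sup_left hw), rfl⟩
      · obtain ⟨w, hw, rfl⟩ := hpre z hz
        exact ⟨w, Subgroup.mem_subgroupOf.mpr (Subgroup.mem_sup_right hw), rfl⟩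
    refine ⟨χ, ⟨hχ, _, restrict_mem hχ' hle, ?_, fun z => ?_⟩, hχx⟩
    · rintro ⟨_, w, hw, rfl⟩
      have hw' : (w : Ω) ∈ P := hw
      refine Eq.trans ?_ (hχx ⟨w, hw'⟩ (apply_mem hφE _) ⟨w, hw, rfl⟩).symm
      refine (hχ'x (Subgroup.inclusion le_sup_left ⟨(w : Ω), hw'⟩) (apply_mem hψ _)
        ⟨w, Subgroup.mem_subgroupOf.mpr (Subgroup.mem_sup_left hw'), rfl⟩).trans ?_
      simp only [hψx]
    · obtain ⟨w, hw, hwz⟩ := hpre z z.2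
      have e : Subgroup.inclusion hle (Subgroup.inclusion le_sup_right z) =
          ⟨((α w : T) : Ω), w, Subgroup.mem_subgroupOf.mpr (Subgroup.mem_sup_right hw), rfl⟩ :=
        Subtype.ext hwz.symm
      show χ' (Subgroup.inclusion hle (Subgroup.inclusion le_sup_right z)) = z
      rw [e]
      refine (hχ'x (Subgroup.inclusion le_sup_right ⟨(w : Ω), hw⟩) (apply_mem hψ _)
        ⟨w, Subgroup.mem_subgroupOf.mpr (Subgroup.mem_sup_right hw), rfl⟩).trans ?_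
      simp only [hψz]
      exact hwz
  · obtain ⟨a, ha, φ₀, hφ₀, hx⟩ := hEi.2.2.2 P hPT φ hφ
    obtain ⟨ψ₀, hψ₀, hψ₀x, hψ₀m⟩ := hnorm.2 P φ₀ hφ₀
    set r := ψ₀.comp (Subgroup.inclusion (le_sup_right : Z ≤ P ⊔ Z)) with hr
    have hrE : r ∈ E.Hom Z := restrict_mem hψ₀ le_sup_right
    have hrr : r.range = Z := by rw [hr, range_comp_inclusion]; exact hψ₀m
    obtain ⟨ψ, hψ, hψx⟩ := (receptive_of_fullyNormalized hTp hEs hZn).2 Z r hrE hrr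
    have hTle : T ≤ extender T Z r := fun t ht => by
      refine mem_extender_iff.mpr ⟨ht, CfsgLib.FusionSub.stronglyClosed_le_normalizer hZE ht, 1,
        T.one_mem, fun x hx => ?_⟩
      have e : t * (x : Ω) * t⁻¹ = x := by rw [hc t ht x x.2, mul_inv_cancel_right]
      simp only [e, one_mul, inv_one, mul_one]
    obtain ⟨c, hcE, hcx⟩ := exists_aut_of_hom' E (restrict_mem hψ hTle) fun t =>
      apply_mem (restrict_mem hψ hTle) t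
    have hcz : ∀ (z : Ω) (hz : z ∈ Z), ((c ⟨z, hZT hz⟩ : T) : Ω) = r ⟨z, hz⟩ := fun z hz =>
      (hcx _).trans (hψx z hz _)
    have hci := (mem_autGroup_iff E le_rfl).mp (inv_mem hcE)
    have hm : ∀ x : ↥(P ⊔ Z), ψ₀ x ∈ T := apply_mem hψ₀
    set χ := (T.subtype.comp (c⁻¹ : MulAut T).toMonoidHom).comp (ψ₀.codRestrict T hm) with hχ
    have hχE : χ ∈ E.Hom (P ⊔ Z) := E.comp_mem hψ₀ hci hm
    have hχz : ∀ z : Z, χ (Subgroup.inclusion le_sup_right z) = z := fun z => by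
      show (((c⁻¹ : MulAut T) ⟨ψ₀ (Subgroup.inclusion le_sup_right z), _⟩ : T) : Ω) = z
      have e : (⟨ψ₀ (Subgroup.inclusion le_sup_right z), hm _⟩ : T) = c ⟨z, hZT z.2⟩ :=
        Subtype.ext (hcz z z.2).symm
      rw [e, MulAut.inv_apply_self]
    refine ⟨a * c, mul_mem ha (CfsgLib.FusionSub.autGroup_mono hEi.1 _ hcE),
      χ.comp (Subgroup.inclusion le_sup_left), ⟨restrict_mem hχE le_sup_left, χ, hχE,
        fun _ => rfl, hχz⟩, fun x hxT => ?_⟩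
    rw [MulAut.mul_apply, hx x (apply_mem hφ₀ x)]
    refine congrArg (fun v : T => ((a v : T) : Ω)) ?_
    show _ = c ((c⁻¹ : MulAut T) ⟨ψ₀ (Subgroup.inclusion le_sup_left x), hm _⟩)
    rw [MulAut.apply_inv_self]
    exact Subtype.ext (hψ₀x x).symm
  · exact (mem_autGroup_iff E le_rfl).mpr ((mem_autGroup_iff _ le_rfl).mp hα).1

/-- Powers with exponent `1` modulo `m` and divisible by a power of `p`. -/
theorem exists_exponent {m : ℕ} (hm : m.Coprime p) (k : ℕ) :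
    ∃ j, (∀ {G : Type _} [Monoid G] {g : G}, g ^ m = 1 → g ^ j = g) ∧ p ^ k ∣ j := by
  have hm0 : m ≠ 0 := fun h => (Fact.out : p.Prime).ne_one (by simpa [h] using hm)
  refine ⟨(p ^ k) ^ Nat.totient m, fun {G} _ {g} hg => ?_,
    dvd_pow_self _ (Nat.totient_pos.mpr (Nat.pos_of_ne_zero hm0)).ne'⟩
  have hmod : (p ^ k) ^ Nat.totient m % m = 1 % m := Nat.ModEq.pow_totient (hm.symm.pow_left k)
  rw [← Nat.mod_add_div ((p ^ k) ^ Nat.totient m) m, hmod, pow_add, pow_mul, hg, one_pow, mul_one]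
  rcases eq_or_ne m 1 with rfl | h1
  · rw [pow_one] at hg
    simp [hg]
  · rw [Nat.mod_eq_of_lt (by omega), pow_one]

/-- An automorphism of order prime to `p` in a normal subsystem over `T₁` extends over `C_S(T₁)`
fixing a commuting strongly closed subgroup whose intersection with `T₁` is central. -/
theorem exists_good_fix [Finite S] (hS : IsPGroup p S) {F : FusionSystem S}
    {E₁ : FusionSystem T₁} (hE : E₁.IsNormalIn F p) (hT₂ : F.StronglyClosed T₂)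
    (hcomm : ∀ a ∈ T₁, ∀ b ∈ T₂, a * b = b * a)
    (hZ : ∀ (P : Subgroup Ω) (φ : P →* Ω), φ ∈ E₁.Hom P → FixY E₁ (T₁ ⊓ T₂) P φ)
    {Q : Subgroup Ω} (hQ : E₁.IsCentric Q) {γ : MulAut Q} (hγ : γ ∈ E₁.autGroup Q)
    (hc : (orderOf γ).Coprime p) :
    ∃ δ ∈ F.Hom (Q ⊔ centralizerIn S T₁),
      (∀ x : Q, δ (Subgroup.inclusion le_sup_left x) = ((γ x : Q) : Ω)) ∧
      (∀ (y : Ω) (h : y ∈ Q ⊔ centralizerIn S T₁), y ∈ T₂ → δ ⟨y, h⟩ = y) ∧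
      (∀ z, δ z ∈ Q ⊔ centralizerIn S T₁) ∧
      ∀ c : centralizerIn S T₁, (c : Ω)⁻¹ * δ (Subgroup.inclusion le_sup_right c) ∈ Q := by
  set C := centralizerIn S T₁ with hC
  have hT₁S := hE.1.2.2.2.1.1
  haveI := finite_of_le hT₁S
  have hγE := (mem_autGroup_iff E₁ hQ.1).mp hγ
  obtain ⟨ψ, hψ, hψx, hψc⟩ := goodExt_of_mem hS hE hγE hQ
  rw [CfsgLib.FusionSub.range_subtype_comp_aut] at hψc
  haveI := finite_of_le (sup_le (hQ.1.trans hT₁S) (centralizerIn_le S T₁) : Q ⊔ C ≤ S)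
  have hval : ∀ z, ψ z ∈ Q ⊔ C := fun z => by
    have := mem_sup_of_good hψx (by rw [CfsgLib.FusionSub.range_subtype_comp_aut]; exact hψc) z
    rwa [CfsgLib.FusionSub.range_subtype_comp_aut] at this
  obtain ⟨Δ, hΔ, hΔx⟩ := exists_aut_of_hom' F hψ hval
  have hpowQ : ∀ (n : ℕ) (x : Q), (Δ ^ n) (Subgroup.inclusion le_sup_left x) =
      Subgroup.inclusion le_sup_left ((γ ^ n) x) := by
    intro n
    induction n with
    | zero => simp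
    | succ n ih =>
      intro x
      rw [pow_succ', pow_succ', MulAut.mul_apply, MulAut.mul_apply, ih]
      exact Subtype.ext ((hΔx _).trans (hψx _))
  have hpowC : ∀ (n : ℕ) (c : C), ∃ q : Q, (Δ ^ n) (Subgroup.inclusion le_sup_right c) =
      Subgroup.inclusion le_sup_right c * Subgroup.inclusion le_sup_left q := by
    intro n
    induction n with
    | zero => exact fun c => ⟨1, by simp⟩
    | succ n ih =>
      intro c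
      obtain ⟨q, hq⟩ := ih c
      refine ⟨⟨_, hψc c⟩ * γ q, ?_⟩
      rw [pow_succ', MulAut.mul_apply, hq, map_mul, map_mul, ← mul_assoc]
      congr 1
      · refine Subtype.ext ((hΔx _).trans ?_)
        show ψ (Subgroup.inclusion le_sup_right c) = (c : Ω) * ((c : Ω)⁻¹ * _)
        rw [mul_inv_cancel_left]
      · exact Subtype.ext ((hΔx _).trans (hψx q))
  have hcentQ : ∀ x : Ω, x ∈ T₁ → x ∈ T₂ → x ∈ Q := fun x h1 h2 =>
    hQ.2 Q (isConj_refl E₁ hQ.1) ⟨h1, fun q hq => hcomm q (hQ.1 hq) x h2⟩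
  have hfixZ : ∀ x : Q, (x : Ω) ∈ T₂ → γ x = x := fun x hx => by
    obtain ⟨χ, -, hχx, hχz⟩ := hZ Q _ hγE
    refine Subtype.ext ((hχx x).symm.trans ?_)
    exact (congrArg χ (Subtype.ext rfl)).trans (hχz ⟨x, hQ.1 x.2, hx⟩)
  have hT₂C : T₂ ≤ C := fun y hy => ⟨hT₂.1 hy, fun x hx => hcomm x hx y hy⟩
  have hd : ∀ (y : Ω) (hy : y ∈ T₂), ∃ d : Q, (d : Ω) ∈ T₂ ∧ ∀ n : ℕ,
      (Δ ^ n) (Subgroup.inclusion le_sup_right (⟨y, hT₂C hy⟩ : C)) =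
        Subgroup.inclusion le_sup_right (⟨y, hT₂C hy⟩ : C) *
          Subgroup.inclusion le_sup_left (d ^ n) := by
    intro y hy
    set w : ↥(Q ⊔ C) := Subgroup.inclusion le_sup_right (⟨y, hT₂C hy⟩ : C) with hw
    let d : Q := ⟨_, hψc ⟨y, hT₂C hy⟩⟩
    have hdT : (d : Ω) ∈ T₂ := T₂.mul_mem (T₂.inv_mem hy)
      (CfsgLib.FusionSub.stronglyClosed_apply hT₂ hψ w hy)
    refine ⟨d, hdT, fun n => ?_⟩
    induction n with
    | zero => simp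
    | succ n ih =>
      rw [pow_succ', MulAut.mul_apply, ih, map_mul, pow_succ', map_mul
        (Subgroup.inclusion (le_sup_left : Q ≤ Q ⊔ C)), ← mul_assoc]
      congr 1
      · refine Subtype.ext ((hΔx _).trans ?_)
        show ψ w = y * (y⁻¹ * ψ w)
        rw [mul_inv_cancel_left]
      · refine Subtype.ext ((hΔx _).trans ((hψx _).trans ?_))
        exact congrArg Subtype.val (hfixZ (d ^ n) (T₂.pow_mem hdT n))
  obtain ⟨k, hk⟩ := IsPGroup.iff_card.mp hS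
  obtain ⟨j, hj, hjp⟩ := exists_exponent (p := p) hc k
  have hδF := (mem_autGroup_iff F
    (sup_le (hQ.1.trans hT₁S) (centralizerIn_le S T₁))).mp (Subgroup.pow_mem _ hΔ j)
  refine ⟨_, hδF, fun x => ?_, fun y h hy => ?_, fun z => ((Δ ^ j) z).2, fun c => ?_⟩
  · show (((Δ ^ j) (Subgroup.inclusion le_sup_left x) : ↥(Q ⊔ C)) : Ω) = _
    rw [hpowQ, hj (pow_orderOf_eq_one γ)]
    rfl
  · obtain ⟨d, -, hd⟩ := hd y hy
    show (((Δ ^ j) ⟨y, h⟩ : ↥(Q ⊔ C)) : Ω) = y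
    rw [show (⟨y, h⟩ : ↥(Q ⊔ C)) = Subgroup.inclusion le_sup_right (⟨y, hT₂C hy⟩ : C) from rfl, hd]
    obtain ⟨t, rfl⟩ := hjp
    have h1 : (⟨(d : Ω), hT₁S (hQ.1 d.2)⟩ : S) ^ p ^ k = 1 := hk ▸ pow_card_eq_one'
    have h2 : d ^ p ^ k = 1 := Subtype.ext (congrArg Subtype.val h1 :)
    rw [pow_mul, h2, one_pow, map_one, mul_one]
    rfl
  · obtain ⟨q, hq⟩ := hpowC j c
    show (c : Ω)⁻¹ * (((Δ ^ j) (Subgroup.inclusion le_sup_right c) : ↥(Q ⊔ C)) : Ω) ∈ Q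
    rw [hq]
    simp

/-- Maps of a normal subsystem extend fixing a commuting strongly closed subgroup. -/
theorem fixY_of_commuting [Finite S] (hS : IsPGroup p S) {F : FusionSystem S}
    {E₁ : FusionSystem T₁} (hE : E₁.IsNormalIn F p) (hT₂ : F.StronglyClosed T₂)
    (hcomm : ∀ a ∈ T₁, ∀ b ∈ T₂, a * b = b * a)
    (hZ : ∀ (P : Subgroup Ω) (φ : P →* Ω), φ ∈ E₁.Hom P → FixY E₁ (T₁ ⊓ T₂) P φ)
    {P : Subgroup Ω} {φ : P →* Ω} (hφ : φ ∈ E₁.Hom P) : FixY F T₂ P φ := by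
  have hT₁S := hE.1.2.2.2.1.1
  haveI := finite_of_le hT₁S
  have hT₁p := isPGroup_of_le hS hT₁S
  refine CfsgLib.FusionSub.closed_induction_centric hT₁p hE.1.1 (closed_fixY T₂)
    (fun Q hQ hQc _ α hα => ?_) hφ
  let B : Subgroup (MulAut Q) :=
    { carrier := {a | FixY F T₂ Q (Q.subtype.comp a.toMonoidHom)}
      one_mem' := (FixY.incl (hQ.1.trans hT₁S) hT₂.1).congr fun _ => rfl
      mul_mem' := fun {a b} ha hb => hb.comp ha (fun x => (b x).2) fun _ => rfl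
      inv_mem' := fun {a} ha => ha.inv (CfsgLib.FusionSub.range_subtype_comp_aut a) fun x hx => by
        show (((a⁻¹ : MulAut Q) (a x) : Q) : Ω) = x
        rw [MulAut.inv_apply_self] }
  refine autGroup_le_of_pPrime hT₁p hE.1.1 hQ (B := B) (fun a ha => ?_) (fun γ hγ hc => ?_) hα
  · obtain ⟨t, ht, htx⟩ := mem_autInducedBy_iff.mp ha
    refine ⟨conjHom _ t, F.conj_mem (sup_le (hQ.1.trans hT₁S) hT₂.1) (hT₁S ht),
      fun x => (htx x).symm, fun y => ?_⟩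
    show t * (y : Ω) * t⁻¹ = y
    rw [hcomm t ht y y.2, mul_inv_cancel_right]
  · obtain ⟨δ, hδ, hδx, hδy, -, -⟩ := exists_good_fix hS hE hT₂ hcomm hZ hQc hγ hc
    have hle : Q ⊔ T₂ ≤ Q ⊔ centralizerIn S T₁ :=
      sup_le_sup_left (fun y hy => ⟨hT₂.1 hy, fun x hx => hcomm x hx y hy⟩) Q
    exact ⟨_, restrict_mem hδ hle, fun x => hδx x, fun y => hδy y _ y.2⟩

/-- The part of the Frattini condition of a split subsystem at a subgroup containing one factor. -/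
theorem frattini_step [Finite S] (hS : IsPGroup p S) {F : FusionSystem S} (hF : F.IsSaturated p)
    {D : FusionSystem T} (hinv : InvCond D F) (hTc : F.StronglyClosed T) {A B : Subgroup Ω}
    (hs : CSplit D A B) (hDF : D.IsSubsystemOf F) (hA : F.StronglyClosed A)
    (hB : (leftSystem hs.symm).IsInvariantIn F) {Q : Subgroup Ω}
    (hQT : Q < T) (hAQ : A ≤ Q) (hQ : F.IsFullyNormalized Q)
    (big : ∀ R : Subgroup Ω, R ≤ T → Nat.card Q < Nat.card R → ∀ ψ ∈ F.Hom R,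
      ψ ∈ (frattiniSystem D F hinv).Hom R)
    {α : MulAut Q} (hα : α ∈ F.autGroup Q) :
    Q.subtype.comp α.toMonoidHom ∈ (frattiniSystem D F hinv).Hom Q := by
  have hαF := (mem_autGroup_iff F hQ.1).mp hα
  have hBT := hs.closedR.1
  have hAT := hs.closedL.1
  set B₀ := Q ⊓ B with hB₀
  obtain ⟨a, ha, e, he, hex⟩ := hB.2.2.2 B₀ inf_le_right _
    (restrict_mem hαF (inf_le_left : B₀ ≤ Q))
  obtain ⟨ψ, hψ, hψx, hψy⟩ := hs.liftR B₀ inf_le_right e he.1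
  have hdec : ∀ x ∈ Q, ∃ t ∈ A, ∃ b ∈ B₀, x = t * b := by
    intro x hx
    obtain ⟨t, ht, b, hb, rfl⟩ := exists_mul_of_le_sup hs.comm (hs.sup_eq.ge (hQT.le hx))
    refine ⟨t, ht, b, ⟨?_, hb⟩, rfl⟩
    have := Q.mul_mem (Q.inv_mem (hAQ ht)) hx
    rwa [inv_mul_cancel_left] at this
  have hQle : Q ≤ B₀ ⊔ A := fun x hx => by
    obtain ⟨t, ht, b, hb, rfl⟩ := hdec x hx
    exact Subgroup.mul_mem _ (Subgroup.mem_sup_right ht) (Subgroup.mem_sup_left hb)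
  set ε := ψ.comp (Subgroup.inclusion hQle) with hεd
  have hεD : ε ∈ D.Hom Q := restrict_mem hψ hQle
  have hεA : ∀ x : Q, (x : Ω) ∈ A → ε x = x := fun x hx =>
    (congrArg ψ (Subtype.ext rfl)).trans (hψy ⟨x, hx⟩)
  have hεB : ∀ (x : Q) (hx : (x : Ω) ∈ B), ε x = e ⟨x, x.2, hx⟩ := fun x hx =>
    (congrArg ψ (Subtype.ext rfl)).trans (hψx ⟨x, x.2, hx⟩)
  set Q' := ε.range with hQ'
  have hQ'T : Q' ≤ T := range_le hεD
  haveI := finite_of_le hTc.1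
  haveI := finite_of_le hQT.le
  have hcard : Nat.card Q' = Nat.card Q := card_range_eq (D.injective_of_mem hεD)
  obtain ⟨θ, hθ, hθr, hθx, hθy⟩ := exists_inverse hεD rfl
  have hθm : ∀ y, θ y ∈ Q := fun y => hθr.le ⟨y, rfl⟩
  set ρ := (Q.subtype.comp α.toMonoidHom).comp (θ.codRestrict Q hθm) with hρd
  have hρB : ∀ (y : Q') (hy : (y : Ω) ∈ B),
      ρ y = ((a ⟨y, hy⟩ : B) : Ω) := by
    rintro ⟨_, x, rfl⟩ hy
    have hxθ : θ.codRestrict Q hθm ⟨ε x, x, rfl⟩ = x := Subtype.ext (hθx x _)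
    show ((α (θ.codRestrict Q hθm ⟨ε x, x, rfl⟩) : Q) : Ω) = _
    rw [hxθ]
    obtain ⟨t, ht, b, hb, hxe⟩ := hdec x x.2
    have h1 : ε x = t * ε ⟨b, hb.1⟩ := by
      rw [show x = ⟨t, hAQ ht⟩ * ⟨b, hb.1⟩ from Subtype.ext hxe, map_mul, hεA _ ht]
    have h2 : ε ⟨b, hb.1⟩ ∈ B :=
      CfsgLib.FusionSub.stronglyClosed_apply hs.closedR hεD _ hb.2
    have htB : t ∈ B := by
      have := B.mul_mem (show ε x ∈ B from hy) (B.inv_mem h2)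
      rwa [h1, mul_inv_cancel_right] at this
    have hxB : (x : Ω) ∈ B := hxe ▸ B.mul_mem htB hb.2
    refine (hex ⟨x, x.2, hxB⟩ (apply_mem he _)).trans ?_
    exact congrArg (fun v : B => ((a v : B) : Ω)) (Subtype.ext (hεB x hxB).symm)
  have hρA : ∀ (y : Q') (hy : (y : Ω) ∈ A), ρ y = ((α ⟨y, hAQ hy⟩ : Q) : Ω) := by
    intro y hy
    show ((α (θ.codRestrict Q hθm y) : Q) : Ω) = _
    refine congrArg (fun v : Q => ((α v : Q) : Ω)) (D.injective_of_mem hεD ?_)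
    rw [hεA ⟨y, hAQ hy⟩ hy]
    exact hθy y (hθm y)
  have hAQ' : A ≤ Q' := fun t ht => ⟨⟨t, hAQ ht⟩, hεA _ ht⟩
  have hBQ' : ¬ B ≤ Q' := fun h => hQT.ne (Subgroup.eq_of_le_of_card_ge hQT.le (by
    rw [← hcard, le_antisymm hQ'T (hs.sup_eq.ge.trans (sup_le hAQ' h))]))
  haveI := finite_of_le (sup_le hQ'T hBT : Q' ⊔ B ≤ T)
  obtain ⟨g, hg, hgN, hgQ⟩ := CfsgLib.FusionSub.exists_mem_normalizer_not_mem hS
    (lt_of_le_of_ne (le_sup_left : Q' ≤ Q' ⊔ B) fun h => hBQ' (le_sup_right.trans h.ge))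
    ((sup_le hQ'T hBT).trans hTc.1)
  obtain ⟨q, hq, n, hn, rfl⟩ := exists_mul_of_mem_sup hs.closedR hQ'T hg
  have hnN : n ∈ Subgroup.normalizer (Q' : Set Ω) := by
    have := Subgroup.mul_mem _ (Subgroup.inv_mem _ (Subgroup.le_normalizer hq)) hgN
    rwa [inv_mul_cancel_left] at this
  have hnQ : n ∉ Q' := fun h => hgQ (Q'.mul_mem hq h)
  have hnext : n ∈ extender S Q' ρ := by
    refine mem_extender_iff.mpr ⟨hTc.1 (hBT hn), hnN, (a ⟨n, hn⟩ : B),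
      hTc.1 (hBT (a ⟨n, hn⟩).2), fun x hx => ?_⟩
    obtain ⟨t, ht, b, hb, he'⟩ := exists_mul_of_le_sup hs.comm (hs.sup_eq.ge (hQ'T x.2))
    have hbQ : b ∈ Q' := by
      have := Q'.mul_mem (Q'.inv_mem (hAQ' ht)) x.2
      rwa [he', inv_mul_cancel_left] at this
    have hbn : n * b * n⁻¹ ∈ Q' := mem_normalizer_conj hnN hbQ
    have hbnB : n * b * n⁻¹ ∈ B := B.mul_mem (B.mul_mem hn hb) (B.inv_mem hn)
    have e1 : (⟨n * x * n⁻¹, hx⟩ : Q') = ⟨t, hAQ' ht⟩ * ⟨n * b * n⁻¹, hbn⟩ := Subtype.ext (by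
      show n * (x : Ω) * n⁻¹ = t * (n * b * n⁻¹)
      rw [he', ← mul_assoc, ← hs.comm t ht n hn]
      group)
    have e2 : x = (⟨t, hAQ' ht⟩ : Q') * ⟨b, hbQ⟩ := Subtype.ext he'
    rw [e1, e2, map_mul, map_mul, hρB ⟨n * b * n⁻¹, hbn⟩ hbnB, hρB ⟨b, hbQ⟩ hb,
      show (⟨n * b * n⁻¹, hbnB⟩ : B) = ⟨n, hn⟩ * ⟨b, hb⟩ * ⟨n, hn⟩⁻¹ from rfl, map_mul, map_mul,
      map_inv]
    have hρt : ρ ⟨t, hAQ' ht⟩ ∈ A := by
      rw [hρA _ ht]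
      haveI := finite_of_le hAT
      exact CfsgLib.FusionSub.stronglyClosed_apply hA hαF ⟨t, hAQ ht⟩ ht
    have h := hs.comm _ hρt _ (a ⟨n, hn⟩).2
    show ρ ⟨t, hAQ' ht⟩ * ((a ⟨n, hn⟩ : B) * (a ⟨b, hb⟩ : B) * ((a ⟨n, hn⟩ : B) : Ω)⁻¹) =
      (a ⟨n, hn⟩ : B) * (ρ ⟨t, hAQ' ht⟩ * (a ⟨b, hb⟩ : B)) * ((a ⟨n, hn⟩ : B) : Ω)⁻¹
    rw [← mul_assoc, ← mul_assoc, h]
    group
  have hρF : ρ ∈ F.Hom Q' :=
    comp_mem_apply (hDF _ hθ) hαF hθm fun y => rfl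
  have hρr : ρ.range = Q := by
    refine Subgroup.eq_of_le_of_card_ge (by rintro _ ⟨y, rfl⟩; exact (α _).2) ?_
    rw [card_range_eq (F.injective_of_mem hρF), hcard]
  obtain ⟨ψ', hψ', hψ'x⟩ := (receptive_of_fullyNormalized hS hF hQ).2 Q' ρ hρF hρr
  have hQ'e : Q' ≤ T ⊓ extender S Q' ρ := le_inf hQ'T (le_extender hρF)
  have hlt : Q' < T ⊓ extender S Q' ρ :=
    lt_of_le_of_ne hQ'e fun h => hnQ (h.ge ⟨hBT hn, hnext⟩)
  have h1 := big _ inf_le_left (hcard ▸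
    CfsgLib.FusionSub.card_lt_card (inf_le_left.trans hTc.1) hlt) _
    (restrict_mem hψ' inf_le_right)
  have h2 : ρ ∈ (frattiniSystem D F hinv).Hom Q' :=
    restrict_mem_apply h1 hQ'e fun y => (hψ'x y y.2 _).symm
  refine comp_mem_apply (mem_frattiniSystem_of_mem hinv hεD) h2 (fun x => ⟨x, rfl⟩) fun x => ?_
  show ((α x : Q) : Ω) = ((α (θ.codRestrict Q hθm ⟨ε x, x, rfl⟩) : Q) : Ω)
  exact congrArg (fun v : Q => ((α v : Q) : Ω)) (Subtype.ext (hθx x _).symm)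


section Pair

variable [Finite S] {F : FusionSystem S} {E₁ : FusionSystem T₁} {E₂ : FusionSystem T₂}
  {D : FusionSystem (T₁ ⊔ T₂)}

/-- A central product of two commuting normal subsystems lies in the whole system. -/
theorem central_le (hS : IsPGroup p S) (hE₁ : E₁.IsNormalIn F p) (hE₂ : E₂.IsNormalIn F p)
    (hcomm : ∀ a ∈ T₁, ∀ b ∈ T₂, a * b = b * a)
    (hZ₁ : ∀ (P : Subgroup Ω) (φ : P →* Ω), φ ∈ E₁.Hom P → FixY E₁ (T₁ ⊓ T₂) P φ)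
    (hZ₂ : ∀ (P : Subgroup Ω) (φ : P →* Ω), φ ∈ E₂.Hom P → FixY E₂ (T₁ ⊓ T₂) P φ)
    (hD : FusionSystem.IsCentralProductOf E₁ E₂ D) : D.IsSubsystemOf F := by
  haveI := finite_of_le hE₁.1.2.2.2.1.1
  haveI := finite_of_le hE₂.1.2.2.2.1.1
  haveI := finite_of_le (sup_le hE₁.1.2.2.2.1.1 hE₂.1.2.2.2.1.1)
  obtain ⟨-, -, hdown, -⟩ := Cfsg.Agent.S5162.central_hom hD
  intro P φ hφ
  have hPle₀ := hdown P φ hφ
  set P₁ := (P ⊔ T₂) ⊓ T₁ with hP₁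
  set P₂ := (P ⊔ T₁) ⊓ T₂ with hP₂
  obtain ⟨φ₁, hφ₁, φ₂, hφ₂, hx⟩ := hPle₀
  obtain ⟨ψ₁, hψ₁, h1x, h1y⟩ :=
    fixY_of_commuting hS hE₁ hE₂.1.2.2.2.1 hcomm hZ₁ hφ₁
  obtain ⟨ψ₂, hψ₂, h2x, h2y⟩ := fixY_of_commuting hS hE₂ hE₁.1.2.2.2.1
    (fun b hb a ha => (hcomm a ha b hb).symm)
    (fun P φ h => inf_comm T₁ T₂ ▸ hZ₂ P φ h) hφ₂
  have hPle : P ≤ P₁ ⊔ P₂ := le_hat hcomm (dom_le hφ)
  have hle : P₁ ⊔ P₂ ≤ P₁ ⊔ T₂ := sup_le_sup_left inf_le_right _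
  have hm : ∀ z : ↥(P₁ ⊔ P₂), ψ₁ (Subgroup.inclusion hle z) ∈ P₂ ⊔ T₁ := by
    refine apply_mem_of_sup (ψ₁.comp (Subgroup.inclusion hle)) (fun a => ?_) fun b => ?_
    · refine Subgroup.mem_sup_right ?_
      exact ((congrArg ψ₁ (Subtype.ext rfl)).trans (h1x a)).symm ▸ apply_mem hφ₁ a
    · refine Subgroup.mem_sup_left ?_
      exact ((congrArg ψ₁ (Subtype.ext rfl)).trans (h1y ⟨b, b.2.2⟩)).symm ▸ b.2
  refine restrict_mem_apply (F.comp_mem (restrict_mem hψ₁ hle) hψ₂ hm) hPle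
    fun x => ?_
  obtain ⟨a, ha, b, hb, he⟩ := exists_mul_of_le_sup hcomm (dom_le hφ x.2)
  obtain ⟨ha', hb'⟩ := proj_mem x.2 ha hb he
  have e1 : ψ₁ (Subgroup.inclusion hle (Subgroup.inclusion hPle x)) = φ₁ ⟨a, ha'⟩ * b := by
    rw [show Subgroup.inclusion hle (Subgroup.inclusion hPle x) =
      Subgroup.inclusion le_sup_left (⟨a, ha'⟩ : P₁) * Subgroup.inclusion le_sup_right ⟨b, hb⟩
      from Subtype.ext he, map_mul, h1x, h1y]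
  rw [hx x ⟨a, ha'⟩ ⟨b, hb'⟩ he]
  show _ = ψ₂ ⟨ψ₁ (Subgroup.inclusion hle (Subgroup.inclusion hPle x)), hm _⟩
  rw [show (⟨ψ₁ (Subgroup.inclusion hle (Subgroup.inclusion hPle x)), hm _⟩ : ↥(P₂ ⊔ T₁)) =
    Subgroup.inclusion le_sup_right ⟨φ₁ ⟨a, ha'⟩, apply_mem hφ₁ _⟩ *
      Subgroup.inclusion le_sup_left (⟨b, hb'⟩ : P₂) from Subtype.ext e1, map_mul, h2x, h2y]

/-- A central product of two commuting normal subsystems is invariant. -/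
theorem central_invCond (hE₁ : E₁.IsInvariantIn F) (hE₂ : E₂.IsInvariantIn F)
    (hD : FusionSystem.IsCentralProductOf E₁ E₂ D) : InvCond D F := by
  haveI := finite_of_le hE₁.2.1.1
  haveI := finite_of_le hE₂.2.1.1
  have hTS := sup_le hE₁.2.1.1 hE₂.2.1.1
  haveI := finite_of_le hTS
  obtain ⟨-, hcomm, hdown, hup⟩ := Cfsg.Agent.S5162.central_hom hD
  intro P hPT φ hφ α hα
  have hαF := (mem_autGroup_iff F hTS).mp hα
  have hres : ∀ {U : Subgroup Ω}, F.StronglyClosed U → U ≤ T₁ ⊔ T₂ →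
      ∃ γ ∈ F.autGroup U, ∀ (x : Ω) (hxU : x ∈ U) (hx : x ∈ T₁ ⊔ T₂),
        ((γ ⟨x, hxU⟩ : U) : Ω) = ((α ⟨x, hx⟩ : ↥(T₁ ⊔ T₂)) : Ω) := by
    intro U hU hUT
    haveI := finite_of_le hUT
    obtain ⟨γ, hγ, hγx⟩ := exists_aut_of_hom' F (restrict_mem hαF hUT) fun y =>
      CfsgLib.FusionSub.stronglyClosed_apply hU (restrict_mem hαF hUT) y y.2
    exact ⟨γ, hγ, fun x hxU hx => hγx ⟨x, hxU⟩⟩
  obtain ⟨γ₁, hγ₁, hγ₁x⟩ := hres hE₁.2.1 le_sup_left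
  obtain ⟨γ₂, hγ₂, hγ₂x⟩ := hres hE₂.2.1 le_sup_right
  obtain ⟨φ₁, hφ₁, φ₂, hφ₂, hx⟩ := hdown P φ hφ
  obtain ⟨χ₁, hχ₁, hχ₁x⟩ := hE₁.2.2.1 _ inf_le_right φ₁ hφ₁ γ₁ hγ₁
  obtain ⟨χ₂, hχ₂, hχ₂x⟩ := hE₂.2.2.1 _ inf_le_right φ₂ hφ₂ γ₂ hγ₂
  set P' := (P.subgroupOf (T₁ ⊔ T₂)).map ((T₁ ⊔ T₂).subtype.comp α.toMonoidHom) with hP'
  have hP'T : P' ≤ T₁ ⊔ T₂ := by rintro _ ⟨w, -, rfl⟩; exact (α w).2
  have hpre : ∀ {U : Subgroup Ω}, F.StronglyClosed U → U ≤ T₁ ⊔ T₂ → ∀ y ∈ U,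
      ∃ w : ↥(T₁ ⊔ T₂), (w : Ω) ∈ U ∧ ((α w : ↥(T₁ ⊔ T₂)) : Ω) = y := fun hU hUT y hy =>
    CfsgLib.FusionSub.exists_mem_of_mem_stronglyClosed hU hUT hαF hy
  have hsplit : ∀ (a b : Ω) (ha : a ∈ T₁) (hb : b ∈ T₂) (hab : a * b ∈ T₁ ⊔ T₂),
      ((α ⟨a * b, hab⟩ : ↥(T₁ ⊔ T₂)) : Ω) = (γ₁ ⟨a, ha⟩ : T₁) * ((γ₂ ⟨b, hb⟩ : T₂) : Ω) := by
    intro a b ha hb hab
    rw [hγ₁x a ha (Subgroup.mem_sup_left ha), hγ₂x b hb (Subgroup.mem_sup_right hb),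
      ← Subgroup.coe_mul, ← map_mul]
    rfl
  have hP'1 : (P' ⊔ T₂) ⊓ T₁ ≤
      (((P ⊔ T₂) ⊓ T₁).subgroupOf T₁).map (T₁.subtype.comp γ₁.toMonoidHom) := by
    rintro y ⟨hy, hyT⟩
    obtain ⟨y', ⟨u, hu, hue⟩, b', hb', rfl⟩ :=
      exists_mul_of_mem_sup hE₂.2.1 (hP'T.trans hTS) hy
    obtain ⟨w, hw, hwe⟩ := hpre hE₁.2.1 le_sup_left _ hyT
    obtain ⟨v, hv, hve⟩ := hpre hE₂.2.1 le_sup_right _ hb'
    have he : w = u * v := by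
      apply α.injective
      apply Subtype.ext
      rw [hwe, map_mul, Subgroup.coe_mul, hve, ← hue]
      rfl
    refine ⟨⟨w, hw⟩, ⟨?_, hw⟩, (hγ₁x _ hw w.2).trans hwe⟩
    show (w : Ω) ∈ P ⊔ T₂
    rw [he]
    exact Subgroup.mul_mem _ (Subgroup.mem_sup_left hu) (Subgroup.mem_sup_right hv)
  have hP'2 : (P' ⊔ T₁) ⊓ T₂ ≤
      (((P ⊔ T₁) ⊓ T₂).subgroupOf T₂).map (T₂.subtype.comp γ₂.toMonoidHom) := by
    rintro y ⟨hy, hyT⟩
    obtain ⟨y', ⟨u, hu, hue⟩, b', hb', rfl⟩ :=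
      exists_mul_of_mem_sup hE₁.2.1 (hP'T.trans hTS) hy
    obtain ⟨w, hw, hwe⟩ := hpre hE₂.2.1 le_sup_right _ hyT
    obtain ⟨v, hv, hve⟩ := hpre hE₁.2.1 le_sup_left _ hb'
    have he : w = u * v := by
      apply α.injective
      apply Subtype.ext
      rw [hwe, map_mul, Subgroup.coe_mul, hve, ← hue]
      rfl
    refine ⟨⟨w, hw⟩, ⟨?_, hw⟩, (hγ₂x _ hw w.2).trans hwe⟩
    show (w : Ω) ∈ P ⊔ T₁
    rw [he]
    exact Subgroup.mul_mem _ (Subgroup.mem_sup_left hu) (Subgroup.mem_sup_right hv)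
  obtain ⟨ψ, hψ, hψx⟩ := hup _ _ P' χ₁ χ₂ hχ₁ hχ₂ hP'T hP'1 hP'2
  refine ⟨ψ, hψ, fun x hφx hαx => ?_⟩
  obtain ⟨a, ha, b, hb, he⟩ := exists_mul_of_le_sup hcomm (hPT x.2)
  obtain ⟨ha', hb'⟩ := proj_mem x.2 ha hb he
  have e0 : ((α ⟨x, hPT x.2⟩ : ↥(T₁ ⊔ T₂)) : Ω) = (γ₁ ⟨a, ha⟩ : T₁) * ((γ₂ ⟨b, hb⟩ : T₂) : Ω) := by
    simp only [he]
    exact hsplit a b ha hb _
  have e1 := hx x ⟨a, ha'⟩ ⟨b, hb'⟩ he
  rw [hψx _ ⟨_, ⟨⟨a, ha⟩, ha', rfl⟩⟩ ⟨_, ⟨⟨b, hb⟩, hb', rfl⟩⟩ (γ₁ ⟨a, ha⟩).2 (γ₂ ⟨b, hb⟩).2 e0]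
  have e2 := hχ₁x ⟨a, ha'⟩ (apply_mem hφ₁ _) ⟨⟨a, ha⟩, ha', rfl⟩
  have e3 := hχ₂x ⟨b, hb'⟩ (apply_mem hφ₂ _) ⟨⟨b, hb⟩, hb', rfl⟩
  refine (congrArg₂ (· * ·) e2 e3).trans ?_
  simp only [e1]
  exact (hsplit _ _ _ _ _).symm

/-- The Frattini condition for a product of two commuting strongly closed factors. -/
theorem central_frattini (hS : IsPGroup p S) (hF : F.IsSaturated p) (hinv : InvCond D F)
    (hTc : F.StronglyClosed (T₁ ⊔ T₂)) (h₁c : F.StronglyClosed T₁) (h₂c : F.StronglyClosed T₂)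
    (hs : CSplit D T₁ T₂) (hDF : D.IsSubsystemOf F) (hi₁ : (leftSystem hs).IsInvariantIn F)
    (hi₂ : (leftSystem hs.symm).IsInvariantIn F) :
    ∀ (P : Subgroup Ω), P ≤ T₁ ⊔ T₂ → ∀ φ : P →* Ω, φ ∈ F.Hom P → Decomp D F P φ := by
  refine frattini_of_aut hS hF hinv hTc fun Q hQT hQ big α hα => ?_
  have hαF := (mem_autGroup_iff F hQ.1).mp hα
  rcases hQT.eq_or_lt with rfl | hlt
  · exact ⟨α, hα, _, incl_mem D le_rfl, fun x _ => rfl⟩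
  haveI := finite_of_le hQ.1
  haveI := finite_of_le hTc.1
  by_cases hA : T₁ ≤ Q
  · exact frattini_step hS hF hinv hTc hs hDF h₁c hi₂ hlt hA hQ big hα
  by_cases hB : T₂ ≤ Q
  · exact frattini_step hS hF hinv hTc hs.symm hDF h₂c hi₁ hlt hB hQ big hα
  have hgrow : ∀ {U : Subgroup Ω}, F.StronglyClosed U → U ≤ T₁ ⊔ T₂ → ¬ U ≤ Q →
      ∃ n ∈ U, n ∈ Subgroup.normalizer (Q : Set Ω) ∧ n ∉ Q := by
    intro U hU hUT hUQ
    obtain ⟨g, hg, hgN, hgQ⟩ := CfsgLib.FusionSub.exists_mem_normalizer_not_mem hS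
      (lt_of_le_of_ne (le_sup_left : Q ≤ Q ⊔ U) fun h => hUQ (le_sup_right.trans h.ge))
      (sup_le hQ.1 hU.1)
    obtain ⟨q, hq, n, hn, rfl⟩ := exists_mul_of_mem_sup hU hQ.1 hg
    refine ⟨n, hn, ?_, fun h => hgQ (Q.mul_mem hq h)⟩
    have := Subgroup.mul_mem _ (Subgroup.inv_mem _ (Subgroup.le_normalizer hq)) hgN
    rwa [inv_mul_cancel_left] at this
  obtain ⟨n₁, hn₁, hn₁N, hn₁Q⟩ := hgrow h₁c le_sup_left hA
  obtain ⟨n₂, hn₂, hn₂N, hn₂Q⟩ := hgrow h₂c le_sup_right hB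
  have hnormU : ∀ {U : Subgroup Ω}, F.StronglyClosed U → ∀ x ∈ S, ∀ u ∈ U, x * u * x⁻¹ ∈ U :=
    fun hU x hx u hu => mem_normalizer_conj
      (CfsgLib.FusionSub.stronglyClosed_le_normalizer hU hx) hu
  let K : Subgroup (MulAut Q) :=
    { carrier := {κ | ∀ x : Q, (x : Ω)⁻¹ * ((κ x : Q) : Ω) ∈ T₁ ∧ ((x : Ω) ∈ T₂ → κ x = x)}
      one_mem' := fun x => ⟨by simp, fun _ => rfl⟩
      mul_mem' := fun {κ l} hκ hl x => ⟨by
        have := T₁.mul_mem (hl x).1 (hκ (l x)).1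
        simpa [mul_assoc] using this, fun hx => by
        rw [MulAut.mul_apply, (hl x).2 hx, (hκ x).2 hx]⟩
      inv_mem' := fun {κ} hκ x => ⟨by
        have := T₁.inv_mem (hκ (κ⁻¹ x)).1
        simpa using this, fun hx => by
        conv_lhs => rw [← (hκ x).2 hx]
        exact MulAut.inv_apply_self _ κ x⟩ }
  have hclosed : ∀ {U : Subgroup Ω}, F.StronglyClosed U → ∀ β ∈ F.autGroup Q, ∀ x : Q,
      (x : Ω) ∈ U → (((β : MulAut Q) x : Q) : Ω) ∈ U := fun hU β hβ x hx =>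
    CfsgLib.FusionSub.stronglyClosed_apply hU ((mem_autGroup_iff F hQ.1).mp hβ) x hx
  have hKn : ∀ β ∈ F.autGroup Q, ∀ κ ∈ K, β * κ * β⁻¹ ∈ K := by
    intro β hβ κ hκ x
    refine ⟨?_, fun hx => ?_⟩
    · have h := hclosed h₁c β hβ ((β⁻¹ x)⁻¹ * κ (β⁻¹ x)) (hκ (β⁻¹ x)).1
      rw [map_mul, map_inv, MulAut.apply_inv_self] at h
      exact h
    · rw [MulAut.mul_apply, MulAut.mul_apply,
        (hκ _).2 (hclosed h₂c β⁻¹ (inv_mem hβ) x hx), MulAut.apply_inv_self]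
  obtain ⟨κ, hκ, χ, hχ, rfl, R, hQR, ψ, hRN, hψ, hψx, hR⟩ :=
    CfsgLib.FusionSub.frattini_extend hS hF hQ K hKn hα
  have hn₁R : n₁ ∈ R := hR n₁ (h₁c.1 hn₁) hn₁N fun x => ⟨by
    show (x : Ω)⁻¹ * (n₁ * x * n₁⁻¹) ∈ T₁
    have := T₁.mul_mem (hnormU h₁c _ (S.inv_mem (hQ.1 x.2)) n₁ hn₁) (T₁.inv_mem hn₁)
    simpa [mul_assoc] using this,
    fun hx => Subtype.ext (by
      show n₁ * (x : Ω) * n₁⁻¹ = x
      rw [hs.comm n₁ hn₁ x hx, mul_inv_cancel_right])⟩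
  have hext : ∀ {β : MulAut Q} {R : Subgroup Ω} {ψ : R →* Ω} (hQR : Q ≤ R), ψ ∈ F.Hom R →
      (∀ x : Q, ψ ⟨x, hQR x.2⟩ = ((β x : Q) : Ω)) → (∃ n ∈ R, n ∈ T₁ ⊔ T₂ ∧ n ∉ Q) →
      Q.subtype.comp β.toMonoidHom ∈ (frattiniSystem D F hinv).Hom Q := by
    rintro β R ψ hQR hψ hψx ⟨n, hn, hnT, hnQ⟩
    have hle : Q ≤ (T₁ ⊔ T₂) ⊓ R := le_inf hQT hQR
    have h1 := big _ inf_le_left (CfsgLib.FusionSub.card_lt_card (inf_le_left.trans hTc.1)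
      (lt_of_le_of_ne hle fun h => hnQ (h.ge ⟨hnT, hn⟩))) _ (restrict_mem hψ inf_le_right)
    exact restrict_mem_apply h1 hle fun x => (hψx x).symm
  have hχD := hext hQR hψ hψx ⟨n₁, hn₁R, Subgroup.mem_sup_left hn₁, hn₁Q⟩
  have hκF := (mem_autGroup_iff F hQ.1).mp hκ.2
  obtain ⟨η, hη, hηx⟩ := (receptive_of_fullyNormalized hS hF hQ).2 Q _ hκF
    (CfsgLib.FusionSub.range_subtype_comp_aut _)
  have hn₂e : n₂ ∈ extender S Q (Q.subtype.comp κ.toMonoidHom) := by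
    refine mem_extender_iff.mpr ⟨h₂c.1 hn₂, hn₂N, n₂, h₂c.1 hn₂, fun x hx => ?_⟩
    have hcQ : n₂ * (x : Ω) * n₂⁻¹ * (x : Ω)⁻¹ ∈ Q := Q.mul_mem hx (Q.inv_mem x.2)
    have hcT : n₂ * (x : Ω) * n₂⁻¹ * (x : Ω)⁻¹ ∈ T₂ := by
      have := T₂.mul_mem hn₂ (hnormU h₂c _ (hQ.1 x.2) _ (T₂.inv_mem hn₂))
      simpa [mul_assoc] using this
    show ((κ ⟨_, hx⟩ : Q) : Ω) = n₂ * ((κ x : Q) : Ω) * n₂⁻¹
    rw [show (⟨_, hx⟩ : Q) = ⟨_, hcQ⟩ * x from Subtype.ext (by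
      show n₂ * (x : Ω) * n₂⁻¹ = n₂ * (x : Ω) * n₂⁻¹ * (x : Ω)⁻¹ * x
      group), map_mul, (hκ.1 _).2 hcT]
    have h := hs.comm _ (hκ.1 x).1 _ (T₂.inv_mem hn₂)
    show n₂ * (x : Ω) * n₂⁻¹ * (x : Ω)⁻¹ * ((κ x : Q) : Ω) = _
    calc _ = n₂ * (x : Ω) * (n₂⁻¹ * ((x : Ω)⁻¹ * ((κ x : Q) : Ω))) := by group
      _ = _ := by rw [← h]; group
  have hκD := hext (β := κ) (le_extender hκF) hη (fun x => hηx x x.2 _)
    ⟨n₂, hn₂e, Subgroup.mem_sup_right hn₂, hn₂Q⟩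
  exact comp_mem_apply hχD hκD (fun x => (χ x).2) fun x => rfl

/-- The extension condition for a product of two commuting normal subsystems. -/
theorem central_ext (hS : IsPGroup p S) (hE₁ : E₁.IsNormalIn F p) (hE₂ : E₂.IsNormalIn F p)
    (hcomm : ∀ a ∈ T₁, ∀ b ∈ T₂, a * b = b * a)
    (hZ₁ : ∀ (P : Subgroup Ω) (φ : P →* Ω), φ ∈ E₁.Hom P → FixY E₁ (T₁ ⊓ T₂) P φ)
    (hZ₂ : ∀ (P : Subgroup Ω) (φ : P →* Ω), φ ∈ E₂.Hom P → FixY E₂ (T₁ ⊓ T₂) P φ)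
    (hD : FusionSystem.IsCentralProductOf E₁ E₂ D) :
    ∀ α ∈ D.autGroup (T₁ ⊔ T₂), ∃ β ∈ F.autGroup ((T₁ ⊔ T₂) ⊔ centralizerIn S (T₁ ⊔ T₂)),
      (∀ x : ↥(T₁ ⊔ T₂), ((β (Subgroup.inclusion le_sup_left x) :
        ↥((T₁ ⊔ T₂) ⊔ centralizerIn S (T₁ ⊔ T₂))) : Ω) = ((α x : ↥(T₁ ⊔ T₂)) : Ω)) ∧
      ∀ c : ↥((T₁ ⊔ T₂) ⊔ centralizerIn S (T₁ ⊔ T₂)), (c : Ω) ∈ centralizerIn S (T₁ ⊔ T₂) →
        (c : Ω)⁻¹ * ((β c : ↥((T₁ ⊔ T₂) ⊔ centralizerIn S (T₁ ⊔ T₂))) : Ω) ∈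
          (T₁ ⊔ T₂) ⊓ Subgroup.centralizer ((T₁ ⊔ T₂ : Subgroup Ω) : Set Ω) := by
  have h₁c := hE₁.1.2.2.2.1
  have h₂c := hE₂.1.2.2.2.1
  haveI := finite_of_le h₁c.1
  haveI := finite_of_le h₂c.1
  have hTS := sup_le h₁c.1 h₂c.1
  haveI := finite_of_le hTS
  obtain ⟨-, -, hdown, -⟩ := Cfsg.Agent.S5162.central_hom hD
  clear hD
  generalize hT : T₁ ⊔ T₂ = T at *
  set C := centralizerIn S T with hC
  have hWS : T ⊔ C ≤ S := sup_le hTS (centralizerIn_le S T)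
  haveI := finite_of_le hWS
  let G : Set (MulAut ↥(T ⊔ C)) := {β | β ∈ F.autGroup (T ⊔ C) ∧
    (∀ x : ↥(T ⊔ C), (x : Ω) ∈ T → ((β x : ↥(T ⊔ C)) : Ω) ∈ T) ∧
    ∀ c : ↥(T ⊔ C), (c : Ω) ∈ C →
      (c : Ω)⁻¹ * ((β c : ↥(T ⊔ C)) : Ω) ∈ T ⊓ Subgroup.centralizer (T : Set Ω)}
  have hcen : ∀ β ∈ G, ∀ z : ↥(T ⊔ C), (z : Ω) ∈ T ⊓ Subgroup.centralizer (T : Set Ω) →
      ((β z : ↥(T ⊔ C)) : Ω) ∈ T ⊓ Subgroup.centralizer (T : Set Ω) := by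
    rintro β ⟨-, hβT, -⟩ z ⟨hzT, hzC⟩
    refine ⟨hβT z hzT, fun y hy => ?_⟩
    let f : T → T := fun w => ⟨_, hβT (Subgroup.inclusion le_sup_left w) w.2⟩
    have hf : Function.Injective f := fun a b h =>
      Subgroup.inclusion_injective le_sup_left (β.injective (Subtype.ext (congrArg Subtype.val h :)))
    obtain ⟨w, hw⟩ := Finite.surjective_of_injective hf ⟨y, hy⟩
    rw [show y = ((β (Subgroup.inclusion le_sup_left w) : ↥(T ⊔ C)) : Ω) from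
      (congrArg Subtype.val hw).symm, ← Subgroup.coe_mul, ← map_mul, ← Subgroup.coe_mul, ← map_mul]
    exact congrArg (fun v : ↥(T ⊔ C) => ((β v : ↥(T ⊔ C)) : Ω)) (Subtype.ext (hzC w w.2))
  have hmulG : ∀ β ∈ G, ∀ β' ∈ G, β * β' ∈ G := by
    intro β hβ β' hβ'
    refine ⟨mul_mem hβ.1 hβ'.1, fun x hx => hβ.2.1 _ (hβ'.2.1 x hx), fun c hc => ?_⟩
    have hd : ((c⁻¹ * β' c : ↥(T ⊔ C)) : Ω) ∈ T ⊓ Subgroup.centralizer (T : Set Ω) := hβ'.2.2 c hc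
    have h := Subgroup.mul_mem _ (hβ.2.2 c hc) (hcen β hβ _ hd)
    rw [MulAut.mul_apply]
    rw [map_mul, map_inv, Subgroup.coe_mul, Subgroup.coe_inv, ← mul_assoc,
      mul_inv_cancel_right] at h
    exact h
  have hone : (1 : MulAut ↥(T ⊔ C)) ∈ G :=
    ⟨one_mem _, fun x hx => hx, fun c _ => by simp⟩
  have main : ∀ {U V : Subgroup Ω} {E : FusionSystem U}, U ⊔ V = T → E.IsNormalIn F p →
      F.StronglyClosed V → (∀ a ∈ U, ∀ b ∈ V, a * b = b * a) →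
      (∀ (P : Subgroup Ω) (φ : P →* Ω), φ ∈ E.Hom P → FixY E (U ⊓ V) P φ) →
      ∀ γ ∈ E.autGroup U, ∃ β ∈ G, (∀ (x : ↥(T ⊔ C)) (hx : (x : Ω) ∈ U),
          ((β x : ↥(T ⊔ C)) : Ω) = ((γ ⟨x, hx⟩ : U) : Ω)) ∧
        ∀ x : ↥(T ⊔ C), (x : Ω) ∈ V → β x = x := by
    intro U V E hUV hE hV hc hZ
    have hUS := hE.1.2.2.2.1.1
    haveI := finite_of_le hUS
    have hUW : U ≤ T ⊔ C := (hUV ▸ le_sup_left : U ≤ T).trans le_sup_left
    let M : Submonoid (MulAut U) :=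
      { carrier := {γ | ∃ β ∈ G, (∀ (x : ↥(T ⊔ C)) (hx : (x : Ω) ∈ U),
          ((β x : ↥(T ⊔ C)) : Ω) = ((γ ⟨x, hx⟩ : U) : Ω)) ∧
          ∀ x : ↥(T ⊔ C), (x : Ω) ∈ V → β x = x}
        one_mem' := ⟨1, hone, fun _ _ => rfl, fun _ _ => rfl⟩
        mul_mem' := by
          rintro γ γ' ⟨β, hβ, hβu, hβv⟩ ⟨β', hβ', hβ'u, hβ'v⟩
          refine ⟨β * β', hmulG β hβ β' hβ', fun x hx => ?_, fun x hx => ?_⟩
          · rw [MulAut.mul_apply, hβu _ ((hβ'u x hx).symm ▸ (γ' ⟨x, hx⟩).2), MulAut.mul_apply]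
            exact congrArg (fun v : U => ((γ v : U) : Ω)) (Subtype.ext (hβ'u x hx))
          · rw [MulAut.mul_apply, hβ'v x hx, hβv x hx] }
    let B : Subgroup (MulAut U) :=
      { M with
        inv_mem' := fun {γ} hγ => by
          haveI : Finite (MulAut U) := inferInstance
          have h : γ⁻¹ = γ ^ (orderOf γ - 1) := by
            refine inv_eq_of_mul_eq_one_right ?_
            rw [← pow_succ', Nat.sub_add_cancel (orderOf_pos γ), pow_orderOf_eq_one]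
          rw [h]
          exact M.pow_mem hγ _ }
    have hfn := isFullyNormalized_top E
    suffices hB : E.autGroup U ≤ B from fun γ hγ => hB hγ
    refine autGroup_le_of_pPrime (isPGroup_of_le hS hUS) hE.1.1 hfn (B := B) (fun a ha => ?_)
      fun γ hγ hcop => ?_
    · obtain ⟨t, ht, htx⟩ := mem_autInducedBy_iff.mp ha
      have htW := hUW ht
      obtain ⟨β, hβ, hβx⟩ := exists_aut_of_hom' F (F.conj_mem hWS (hUS ht))
        (fun x => (T ⊔ C).mul_mem ((T ⊔ C).mul_mem htW x.2) ((T ⊔ C).inv_mem htW))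
      have htT : t ∈ T := (hUV ▸ le_sup_left : U ≤ T) ht
      refine ⟨β, ⟨hβ, fun x hx => ?_, fun c hc' => ?_⟩, fun x hx => ?_, fun x hx => ?_⟩
      · rw [hβx]
        exact T.mul_mem (T.mul_mem htT hx) (T.inv_mem htT)
      · rw [hβx]
        show (c : Ω)⁻¹ * (t * (c : Ω) * t⁻¹) ∈ _
        rw [hc'.2 t htT, mul_inv_cancel_right, inv_mul_cancel]
        exact Subgroup.one_mem _
      · exact (hβx x).trans (htx ⟨x, hx⟩).symm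
      · refine Subtype.ext ((hβx x).trans ?_)
        show t * (x : Ω) * t⁻¹ = x
        rw [hc t ht x hx, mul_inv_cancel_right]
    · obtain ⟨δ, hδ, hδx, hδy, -, hδc⟩ := exists_good_fix hS hE hV hc hZ
        (isCentric_top E) hγ hcop
      have hUT : U ≤ T := hUV ▸ le_sup_left
      have hle : T ⊔ C ≤ U ⊔ centralizerIn S U := by
        refine sup_le (hUV ▸ sup_le_sup_left (fun y hy => ⟨hV.1 hy, fun x hx => hc x hx y hy⟩) U)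
          fun c hc' => Subgroup.mem_sup_right ⟨hc'.1, fun x hx => hc'.2 x (hUT hx)⟩
      set d := δ.comp (Subgroup.inclusion hle) with hd
      have hdF : d ∈ F.Hom (T ⊔ C) := restrict_mem hδ hle
      have hdU : ∀ (x : ↥(T ⊔ C)) (hx : (x : Ω) ∈ U), d x = ((γ ⟨x, hx⟩ : U) : Ω) := fun x hx =>
        (congrArg δ (Subtype.ext rfl)).trans (hδx ⟨x, hx⟩)
      have hdV : ∀ x : ↥(T ⊔ C), (x : Ω) ∈ V → d x = x := fun x hx => hδy x _ hx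
      have hdT : ∀ x : ↥(T ⊔ C), (x : Ω) ∈ T → d x ∈ T := by
        intro x hx
        obtain ⟨a, ha, b, hb, he⟩ := exists_mul_of_le_sup hc (hUV.ge hx)
        rw [show x = (⟨a, hUW ha⟩ : ↥(T ⊔ C)) * ⟨b, Subgroup.mem_sup_left
          ((hUV ▸ le_sup_right : V ≤ T) hb)⟩ from Subtype.ext he, map_mul, hdU _ ha, hdV _ hb]
        exact T.mul_mem (hUT (γ _).2) ((hUV ▸ le_sup_right : V ≤ T) hb)
      have hsurj : ∀ y ∈ T, ∃ x : ↥(T ⊔ C), (x : Ω) ∈ T ∧ d x = y := by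
        intro y hy
        let f : T → T := fun w => ⟨_, hdT (Subgroup.inclusion le_sup_left w) w.2⟩
        have hf : Function.Injective f := fun a b h => Subgroup.inclusion_injective le_sup_left
          (F.injective_of_mem hdF (congrArg Subtype.val h :))
        obtain ⟨w, hw⟩ := Finite.surjective_of_injective hf ⟨y, hy⟩
        exact ⟨_, w.2, congrArg Subtype.val hw⟩
      have hdC : ∀ c : ↥(T ⊔ C), (c : Ω) ∈ C → (c : Ω)⁻¹ * d c ∈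
          T ⊓ Subgroup.centralizer (T : Set Ω) := by
        intro c hc'
        have h1 : (c : Ω)⁻¹ * d c ∈ U := hδc ⟨c, hc'.1, fun x hx => hc'.2 x (hUT hx)⟩
        refine ⟨hUT h1, Subgroup.mul_mem _ (Subgroup.inv_mem _ hc'.2) fun y hy => ?_⟩
        obtain ⟨x, hx, rfl⟩ := hsurj y hy
        rw [← map_mul, ← map_mul]
        exact congrArg d (Subtype.ext (hc'.2 x hx))
      obtain ⟨β, hβ, hβx⟩ := exists_aut_of_hom' F hdF fun z => by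
        refine apply_mem_of_sup d (fun x => Subgroup.mem_sup_left (hdT _ x.2)) (fun c => ?_) z
        have := Subgroup.mul_mem _ (Subgroup.mem_sup_right (S := T) c.2)
          (Subgroup.mem_sup_left (hdC (Subgroup.inclusion le_sup_right c) c.2).1)
        exact (mul_inv_cancel_left (c : Ω) _).subst (motive := fun v => v ∈ T ⊔ C) this
      exact ⟨β, ⟨hβ, fun x hx => (hβx x).symm ▸ hdT x hx, fun c hc' => (hβx c).symm ▸ hdC c hc'⟩,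
        fun x hx => (hβx x).trans (hdU x hx), fun x hx => Subtype.ext ((hβx x).trans (hdV x hx))⟩
  intro α hα
  obtain ⟨φ₁, hφ₁, φ₂, hφ₂, hx⟩ := hdown T _ ((mem_autGroup_iff D le_rfl).mp hα)
  have hle₁ : T₁ ≤ (T ⊔ T₂) ⊓ T₁ := le_inf ((le_sup_left.trans hT.le).trans le_sup_left) le_rfl
  have hle₂ : T₂ ≤ (T ⊔ T₁) ⊓ T₂ := le_inf ((le_sup_right.trans hT.le).trans le_sup_left) le_rfl
  obtain ⟨γ₁, hγ₁, hγ₁x⟩ := exists_aut_of_hom' E₁ (restrict_mem hφ₁ hle₁)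
    fun x => apply_mem (restrict_mem hφ₁ hle₁) x
  obtain ⟨γ₂, hγ₂, hγ₂x⟩ := exists_aut_of_hom' E₂ (restrict_mem hφ₂ hle₂)
    fun x => apply_mem (restrict_mem hφ₂ hle₂) x
  obtain ⟨β₁, hβ₁, hβ₁u, hβ₁v⟩ := main (U := T₁) (V := T₂) hT hE₁ h₂c hcomm hZ₁ γ₁ hγ₁
  obtain ⟨β₂, hβ₂, hβ₂u, hβ₂v⟩ := main (U := T₂) (V := T₁) ((sup_comm T₂ T₁).trans hT) hE₂ h₁c
    (fun b hb a ha => (hcomm a ha b hb).symm) (fun P φ h => inf_comm T₁ T₂ ▸ hZ₂ P φ h) γ₂ hγ₂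
  have hβ := hmulG β₁ hβ₁ β₂ hβ₂
  refine ⟨β₁ * β₂, hβ.1, fun x => ?_, hβ.2.2⟩
  obtain ⟨a, ha, b, hb, he⟩ := exists_mul_of_le_sup hcomm (hT.ge x.2)
  rw [show Subgroup.inclusion (le_sup_left : T ≤ T ⊔ C) x =
      (⟨a, Subgroup.mem_sup_left (hT.le (Subgroup.mem_sup_left ha))⟩ : ↥(T ⊔ C)) *
        ⟨b, Subgroup.mem_sup_left (hT.le (Subgroup.mem_sup_right hb))⟩ from Subtype.ext he,
    map_mul, MulAut.mul_apply, MulAut.mul_apply, hβ₂v _ ha, Subgroup.coe_mul, hβ₁u _ ha,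
    hβ₁v _ ((hβ₂u ⟨b, Subgroup.mem_sup_left (hT.le (Subgroup.mem_sup_right hb))⟩ hb).symm ▸
      (γ₂ _).2), hβ₂u _ hb, hγ₁x, hγ₂x]
  exact (hx x ⟨a, hle₁ ha⟩ ⟨b, hle₂ hb⟩ he).symm

end Pair

/-- The product of two commuting normal subsystems which fix their intersection. -/
theorem exists_product [Finite S] (hS : IsPGroup p S) {F : FusionSystem S} (hF : F.IsSaturated p)
    {E₁ : FusionSystem T₁} {E₂ : FusionSystem T₂} (hE₁ : E₁.IsNormalIn F p)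
    (hE₂ : E₂.IsNormalIn F p) (hcomm : ∀ a ∈ T₁, ∀ b ∈ T₂, a * b = b * a)
    (hZ₁ : ∀ (P : Subgroup Ω) (φ : P →* Ω), φ ∈ E₁.Hom P → FixY E₁ (T₁ ⊓ T₂) P φ)
    (hZ₂ : ∀ (P : Subgroup Ω) (φ : P →* Ω), φ ∈ E₂.Hom P → FixY E₂ (T₁ ⊓ T₂) P φ) :
    ∃ D : FusionSystem (T₁ ⊔ T₂), D.IsNormalIn F p ∧
      FusionSystem.IsCentralProductOf E₁ E₂ D := by
  have h₁c := hE₁.1.2.2.2.1
  have h₂c := hE₂.1.2.2.2.1
  haveI := finite_of_le h₁c.1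
  haveI := finite_of_le h₂c.1
  have hTS := sup_le h₁c.1 h₂c.1
  haveI := finite_of_le hTS
  have h₁p := isPGroup_of_le hS h₁c.1
  have h₂p := isPGroup_of_le hS h₂c.1
  haveI : Finite (T₁.prod T₂) := Finite.of_equiv _ (T₁.prodEquiv T₂).symm.toEquiv
  obtain ⟨D₀, hD₀⟩ := Cfsg.Agent.S5136.result p h₁p h₂p E₁ E₂
  have hD₀s := Cfsg.Agent.S5137.result p h₁p h₂p E₁ E₂ hE₁.1.1 hE₂.1.1 D₀ hD₀
  have hTp : IsPGroup p (T₁.prod T₂) := by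
    obtain ⟨a, ha⟩ := IsPGroup.iff_card.mp h₁p
    obtain ⟨b, hb⟩ := IsPGroup.iff_card.mp h₂p
    refine IsPGroup.of_card (n := a + b) ?_
    rw [Nat.card_congr (T₁.prodEquiv T₂).toEquiv, Nat.card_prod, ha, hb, pow_add]
  let θ : ↥(T₁.prod T₂) →* Ω := MonoidHom.mk' (fun w => (w : Ω × Ω).1 * (w : Ω × Ω).2)
    fun v w => by
      show (v : Ω × Ω).1 * (w : Ω × Ω).1 * ((v : Ω × Ω).2 * (w : Ω × Ω).2) =
        (v : Ω × Ω).1 * (v : Ω × Ω).2 * ((w : Ω × Ω).1 * (w : Ω × Ω).2)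
      calc _ = (v : Ω × Ω).1 * ((w : Ω × Ω).1 * (v : Ω × Ω).2) * (w : Ω × Ω).2 := by group
        _ = _ := by rw [hcomm _ w.2.1 _ v.2.2]; group
  set Z₀ : Subgroup (Ω × Ω) := θ.ker.map (T₁.prod T₂).subtype with hZ₀
  have hmemZ : ∀ w ∈ Z₀, w.1 ∈ T₁ ∧ w.2 ∈ T₂ ∧ w.1 * w.2 = 1 := by
    rintro _ ⟨w, hw, rfl⟩
    exact ⟨w.2.1, w.2.2, hw⟩
  have hZle : Z₀ ≤ T₁.prod T₂ := fun w hw => ⟨(hmemZ w hw).1, (hmemZ w hw).2.1⟩
  have hker : ∀ s : T₁.prod T₂, θ s = 1 ↔ (s : Ω × Ω) ∈ Z₀ := fun s =>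
    ⟨fun h => ⟨s, h, rfl⟩, fun h => (hmemZ _ h).2.2⟩
  have hZ₀1 : ∀ w ∈ Z₀, w.1 ∈ T₁ ⊓ T₂ ∧ w.2 ∈ T₁ ⊓ T₂ := by
    intro w hw
    obtain ⟨h1, h2, h3⟩ := hmemZ w hw
    have e := eq_inv_of_mul_eq_one_left h3
    exact ⟨⟨h1, e ▸ T₂.inv_mem h2⟩, ⟨(eq_inv_of_mul_eq_one_right h3) ▸ T₁.inv_mem h1, h2⟩⟩
  have hcen : D₀.IsCentral Z₀ := by
    refine ⟨hZle, fun P φ hφ => ?_⟩
    obtain ⟨hP, φ₁, hφ₁, φ₂, hφ₂, hx⟩ := (hD₀ P φ).mp hφ
    obtain ⟨ψ₁, hψ₁, h1x, h1z⟩ := hZ₁ _ _ hφ₁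
    obtain ⟨ψ₂, hψ₂, h2x, h2z⟩ := hZ₂ _ _ hφ₂
    have le1 : (P ⊔ Z₀).map (MonoidHom.fst Ω Ω) ≤ P.map (MonoidHom.fst Ω Ω) ⊔ (T₁ ⊓ T₂) := by
      rw [Subgroup.map_sup]
      refine sup_le_sup_left ?_ _
      rintro _ ⟨w, hw, rfl⟩
      exact (hZ₀1 w hw).1
    have le2 : (P ⊔ Z₀).map (MonoidHom.snd Ω Ω) ≤ P.map (MonoidHom.snd Ω Ω) ⊔ (T₁ ⊓ T₂) := by
      rw [Subgroup.map_sup]
      refine sup_le_sup_left ?_ _
      rintro _ ⟨w, hw, rfl⟩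
      exact (hZ₀1 w hw).2
    let f₁ := (ψ₁.comp (Subgroup.inclusion le1)).comp
      (((MonoidHom.fst Ω Ω).comp (P ⊔ Z₀).subtype).codRestrict _ fun w => ⟨w, w.2, rfl⟩)
    let f₂ := (ψ₂.comp (Subgroup.inclusion le2)).comp
      (((MonoidHom.snd Ω Ω).comp (P ⊔ Z₀).subtype).codRestrict _ fun w => ⟨w, w.2, rfl⟩)
    refine ⟨f₁.prod f₂, (hD₀ _ _).mpr ⟨sup_le hP hZle, _, restrict_mem hψ₁ le1, _,
      restrict_mem hψ₂ le2, fun w _ _ => rfl⟩, fun x => ?_, fun z => ?_⟩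
    · rw [hx x ⟨x, x.2, rfl⟩ ⟨x, x.2, rfl⟩]
      exact Prod.ext ((congrArg ψ₁ (Subtype.ext rfl)).trans (h1x ⟨(x : Ω × Ω).1, x, x.2, rfl⟩))
        ((congrArg ψ₂ (Subtype.ext rfl)).trans (h2x ⟨(x : Ω × Ω).2, x, x.2, rfl⟩))
    · exact Prod.ext ((congrArg ψ₁ (Subtype.ext rfl)).trans (h1z ⟨_, (hZ₀1 _ z.2).1⟩))
        ((congrArg ψ₂ (Subtype.ext rfl)).trans (h2z ⟨_, (hZ₀1 _ z.2).2⟩))
  have hsc : D₀.StronglyClosed Z₀ := ⟨hZle, fun R hR φ hφ x => by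
    obtain ⟨ψ, -, hψx, hψz⟩ := hcen.2 R φ hφ
    rw [← hψx x]
    exact ((congrArg ψ (Subtype.ext rfl)).trans (hψz ⟨x, hR x.2⟩)).symm ▸ hR x.2⟩
  have hrange : θ.range = T₁ ⊔ T₂ := by
    refine le_antisymm ?_ fun y hy => ?_
    · rintro _ ⟨w, rfl⟩
      exact Subgroup.mul_mem _ (Subgroup.mem_sup_left w.2.1) (Subgroup.mem_sup_right w.2.2)
    · obtain ⟨a, ha, b, hb, rfl⟩ := exists_mul_of_le_sup hcomm hy
      exact ⟨⟨(a, b), ha, hb⟩, rfl⟩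
  obtain ⟨D, hD⟩ := exists_isFactorSystem D₀ hsc θ hker hrange
  have hDs := CfsgLib.FusionSub.factor_saturated hTp hD₀s hsc hD
  have hDc : FusionSystem.IsCentralProductOf E₁ E₂ D := by
    refine ⟨D₀, hD₀, Z₀, θ, le_sSup hcen, ?_, ?_, fun x hx => mul_one x, fun y hy => one_mul y, hD⟩
    · rw [eq_bot_iff]
      rintro w ⟨hw, -, h2⟩
      obtain ⟨-, -, h3⟩ := hmemZ w hw
      rw [Subgroup.mem_bot.mp h2, mul_one] at h3
      exact Prod.ext h3 (Subgroup.mem_bot.mp h2)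
    · rw [eq_bot_iff]
      rintro w ⟨hw, h1, -⟩
      obtain ⟨-, -, h3⟩ := hmemZ w hw
      rw [Subgroup.mem_bot.mp h1, one_mul] at h3
      exact Prod.ext (Subgroup.mem_bot.mp h1) h3
  obtain ⟨-, -, -, hup⟩ := Cfsg.Agent.S5162.central_hom hDc
  have hsub₁ : E₁.IsSubsystemOf D := fun P φ hφ => by
    obtain ⟨ψ, hψ, hψx, -⟩ := hZ₁ P φ hφ
    have hP := dom_le hφ
    obtain ⟨χ, hχ, hχx⟩ := hup _ (T₁ ⊓ T₂) P ψ (T₁ ⊓ T₂).subtype hψ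
      (incl_mem E₂ inf_le_right) (hP.trans le_sup_left)
      (fun a ⟨ha, haT⟩ => by
        obtain ⟨x, hx, b, hb, rfl⟩ := exists_mul_of_mem_sup h₂c (hP.trans h₁c.1) ha
        refine Subgroup.mul_mem _ (Subgroup.mem_sup_left hx) (Subgroup.mem_sup_right ⟨?_, hb⟩)
        have := T₁.mul_mem (T₁.inv_mem (hP hx)) haT
        rwa [inv_mul_cancel_left] at this)
      fun b ⟨hb, hbT⟩ => ⟨sup_le hP le_rfl hb, hbT⟩
    refine mem_of_apply_eq hχ fun x => ?_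
    rw [hχx x (Subgroup.inclusion le_sup_left x) 1 (hP x.2) T₂.one_mem (mul_one _).symm,
      hψx, map_one, mul_one]
  have hsub₂ : E₂.IsSubsystemOf D := fun P φ hφ => by
    obtain ⟨ψ, hψ, hψx, -⟩ := hZ₂ P φ hφ
    have hP := dom_le hφ
    obtain ⟨χ, hχ, hχx⟩ := hup (T₁ ⊓ T₂) _ P (T₁ ⊓ T₂).subtype ψ
      (incl_mem E₁ inf_le_left) hψ (hP.trans le_sup_right)
      (fun a ⟨ha, haT⟩ => ⟨haT, sup_le hP le_rfl ha⟩)
      fun b ⟨hb, hbT⟩ => by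
        obtain ⟨x, hx, a, ha, rfl⟩ := exists_mul_of_mem_sup h₁c (hP.trans h₂c.1) hb
        refine Subgroup.mul_mem _ (Subgroup.mem_sup_left hx) (Subgroup.mem_sup_right ⟨ha, ?_⟩)
        have := T₂.mul_mem (T₂.inv_mem (hP hx)) hbT
        rwa [inv_mul_cancel_left] at this
    refine mem_of_apply_eq hχ fun x => ?_
    rw [hχx x 1 (Subgroup.inclusion le_sup_left x) T₁.one_mem (hP x.2) (one_mul _).symm,
      hψx, map_one, one_mul]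
  obtain ⟨hs, he₁, he₂⟩ := Cfsg.Agent.S5162.split_of_central hsub₁ hsub₂ hDc
  have hTc := CfsgLib.FusionSub.stronglyClosed_sup hS hF h₁c h₂c
  have hDF := central_le hS hE₁ hE₂ hcomm hZ₁ hZ₂ hDc
  have hinv := central_invCond hE₁.1.2.2 hE₂.1.2.2 hDc
  exact ⟨D, ⟨⟨hDs, hF, hDF, hTc, hinv, central_frattini hS hF hinv hTc h₁c h₂c hs hDF
    (he₁.symm ▸ hE₁.1.2.2) (he₂.symm ▸ hE₂.1.2.2)⟩,
    central_ext hS hE₁ hE₂ hcomm hZ₁ hZ₂ hDc⟩, hDc⟩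

end CfsgLib.FusionBasics.Central
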