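import Cfsg.Agent.S5099
import Cfsg.Agent.Lib.Alperin.NormalLift
import Cfsg.Agent.Lib.Alperin.CentricMeet
import Cfsg.Agent.Lib.Alperin.PPowerIndex
import Cfsg.Agent.Lib.FusionSub.NormalCriterion
import Cfsg.Agent.Lib.FusionBasics.KSaturated
import Cfsg.Agent.Lib.FusionBasics.KSystem
import Cfsg.Agent.Lib.FusionBasics.Central.Product

/-!
The centralizer in `C_S(T)` of a normal subsystem over `T`: the elements fixed by extensions of all
its maps form a strongly closed subgroup, fixed as a whole.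
-/

set_option autoImplicit false
set_option linter.style.haveILetI false
set_option linter.unusedSectionVars false

namespace CfsgLib.FusionBasics.Central

open Cfsg Cfsg.FusionSystem CfsgLib.Alperin CfsgLib.Alperin.NormalLift

variable {Ω : Type*} [Group Ω] {S T : Subgroup Ω} {p : ℕ} [Fact p.Prime]
  {F : FusionSystem S} {E : FusionSystem T}

/-- The elements of `C_S(T)` fixed by an extension of each map of `E`. -/
def fixedElts (F : FusionSystem S) (E : FusionSystem T) : Set Ω :=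
  {y | y ∈ centralizerIn S T ∧ ∀ (P : Subgroup Ω) (φ : P →* Ω), φ ∈ E.Hom P →
    FixY F (Subgroup.zpowers y) P φ}

theorem fixedElts_subset {y : Ω} (hy : y ∈ fixedElts F E) : y ∈ centralizerIn S T := hy.1

/-- Homomorphisms agreeing on a set agree on the subgroup it generates. -/
theorem eq_of_mem_closure {H : Subgroup Ω} (f g : H →* Ω) {s : Set Ω}
    (hs : ∀ y ∈ s, y ∈ H) (h : ∀ (y : Ω) (hy : y ∈ s), f ⟨y, hs y hy⟩ = g ⟨y, hs y hy⟩)
    (x : H) (hx : (x : Ω) ∈ Subgroup.closure s) : f x = g x := by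
  have hle : Subgroup.closure s ≤ (MonoidHom.eqLocus f g).map H.subtype :=
    (Subgroup.closure_le _).mpr fun y hy => ⟨⟨y, hs y hy⟩, h y hy, rfl⟩
  obtain ⟨w, hw, hwe⟩ := hle hx
  exact (Subtype.ext hwe : w = x) ▸ hw

/-- A homomorphism fixing `y` fixes its powers. -/
theorem eq_self_of_mem_zpowers {H : Subgroup Ω} (f : H →* Ω) {y : Ω} (hy : y ∈ H)
    (h : f ⟨y, hy⟩ = y) (x : H) (hx : (x : Ω) ∈ Subgroup.zpowers y) : f x = x := by
  obtain ⟨j, hj⟩ := hx
  rw [show x = (⟨y, hy⟩ : H) ^ j from Subtype.ext (by simpa using hj.symm), map_zpow, h]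
  simp

variable [Finite S] [Finite T]

theorem map_zpowers_le {H U : Subgroup Ω} (f : H →* Ω) {y : Ω} (hy : y ∈ H)
    (h : f ⟨y, hy⟩ ∈ U) (x : H) (hx : (x : Ω) ∈ Subgroup.zpowers y) : f x ∈ U := by
  obtain ⟨j, hj⟩ := hx
  rw [show x = (⟨y, hy⟩ : H) ^ j from Subtype.ext (by simpa using hj.symm), map_zpow]
  exact U.zpow_mem h j

/-- Maps on `T⟨y⟩` carry fixed elements to fixed elements. -/
theorem fixedElts_transport (hE : E.IsInvariantIn F) {y : Ω} (hy : y ∈ fixedElts F E)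
    {g : ↥(T ⊔ Subgroup.zpowers y) →* Ω} (hg : g ∈ F.Hom (T ⊔ Subgroup.zpowers y)) :
    g (Subgroup.inclusion le_sup_right ⟨y, Subgroup.mem_zpowers y⟩) ∈ fixedElts F E := by
  have hTS := hE.2.1.1
  set y₀ : ↥(T ⊔ Subgroup.zpowers y) := Subgroup.inclusion le_sup_right ⟨y, Subgroup.mem_zpowers y⟩
    with hy₀
  obtain ⟨a, ha, hax⟩ := exists_aut_of_hom' F
    (restrict_mem hg (le_sup_left : T ≤ T ⊔ Subgroup.zpowers y)) fun x =>
      CfsgLib.FusionSub.stronglyClosed_apply hE.2.1 hg _ x.2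
  have haT : ∀ x : T, g (Subgroup.inclusion le_sup_left x) = ((a x : T) : Ω) := fun x => (hax x).symm
  refine ⟨⟨apply_mem hg _, fun t ht => ?_⟩, fun P φ hφ => ?_⟩
  · obtain ⟨x, hx⟩ := a.surjective ⟨t, ht⟩
    rw [show t = g (Subgroup.inclusion le_sup_left x) from
      (congrArg Subtype.val hx).symm.trans (haT x).symm, ← map_mul, ← map_mul]
    exact congrArg g (Subtype.ext (hy.1.2 x x.2))
  · have hPT := dom_le hφ
    set P₀ := (P.subgroupOf T).map (T.subtype.comp (a⁻¹ : MulAut T).toMonoidHom) with hP₀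
    obtain ⟨χ, hχ, hχx⟩ := hE.2.2.1 P hPT φ hφ a⁻¹ (inv_mem ha)
    obtain ⟨ψ, hψ, hψx, hψy⟩ := hy.2 P₀ χ hχ
    have hP₀T : P₀ ≤ T := by rintro _ ⟨w, -, rfl⟩; exact ((a⁻¹ : MulAut T) w).2
    have hle : P₀ ⊔ Subgroup.zpowers y ≤ T ⊔ Subgroup.zpowers y := sup_le_sup_right hP₀T _
    set g₀ := g.comp (Subgroup.inclusion hle) with hg₀
    have hg₀F : g₀ ∈ F.Hom _ := restrict_mem hg hle
    obtain ⟨θ, hθ, hθr, hθx, -⟩ := exists_inverse hg₀F rfl
    set y' := g y₀ with hy'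
    have hyr : y' ∈ g₀.range :=
      ⟨Subgroup.inclusion le_sup_right ⟨y, Subgroup.mem_zpowers y⟩, congrArg g (Subtype.ext rfl)⟩
    have hxr : ∀ x : P, ∃ w : P₀, (w : Ω) = (((a⁻¹ : MulAut T) ⟨x, hPT x.2⟩ : T) : Ω) ∧
        g₀ (Subgroup.inclusion le_sup_left w) = x := fun x => by
      refine ⟨⟨_, ⟨x, hPT x.2⟩, x.2, rfl⟩, rfl, ?_⟩
      refine (congrArg g (Subtype.ext rfl)).trans ((haT ((a⁻¹ : MulAut T) ⟨x, hPT x.2⟩)).trans ?_)
      rw [MulAut.apply_inv_self]
    have hle' : P ⊔ Subgroup.zpowers y' ≤ g₀.range := by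
      refine sup_le (fun x hx => ?_) (Subgroup.zpowers_le.mpr hyr)
      obtain ⟨w, -, hw⟩ := hxr ⟨x, hx⟩
      exact ⟨_, hw⟩
    have hθm : ∀ z, (θ.comp (Subgroup.inclusion hle')) z ∈ P₀ ⊔ Subgroup.zpowers y :=
      fun z => hθr.le ⟨_, rfl⟩
    have hψm : ∀ z, ψ z ∈ T ⊔ Subgroup.zpowers y := apply_mem_of_sup ψ
      (fun w => Subgroup.mem_sup_left ((hψx w).symm ▸ apply_mem hχ w))
      (fun z => Subgroup.mem_sup_right ((hψy z).symm ▸ z.2))
    set Φ := g.comp (((ψ.comp ((θ.comp (Subgroup.inclusion hle')).codRestrict _ hθm))).codRestrict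
      _ fun z => hψm _) with hΦ
    have hΦF : Φ ∈ F.Hom (P ⊔ Subgroup.zpowers y') :=
      F.comp_mem (F.comp_mem (restrict_mem hθ hle') hψ hθm) hg fun z => hψm _
    refine ⟨Φ, hΦF, fun x => ?_, fun z => ?_⟩
    · obtain ⟨w, hw, hwg⟩ := hxr x
      have e1 : (θ.comp (Subgroup.inclusion hle')).codRestrict _ hθm
          (Subgroup.inclusion le_sup_left x) = Subgroup.inclusion le_sup_left w :=
        Subtype.ext ((congrArg θ (Subtype.ext hwg.symm)).trans (hθx _ ⟨_, rfl⟩))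
      have e2 := hχx x (apply_mem hφ x) (hw.subst (motive := fun v => v ∈ P₀) w.2)
      rw [show (⟨_, hw.subst (motive := fun v => v ∈ P₀) w.2⟩ : P₀) = w from Subtype.ext hw.symm] at e2
      refine Eq.trans (congrArg g (Subtype.ext ?_ : _ = Subgroup.inclusion le_sup_left
        ((a⁻¹ : MulAut T) ⟨φ x, apply_mem hφ x⟩))) ?_
      · exact ((congrArg ψ e1).trans (hψx w)).trans e2
      · rw [haT, MulAut.apply_inv_self]
    · refine eq_self_of_mem_zpowers Φ (Subgroup.mem_sup_right (Subgroup.mem_zpowers y')) ?_ _ z.2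
      have e1 : (θ.comp (Subgroup.inclusion hle')).codRestrict _ hθm
          ⟨y', Subgroup.mem_sup_right (Subgroup.mem_zpowers y')⟩ =
          Subgroup.inclusion le_sup_right ⟨y, Subgroup.mem_zpowers y⟩ :=
        Subtype.ext ((congrArg θ (Subtype.ext
          (show y' = g₀ _ from congrArg g (Subtype.ext rfl)))).trans
          (hθx (Subgroup.inclusion le_sup_right ⟨y, Subgroup.mem_zpowers y⟩) ⟨_, rfl⟩))
      refine congrArg g (Subtype.ext ?_ : _ = y₀)
      exact (congrArg ψ e1).trans (hψy ⟨y, Subgroup.mem_zpowers y⟩)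

/-- A map fixing an `E`-centric fully normalized subgroup and defined on a subgroup centralizing it
extends, on that subgroup, to a larger subgroup of `T`, which it preserves. -/
theorem exists_extend_fixing_sub (hS : IsPGroup p S) (hF : F.IsSaturated p)
    (hT : F.StronglyClosed T) {Q : Subgroup Ω} (hQ : F.IsFullyNormalized Q) (hQc : E.IsCentric Q)
    (hQT : Q < T) {A : Subgroup Ω} (hA : A ≤ centralizerIn S Q) {k : ↥(Q ⊔ A) →* Ω}
    (hk : k ∈ F.Hom (Q ⊔ A)) (hkQ : ∀ q : Q, k (Subgroup.inclusion le_sup_left q) = q) :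
    ∃ R : Subgroup Ω, R ≤ T ∧ Q < R ∧ ∃ g ∈ F.Hom (R ⊔ A),
      (∀ r : R, g (Subgroup.inclusion le_sup_left r) ∈ R) ∧
      ∀ x : A, g (Subgroup.inclusion le_sup_right x) =
        k (Subgroup.inclusion le_sup_right x) := by
  have hQS := hQ.1
  haveI := finite_of_le hQS
  set K : Subgroup (MulAut Q) := autInducedBy T Q with hK
  set V := normL S Q K with hV
  have hVS : V ≤ S := fun g hg => hg.1
  haveI := finite_of_le hVS
  have hVp := isPGroup_of_le hS hVS
  have hmemK : ∀ g ∈ V, ∃ α ∈ K, ∀ q : Q, ((α q : Q) : Ω) = g * (q : Ω) * g⁻¹ := fun g hg => hg.2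
  set N := kSystem F Q K V hQS hVS hmemK with hN
  have hNhom : ∀ P, N.Hom P = kHom F Q K V P := fun P => rfl
  have hKS : autInducedBy S Q ⊓ K = K := inf_eq_right.mpr (Subgroup.closure_mono
    fun α ⟨g, hg, hgx⟩ => ⟨g, hT.1 hg, hgx⟩)
  have hKF : F.autGroup Q ⊓ K = K := inf_eq_right.mpr
    (le_trans (hKS ▸ inf_le_left) (autInducedBy_le_autGroup F hQS))
  haveI := finite_autGroup F hQS
  haveI : Finite K := Finite.of_injective _
    (Subgroup.inclusion_injective (hKF ▸ inf_le_left : K ≤ F.autGroup Q))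
  have hKp : IsPGroup p K := isPGroup_autInducedBy (isPGroup_of_le hS hT.1) Q
  obtain ⟨a, ha⟩ := IsPGroup.iff_card.mp hKp
  have hNs : N.IsSaturated p := by
    refine kSystem_saturated hS hF (receptive_of_fullyNormalized hS hF hQ) ?_ rfl N hNhom
    rw [hKS, hKF, ha, (Fact.out : p.Prime).factorization_pow, Finsupp.single_eq_same]
  set U := V ⊓ T with hU
  have hUc : N.StronglyClosed U := ⟨inf_le_left, fun R hR φ hφ x =>
    ⟨hφ.2.2.1 x, hT.2 R (hR.trans inf_le_right) φ hφ.1 x⟩⟩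
  have hQU : Q ≤ U := fun q hq => ⟨⟨hQS hq, conjAut Q q (Subgroup.le_normalizer hq),
    conjAut_mem (hQc.1 hq) _, fun x => rfl⟩, hQc.1 hq⟩
  obtain ⟨t, ht, htN, htQ⟩ := CfsgLib.FusionSub.exists_mem_normalizer_not_mem hS hQT hT.1
  have htU : t ∈ U := ⟨⟨hT.1 ht, conjAut Q t htN, conjAut_mem ht htN, fun x => rfl⟩, ht⟩
  have key : ∀ {P : Subgroup Ω} {φ : P →* Ω}, φ ∈ N.Hom P →
      CfsgLib.FusionSub.ExtendsTo N U P φ := by
    intro P φ hφ
    refine CfsgLib.FusionSub.closed_induction hVp hNs (CfsgLib.FusionSub.closed_extendsTo hUc)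
      (fun X hX big α hα => ?_) hφ
    have hα' := (mem_autGroup_iff N hX.1).mp hα
    by_cases hUX : U ≤ X
    · exact ⟨_, restrict_mem hα' (sup_le le_rfl hUX), fun x => rfl⟩
    haveI := finite_of_le hX.1
    by_cases hQX : ¬ Q ≤ X
    · obtain ⟨-, -, hαm, ψ, hψ, hψx, β, hβ, hβx⟩ := hα'
      have hXQ : X ⊔ Q ≤ V := sup_le hX.1 (hQU.trans inf_le_left)
      have hψN : ψ ∈ N.Hom (X ⊔ Q) := by
        refine ⟨hψ, hXQ, apply_mem_of_sup ψ (fun x => (hψx x).symm ▸ hαm x)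
          (fun q => (hβx q).symm ▸ (hQU (β q).2).1), _, restrict_mem hψ (sup_le le_rfl le_sup_right),
          fun z => congrArg ψ (Subtype.ext rfl), β, hβ, fun q => ?_⟩
        exact (congrArg ψ (Subtype.ext rfl)).trans (hβx q)
      refine (CfsgLib.FusionSub.closed_extendsTo hUc).restrict_apply le_sup_left hψN
        (big _ ψ hψN (CfsgLib.FusionSub.card_lt_card hXQ (lt_of_le_of_ne le_sup_left fun h =>
          hQX (le_sup_right.trans h.ge)))) fun x => (hψx x).symm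
    rw [not_not] at hQX
    let M : Subgroup (MulAut X) :=
      { carrier := {b | b ∈ N.autGroup X ∧ ∀ x : X, (x : Ω)⁻¹ * ((b x : X) : Ω) ∈ T}
        one_mem' := ⟨one_mem _, fun x => by simp⟩
        mul_mem' := fun {b c} hb hc => ⟨mul_mem hb.1 hc.1, fun x => by
          have := T.mul_mem (hc.2 x) (hb.2 (c x))
          simpa [mul_assoc] using this⟩
        inv_mem' := fun {b} hb => ⟨inv_mem hb.1, fun x => by
          have := T.inv_mem (hb.2 ((b⁻¹ : MulAut X) x))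
          simpa using this⟩ }
    have hclT : ∀ β ∈ N.autGroup X, ∀ x : X, (x : Ω) ∈ T → (((β : MulAut X) x : X) : Ω) ∈ T :=
      fun β hβ x hx => CfsgLib.FusionSub.stronglyClosed_apply hT
        ((mem_autGroup_iff N hX.1).mp hβ).1 x hx
    have hMn : ∀ β ∈ N.autGroup X, ∀ κ ∈ M, β * κ * β⁻¹ ∈ M := by
      intro β hβ κ hκ
      refine ⟨mul_mem (mul_mem hβ hκ.1) (inv_mem hβ), fun x => ?_⟩
      have h := hclT β hβ ((β⁻¹ x)⁻¹ * κ (β⁻¹ x)) (hκ.2 _)
      rw [map_mul, map_inv, MulAut.apply_inv_self] at h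
      exact h
    have hMp : IsPGroup p (M.subgroupOf (N.autGroup X)) := by
      rintro ⟨⟨b, hbN⟩, hb⟩
      rw [Subgroup.mem_subgroupOf] at hb
      obtain ⟨-, -, -, ψ, hψ, hψx, κ, hκ, hκx⟩ := (mem_autGroup_iff N hX.1).mp hbN
      have hbQ : ∀ q : Q, b (Subgroup.inclusion hQX q) = Subgroup.inclusion hQX (κ q) := fun q =>
        Subtype.ext (((hψx _).symm.trans (congrArg ψ (Subtype.ext rfl))).trans (hκx q))
      obtain ⟨i, hi⟩ := hKp ⟨κ, hκ⟩
      have hi' : κ ^ p ^ i = 1 := congrArg Subtype.val hi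
      have hpow : ∀ (n : ℕ) (q : Q),
          (b ^ n) (Subgroup.inclusion hQX q) = Subgroup.inclusion hQX ((κ ^ n) q) := by
        intro n
        induction n with
        | zero => simp
        | succ n ih => intro q; rw [pow_succ', pow_succ', MulAut.mul_apply, MulAut.mul_apply, ih,
            hbQ]
      obtain ⟨e, he⟩ := IsPGroup.iff_card.mp (isPGroup_of_le hS (hX.1.trans hVS))
      have hexp : ∀ z : X, z ^ p ^ e = 1 := fun z => he ▸ pow_card_eq_one'
      have step : ∀ (c : MulAut X) (x : X), c (x⁻¹ * c x) = x⁻¹ * c x → (c ^ p ^ e) x = x := by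
        intro c x hcx
        have h : ∀ n : ℕ, (c ^ n) x = x * (x⁻¹ * c x) ^ n := by
          intro n
          induction n with
          | zero => simp
          | succ n ih =>
            rw [pow_succ', MulAut.mul_apply, ih, map_mul, map_pow, hcx, pow_succ', ← mul_assoc]
            group
        rw [h, hexp, mul_one]
      refine ⟨i + e + e, Subtype.ext (Subtype.ext ?_)⟩
      set b₁ := b ^ p ^ i with hb₁
      have hb₁M : b₁ ∈ M := M.pow_mem hb _
      have hb₁Q : ∀ (x : X), (x : Ω) ∈ Q → b₁ x = x := fun x hx => by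
        refine (congrArg b₁ (Subtype.ext rfl : x = Subgroup.inclusion hQX ⟨x, hx⟩)).trans ?_
        rw [hpow, hi']
        rfl
      have hb₁T : ∀ x : X, (x : Ω) ∈ T → b₁ (x⁻¹ * b₁ x) = x⁻¹ * b₁ x := by
        intro x hx
        refine hb₁Q _ (hQc.2 Q (isConj_refl E hQc.1) ⟨hb₁M.2 x, fun q hq => ?_⟩)
        obtain ⟨-, β, hβ, hβx⟩ := hX.1 x.2
        have hxn : (x : Ω) * q * (x : Ω)⁻¹ ∈ Q := hβx ⟨q, hq⟩ ▸ (β _).2
        have h1 := congrArg b₁ (show (⟨_, hQX hxn⟩ : X) = x * ⟨q, hQX hq⟩ * x⁻¹ from rfl)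
        rw [map_mul, map_mul, map_inv, hb₁Q ⟨q, hQX hq⟩ hq, hb₁Q ⟨_, hQX hxn⟩ hxn] at h1
        have h2 : (x : Ω) * q * (x : Ω)⁻¹ = (b₁ x : Ω) * q * ((b₁ x : X) : Ω)⁻¹ :=
          congrArg Subtype.val h1
        show q * ((x : Ω)⁻¹ * ((b₁ x : X) : Ω)) = (x : Ω)⁻¹ * ((b₁ x : X) : Ω) * q
        calc q * ((x : Ω)⁻¹ * ((b₁ x : X) : Ω))
            = (x : Ω)⁻¹ * ((x : Ω) * q * (x : Ω)⁻¹) * ((b₁ x : X) : Ω) := by group
          _ = (x : Ω)⁻¹ * ((b₁ x : X) : Ω) * q := by rw [h2]; group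
      set b₂ := b₁ ^ p ^ e with hb₂
      have hb₂M : b₂ ∈ M := M.pow_mem hb₁M _
      have hb₂T : ∀ x : X, (x : Ω) ∈ T → b₂ x = x := fun x hx => step b₁ x (hb₁T x hx)
      show b ^ p ^ (i + e + e) = 1
      rw [pow_add, pow_add, pow_mul, pow_mul]
      exact MulEquiv.ext fun x => step b₂ x (hb₂T _ (hb₂M.2 x))
    obtain ⟨κ, hκ, χ, hχ, he, R, hXR, ψ, hRN, hψ, hext, hgR⟩ :=
      CfsgLib.FusionSub.frattini_extend hVp hNs hX M hMn hα
    haveI := finite_autGroup N hX.1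
    obtain ⟨-, R₀, hR₀⟩ := (centralized_automized_of_fullyNormalized hVp hNs hX).2
    haveI : (M.subgroupOf (N.autGroup X)).Normal := ⟨fun x hx b =>
      Subgroup.mem_subgroupOf.mpr (by simpa using hMn b b.2 x (Subgroup.mem_subgroupOf.mp hx))⟩
    have hMR := (IsPGroup.le_sylow_of_normal hMp R₀) (x := ⟨κ, hκ.2⟩)
      (Subgroup.mem_subgroupOf.mpr hκ.1)
    rw [hR₀, Subgroup.mem_subgroupOf] at hMR
    obtain ⟨s, hs, hsx⟩ := mem_autInducedBy_iff.mp hMR
    have Gκ : CfsgLib.FusionSub.ExtendsTo N U X (X.subtype.comp κ.toMonoidHom) :=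
      ⟨_, N.conj_mem (sup_le hX.1 hUc.1) hs, fun x => (hsx x).symm⟩
    obtain ⟨g, hgXU, hgN, hgX⟩ := CfsgLib.FusionSub.exists_mem_normalizer_not_mem hVp
      (lt_of_le_of_ne (le_sup_left : X ≤ X ⊔ U) fun h => hUX (le_sup_right.trans h.ge))
      (sup_le hX.1 hUc.1)
    obtain ⟨x₀, hx₀, u, hu, rfl⟩ := exists_mul_of_mem_sup hUc hX.1 hgXU
    have huN : u ∈ Subgroup.normalizer (X : Set Ω) := by
      have := Subgroup.mul_mem _ (Subgroup.inv_mem _ (Subgroup.le_normalizer hx₀)) hgN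
      rwa [inv_mul_cancel_left] at this
    have huM : conjAut X u huN ∈ M := by
      refine ⟨autInducedBy_le_autGroup N hX.1 (conjAut_mem hu.1 huN), fun x => ?_⟩
      show (x : Ω)⁻¹ * (u * (x : Ω) * u⁻¹) ∈ T
      have := T.mul_mem (CfsgLib.FusionSub.stronglyClosed_conj hT
        (S.inv_mem (hVS (hX.1 x.2))) hu.2) (T.inv_mem hu.2)
      simpa [mul_assoc] using this
    have hlt : X < R := lt_of_le_of_ne hXR fun h =>
      hgX (X.mul_mem hx₀ (h.ge (hgR u hu.1 huN huM)))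
    have Gχ : CfsgLib.FusionSub.ExtendsTo N U X (X.subtype.comp χ.toMonoidHom) :=
      (CfsgLib.FusionSub.closed_extendsTo hUc).restrict_apply hXR hψ
        (big R ψ hψ (CfsgLib.FusionSub.card_lt_card (hRN.trans (normalizerIn_le V X)) hlt))
        fun x => (hext x).symm
    have hm : ∀ x : X, (X.subtype.comp χ.toMonoidHom) x ∈ X := fun x => (χ x).2
    subst he
    exact (CfsgLib.FusionSub.closed_extendsTo hUc).comp ((mem_autGroup_iff N hX.1).mp hχ)
      ((mem_autGroup_iff N hX.1).mp hκ.2) hm Gχ Gκ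
  have hAV : A ≤ V := fun a ha => centralizerIn_le_normL S Q K (hA ha)
  have hkA : ∀ x : A, k (Subgroup.inclusion le_sup_right x) ∈ centralizerIn S Q := fun x =>
    ⟨apply_mem hk _, fun q hq => by
      refine (congrArg (· * _) (hkQ ⟨q, hq⟩).symm).trans (Eq.trans ?_
        (congrArg (_ * ·) (hkQ ⟨q, hq⟩)))
      rw [← map_mul, ← map_mul]
      exact congrArg k (Subtype.ext ((hA x.2).2 q hq))⟩
  have hkN : k.comp (Subgroup.inclusion le_sup_right) ∈ N.Hom A := by
    refine ⟨restrict_mem hk le_sup_right, hAV, fun x => ?_, _, restrict_mem hk (sup_comm _ _).le,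
      fun x => congrArg k (Subtype.ext rfl), 1, one_mem _, fun q => ?_⟩
    · exact centralizerIn_le_normL S Q K (hkA x)
    · exact (congrArg k (Subtype.ext rfl)).trans (hkQ q)
  obtain ⟨ψ, hψ, hψx⟩ := key hkN
  refine ⟨U, inf_le_right, lt_of_le_of_ne hQU fun h => htQ (h.ge htU), _,
    restrict_mem hψ.1 (sup_comm U A).le, fun r => ?_, fun x => ?_⟩
  · exact (congrArg ψ (Subtype.ext rfl : _ = Subgroup.inclusion le_sup_right r)).symm ▸
      CfsgLib.FusionSub.stronglyClosed_apply hUc hψ _ r.2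
  · exact (congrArg ψ (Subtype.ext rfl)).trans (hψx x)

/-- A map fixing an `E`-centric fully normalized subgroup extends to a larger subgroup of `T`. -/
theorem exists_extend_fixing (hS : IsPGroup p S) (hF : F.IsSaturated p) (hT : F.StronglyClosed T)
    {Q : Subgroup Ω} (hQ : F.IsFullyNormalized Q) (hQc : E.IsCentric Q) (hQT : Q < T)
    {c : Ω} (hc : c ∈ centralizerIn S Q) {k : ↥(Q ⊔ Subgroup.zpowers c) →* Ω}
    (hk : k ∈ F.Hom (Q ⊔ Subgroup.zpowers c))
    (hkQ : ∀ q : Q, k (Subgroup.inclusion le_sup_left q) = q) :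
    ∃ R : Subgroup Ω, R ≤ T ∧ Q < R ∧ ∃ g ∈ F.Hom (R ⊔ Subgroup.zpowers c),
      g (Subgroup.inclusion le_sup_right ⟨c, Subgroup.mem_zpowers c⟩) =
        k (Subgroup.inclusion le_sup_right ⟨c, Subgroup.mem_zpowers c⟩) := by
  obtain ⟨R, hRT, hQR, g, hg, -, hgc⟩ :=
    exists_extend_fixing_sub hS hF hT hQ hQc hQT (Subgroup.zpowers_le.mpr hc) hk hkQ
  exact ⟨R, hRT, hQR, g, hg, hgc ⟨c, Subgroup.mem_zpowers c⟩⟩

/-- Maps on `P⟨y⟩`, with `P` centric in `E`, carry fixed elements to fixed elements. -/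
theorem fixedElts_apply (hS : IsPGroup p S) (hF : F.IsSaturated p) (hE : E.IsInvariantIn F)
    {P : Subgroup Ω} (hP : E.IsCentric P) {y : Ω} (hy : y ∈ fixedElts F E)
    {g : ↥(P ⊔ Subgroup.zpowers y) →* Ω} (hg : g ∈ F.Hom (P ⊔ Subgroup.zpowers y)) :
    g (Subgroup.inclusion le_sup_right ⟨y, Subgroup.mem_zpowers y⟩) ∈ fixedElts F E := by
  have hT := hE.2.1
  suffices h : ∀ (n : ℕ) (P : Subgroup Ω), E.IsCentric P → Nat.card T - Nat.card P = n →
      ∀ (y : Ω), y ∈ fixedElts F E → ∀ g : ↥(P ⊔ Subgroup.zpowers y) →* Ω,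
        g ∈ F.Hom (P ⊔ Subgroup.zpowers y) →
          g (Subgroup.inclusion le_sup_right ⟨y, Subgroup.mem_zpowers y⟩) ∈ fixedElts F E from
    h _ P hP rfl y hy g hg
  intro n
  induction n using Nat.strong_induction_on with
  | _ n ih =>
  intro P hP hn y hy g hg
  rcases hP.1.eq_or_lt with rfl | hPT
  · exact fixedElts_transport hE hy hg
  set y₀ : ↥(P ⊔ Subgroup.zpowers y) := Subgroup.inclusion le_sup_right ⟨y, Subgroup.mem_zpowers y⟩
  have hPS := hP.1.trans hT.1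
  have hgP := restrict_mem hg (le_sup_left : P ≤ P ⊔ Subgroup.zpowers y)
  set gP := g.comp (Subgroup.inclusion (le_sup_left : P ≤ P ⊔ Subgroup.zpowers y))
  set P' := gP.range with hP'
  have hP'c : E.IsCentric P' := isCentric_of_hom_invariant hE hP hgP
  have hP'card : Nat.card P' = Nat.card P := card_range_eq (F.injective_of_mem hgP)
  have hgy : g y₀ ∈ centralizerIn S P' := ⟨apply_mem hg _, by
    rintro _ ⟨x, rfl⟩
    show g _ * g y₀ = g y₀ * g _
    rw [← map_mul, ← map_mul]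
    exact congrArg g (Subtype.ext (hy.1.2 x (hP.1 x.2)))⟩
  obtain ⟨Q, hP'Q, hQ⟩ := exists_isFullyNormalized F (range_le hgP)
  obtain ⟨η, hη, -, hηm⟩ := exists_hom_normalizerIn_of_fullyNormalized hS hF hQ hP'Q
  have hP'N : P' ≤ normalizerIn S P' := le_normalizerIn (range_le hgP)
  have hgm : ∀ z, g z ∈ normalizerIn S P' := apply_mem_of_sup g
    (fun x => hP'N ⟨x, rfl⟩)
    (fun z => map_zpowers_le g y₀.2 (centralizerIn_le_normalizerIn S P' hgy) _ z.2)
  set f := η.comp (g.codRestrict _ hgm) with hf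
  have hfF : f ∈ F.Hom _ := F.comp_mem hg hη hgm
  have hfP : f.comp (Subgroup.inclusion (le_sup_left : P ≤ P ⊔ Subgroup.zpowers y)) ∈ F.Hom P :=
    restrict_mem hfF _
  set fP := f.comp (Subgroup.inclusion (le_sup_left : P ≤ P ⊔ Subgroup.zpowers y)) with hfPd
  have hfPr : fP.range = Q := by
    ext q
    rw [← hηm]
    constructor
    · rintro ⟨x, rfl⟩
      exact ⟨⟨gP x, hP'N ⟨x, rfl⟩⟩, ⟨x, rfl⟩, rfl⟩
    · rintro ⟨w, ⟨x, hx⟩, rfl⟩
      exact ⟨x, congrArg η (Subtype.ext hx)⟩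
  have hQc : E.IsCentric Q := hfPr ▸ isCentric_of_hom_invariant hE hP hfP
  have hQcard : Nat.card Q = Nat.card P := hfPr ▸ card_range_eq (F.injective_of_mem hfP)
  have hlift : ∀ R : Subgroup Ω, R ≤ T → Nat.card P < Nat.card R → E.IsCentric R →
      ∀ (z : Ω), z ∈ fixedElts F E → ∀ g : ↥(R ⊔ Subgroup.zpowers z) →* Ω,
        g ∈ F.Hom (R ⊔ Subgroup.zpowers z) →
          g (Subgroup.inclusion le_sup_right ⟨z, Subgroup.mem_zpowers z⟩) ∈ fixedElts F E :=
    fun R hR hlt hRc z hz g hg => ih _ (by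
      have := Subgroup.card_le_of_le (K := T) hR
      omega) R hRc rfl z hz g hg
  -- the decomposition of `f` on `P`
  obtain ⟨a, ha, e, he, hex⟩ := hE.2.2.2 P hP.1 fP hfP
  obtain ⟨ε, hε, hεx, hεy⟩ := hy.2 P e he
  obtain ⟨β, hβ, hβx, -⟩ := exists_ext_centralizer hS hF hT ha
  have hεm : ∀ z, ε z ∈ T ⊔ centralizerIn S T := apply_mem_of_sup ε
    (fun x => Subgroup.mem_sup_left ((hεx x).symm ▸ apply_mem he x))
    (fun z => Subgroup.mem_sup_right ((hεy z).symm ▸ Subgroup.zpowers_le.mpr hy.1 z.2))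
  set b := β.comp (ε.codRestrict _ hεm) with hbd
  have hbF : b ∈ F.Hom _ := F.comp_mem hε hβ hεm
  have hbP : ∀ x : P, b (Subgroup.inclusion le_sup_left x) = fP x := fun x => by
    refine Eq.trans ?_ (hex x (apply_mem he x)).symm
    refine Eq.trans ?_ (hβx ⟨e x, apply_mem he x⟩)
    exact congrArg β (Subtype.ext (hεx x))
  set c₀ := b y₀ with hc₀
  have hc₀W : c₀ ∈ fixedElts F E := by
    have hle : T ⊔ Subgroup.zpowers y ≤ T ⊔ centralizerIn S T :=
      sup_le_sup_left (Subgroup.zpowers_le.mpr hy.1) T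
    have h := fixedElts_transport hE hy (restrict_mem hβ hle)
    refine Eq.subst (motive := fun v => v ∈ fixedElts F E) ?_ h
    exact congrArg β (Subtype.ext (hεy ⟨y, Subgroup.mem_zpowers y⟩).symm)
  obtain ⟨θ, hθ, hθr, hθx, -⟩ := exists_inverse hbF rfl
  have hle : Q ⊔ Subgroup.zpowers c₀ ≤ b.range := by
    refine sup_le ?_ (Subgroup.zpowers_le.mpr ⟨y₀, rfl⟩)
    rw [← hfPr]
    rintro _ ⟨x, rfl⟩
    exact ⟨_, hbP x⟩
  have hθm : ∀ z, (θ.comp (Subgroup.inclusion hle)) z ∈ P ⊔ Subgroup.zpowers y :=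
    fun z => hθr.le ⟨_, rfl⟩
  set k := f.comp ((θ.comp (Subgroup.inclusion hle)).codRestrict _ hθm) with hkd
  have hkF : k ∈ F.Hom _ := F.comp_mem (restrict_mem hθ hle) hfF hθm
  have hkQ : ∀ q : Q, k (Subgroup.inclusion le_sup_left q) = q := by
    intro q
    obtain ⟨x, hx⟩ := hfPr.ge q.2
    refine Eq.trans (congrArg f (Subtype.ext ?_ : _ = Subgroup.inclusion le_sup_left x)) hx
    exact (congrArg θ (Subtype.ext (hx.symm.trans (hbP x).symm))).trans (hθx _ ⟨_, rfl⟩)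
  have hky : k (Subgroup.inclusion le_sup_right ⟨c₀, Subgroup.mem_zpowers c₀⟩) = f y₀ :=
    congrArg f (Subtype.ext ((congrArg θ (Subtype.ext rfl)).trans (hθx y₀ ⟨_, rfl⟩)))
  have hQT : Q < T := lt_of_le_of_ne hQc.1 fun h => by
    have := CfsgLib.FusionSub.card_lt_card (S := T) le_rfl hPT
    rw [← hQcard, h] at this
    exact lt_irrefl _ this
  obtain ⟨R, hRT, hQR, g₁, hg₁, hg₁c⟩ := exists_extend_fixing hS hF hT hQ hQc hQT
    ⟨hc₀W.1.1, fun q hq => hc₀W.1.2 q (hQc.1 hq)⟩ hkF hkQ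
  have hfyW : f y₀ ∈ fixedElts F E := by
    rw [← hky, ← hg₁c]
    exact hlift R hRT (hQcard ▸ CfsgLib.FusionSub.card_lt_card (hRT.trans hT.1) hQR)
      (CfsgLib.FusionExamples.isCentric_of_ge hQc hQR.le hRT) c₀ hc₀W g₁ hg₁
  -- pull back along `η`
  have hP'T : P' < T := lt_of_le_of_ne hP'c.1 fun h => by
    have := CfsgLib.FusionSub.card_lt_card (S := T) le_rfl hPT
    rw [← hP'card, h] at this
    exact lt_irrefl _ this
  obtain ⟨t, ht, htN, htP⟩ := CfsgLib.FusionSub.exists_mem_normalizer_not_mem hS hP'T hT.1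
  set P₁ := T ⊓ normalizerIn S P' with hP₁
  have hP'P₁ : P' < P₁ := lt_of_le_of_ne (le_inf hP'c.1 hP'N) fun h =>
    htP (h.ge ⟨ht, hT.1 ht, htN⟩)
  have hη₁ := restrict_mem hη (inf_le_right : P₁ ≤ normalizerIn S P')
  set R₁ := (η.comp (Subgroup.inclusion (inf_le_right : P₁ ≤ normalizerIn S P'))).range with hR₁
  have hR₁c : E.IsCentric R₁ := isCentric_of_hom_invariant hE
    (CfsgLib.FusionExamples.isCentric_of_ge hP'c hP'P₁.le inf_le_left) hη₁
  have hR₁card : Nat.card P < Nat.card R₁ := by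
    rw [card_range_eq (F.injective_of_mem hη₁), ← hP'card]
    exact CfsgLib.FusionSub.card_lt_card (inf_le_left.trans hT.1) hP'P₁
  obtain ⟨θ', hθ', -, hθ'x, -⟩ := exists_inverse hη rfl
  have hle' : R₁ ⊔ Subgroup.zpowers (f y₀) ≤ η.range := by
    refine sup_le ?_ (Subgroup.zpowers_le.mpr ⟨_, rfl⟩)
    rintro _ ⟨w, rfl⟩
    exact ⟨_, rfl⟩
  have h := hlift R₁ hR₁c.1 hR₁card hR₁c (f y₀) hfyW _ (restrict_mem hθ' hle')
  refine Eq.subst (motive := fun v => v ∈ fixedElts F E) ?_ h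
  exact (congrArg θ' (Subtype.ext rfl)).trans (hθ'x ⟨g y₀, hgm y₀⟩ ⟨_, rfl⟩)

/-- Membership among the fixed elements is preserved by the maps of `F`. -/
theorem fixedElts_iff (hS : IsPGroup p S) (hE : E.IsNormalIn F p) {R : Subgroup Ω}
    {φ : R →* Ω} (hφ : φ ∈ F.Hom R) (x : R) :
    (x : Ω) ∈ fixedElts F E ↔ φ x ∈ fixedElts F E := by
  obtain ⟨⟨hEs, hF, hEi⟩, -⟩ := hE
  have hT := hEi.2.1
  have hconj : ∀ s ∈ S, ∀ y ∈ fixedElts F E, s * y * s⁻¹ ∈ fixedElts F E := fun s hs y hy =>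
    fixedElts_transport hEi hy (F.conj_mem (sup_le hT.1 (Subgroup.zpowers_le.mpr hy.1.1)) hs)
  let W : FusionSystem S :=
    { Hom := fun P => {φ | φ ∈ F.Hom P ∧ ∀ x : P,
        (x : Ω) ∈ fixedElts F E ↔ φ x ∈ fixedElts F E}
      le_of_mem := fun h => F.le_of_mem h.1
      injective_of_mem := fun h => F.injective_of_mem h.1
      conj_mem := fun {P g} hP hg => ⟨F.conj_mem hP hg, fun x =>
        ⟨fun h => hconj g hg _ h, fun h => by
          have h' := hconj g⁻¹ (S.inv_mem hg) _ h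
          have e : g⁻¹ * (g * (x : Ω) * g⁻¹) * g⁻¹⁻¹ = x := by group
          exact e ▸ h'⟩⟩
      comp_mem := fun h₁ h₂ h => ⟨F.comp_mem h₁.1 h₂.1 h, fun x =>
        (h₁.2 x).trans (h₂.2 ⟨_, h x⟩)⟩
      inv_mem := fun {P φ} hφ => by
        obtain ⟨θ, hθ, -, hθx, -⟩ := exists_inverse hφ.1 rfl
        refine ⟨θ, ⟨hθ, ?_⟩, fun x => hθx x ⟨x, rfl⟩⟩
        rintro ⟨_, x, rfl⟩
        show φ x ∈ _ ↔ θ ⟨φ x, _⟩ ∈ _
        rw [hθx x ⟨x, rfl⟩]
        exact (hφ.2 x).symm }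
  suffices h : ∀ P, F.Hom P ⊆ W.Hom P from (h R hφ).2 x
  refine alperin_centric_radical hS hF W fun P hPn hPc hPr α hα => ?_
  have hPTc : E.IsCentric (P ⊓ T) := by
    by_contra hcon
    rcases hPr with rfl | hrad
    · rw [inf_eq_right.mpr hT.1] at hcon
      exact hcon (isCentric_top E)
    · obtain ⟨φ, hφ, x, hx, hxP, β, hβ, hβx⟩ :=
        exists_conj_pCore_induced hS hF hT hEi.1 hPn.1 hcon
      exact not_isRadical_of_pCore_induced hPc hφ hx hxP hβ hβx hrad
  have hfwd : ∀ γ ∈ F.autGroup P, ∀ x : P, (x : Ω) ∈ fixedElts F E →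
      (((γ : MulAut P) x : P) : Ω) ∈ fixedElts F E := fun γ hγ x hx =>
    fixedElts_apply hS hF hEi hPTc hx (restrict_mem ((mem_autGroup_iff F hPn.1).mp hγ)
      (sup_le inf_le_left (Subgroup.zpowers_le.mpr x.2)))
  refine (mem_autGroup_iff W hPn.1).mpr ⟨(mem_autGroup_iff F hPn.1).mp hα, fun x =>
    ⟨hfwd α hα x, fun h => ?_⟩⟩
  have h' := hfwd α⁻¹ (inv_mem hα) (α x) h
  rwa [MulAut.inv_apply_self] at h'

/-- An automorphism of `T` of order prime to `p` extends fixing all the fixed elements. -/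
theorem exists_fix_top (hS : IsPGroup p S) (hE : E.IsNormalIn F p) {γ : MulAut T}
    (hγ : γ ∈ E.autGroup T) (hc : (orderOf γ).Coprime p) :
    ∃ δ ∈ F.Hom (T ⊔ centralizerIn S T),
      (∀ x : T, δ (Subgroup.inclusion le_sup_left x) = ((γ x : T) : Ω)) ∧
      ∀ (y : Ω) (h : y ∈ T ⊔ centralizerIn S T), y ∈ fixedElts F E → δ ⟨y, h⟩ = y := by
  obtain ⟨⟨hEs, hF, hEi⟩, hext⟩ := hE
  have hT := hEi.2.1
  set C := centralizerIn S T with hCd
  have hTp := isPGroup_of_le hS hT.1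
  have hWS : T ⊔ C ≤ S := sup_le hT.1 (centralizerIn_le S T)
  haveI := finite_of_le hWS
  haveI := finite_of_le (centralizerIn_le S T)
  obtain ⟨β, hβF, hβx, hβc⟩ := hext γ hγ
  haveI := finite_autGroup F hWS
  -- a power of order prime to `p`
  set o := orderOf β with ho
  have ho0 : o ≠ 0 := (orderOf_pos β).ne'
  set m := ordCompl[p] o * orderOf γ with hm
  have hmc : m.Coprime p :=
    Nat.Coprime.mul_left (Nat.coprime_ordCompl (Fact.out : p.Prime) ho0).symm hc
  obtain ⟨j, hj, hjp⟩ := exists_exponent (p := p) hmc (o.factorization p)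
  set Δ := β ^ j with hΔ
  have hΔF : Δ ∈ F.autGroup (T ⊔ C) := pow_mem hβF j
  have hΔm : Δ ^ m = 1 := by
    rw [hΔ, ← pow_mul]
    refine orderOf_dvd_iff_pow_eq_one.mp ?_
    rw [← ho, hm]
    calc o = ordProj[p] o * ordCompl[p] o := (Nat.ordProj_mul_ordCompl_eq_self o p).symm
      _ ∣ j * (ordCompl[p] o * orderOf γ) := Nat.mul_dvd_mul hjp (Dvd.intro _ rfl)
  have hpowT : ∀ (n : ℕ) (x : T), (β ^ n) (Subgroup.inclusion le_sup_left x) =
      Subgroup.inclusion le_sup_left ((γ ^ n) x) := by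
    intro n
    induction n with
    | zero => simp
    | succ n ih =>
      intro x
      rw [pow_succ', pow_succ', MulAut.mul_apply, MulAut.mul_apply, ih]
      exact Subtype.ext (hβx _)
  have hΔx : ∀ x : T, Δ (Subgroup.inclusion le_sup_left x) = Subgroup.inclusion le_sup_left (γ x) :=
    fun x => by rw [hΔ, hpowT, hj (by rw [hm, pow_mul', pow_orderOf_eq_one, one_pow])]
  have hΔT : ∀ x : ↥(T ⊔ C), (x : Ω) ∈ T → ((Δ x : ↥(T ⊔ C)) : Ω) ∈ T := fun x hx => by
    rw [show x = Subgroup.inclusion le_sup_left (⟨x, hx⟩ : T) from rfl, hΔx]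
    exact (γ _).2
  let G : Set (MulAut ↥(T ⊔ C)) := {b | ∀ c : ↥(T ⊔ C), (c : Ω) ∈ C →
    (c : Ω)⁻¹ * ((b c : ↥(T ⊔ C)) : Ω) ∈ T}
  have hG : ∀ n : ℕ, β ^ n ∈ G := by
    intro n
    induction n with
    | zero => intro c _; simp
    | succ n ih =>
      intro c hc
      have h1 : (((c⁻¹ * β c : ↥(T ⊔ C))) : Ω) ∈ T := (hβc c hc).1
      have h2 : (((β ^ n) (c⁻¹ * β c) : ↥(T ⊔ C)) : Ω) ∈ T := by
        rw [show c⁻¹ * β c = Subgroup.inclusion le_sup_left (⟨_, h1⟩ : T) from rfl, hpowT]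
        exact ((γ ^ n) _).2
      rw [map_mul, map_inv, Subgroup.coe_mul, Subgroup.coe_inv] at h2
      have := T.mul_mem (ih c hc) h2
      rw [← mul_assoc, mul_inv_cancel_right] at this
      rw [pow_succ, MulAut.mul_apply]
      exact this
  have hCT : ∀ c ∈ C, ∀ t ∈ T, t * c = c * t := fun c hc t ht => hc.2 t ht
  have hΔC : ∀ c : ↥(T ⊔ C), (c : Ω) ∈ C → ((Δ c : ↥(T ⊔ C)) : Ω) ∈ C := by
    intro c hc
    refine ⟨hWS (Δ c).2, fun t ht => ?_⟩
    obtain ⟨x, hx⟩ := γ.surjective ⟨t, ht⟩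
    have e : Δ (Subgroup.inclusion le_sup_left x) = ⟨t, Subgroup.mem_sup_left ht⟩ := by
      rw [hΔx, hx]; rfl
    have h := congrArg Δ (Subtype.ext (hCT _ hc x x.2) :
      Subgroup.inclusion le_sup_left x * c = c * Subgroup.inclusion le_sup_left x)
    rw [map_mul, map_mul, e] at h
    exact congrArg Subtype.val h
  -- the displacement
  let d : C → Ω := fun c => (c : Ω)⁻¹ * ((Δ (Subgroup.inclusion le_sup_right c) : ↥(T ⊔ C)) : Ω)
  have hdT : ∀ c, d c ∈ T := fun c => hG j (Subgroup.inclusion le_sup_right c) c.2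
  have hdC : ∀ c, d c ∈ C := fun c => C.mul_mem (C.inv_mem c.2) (hΔC _ c.2)
  have hTn : F.IsFullyNormalized T := by
    refine ⟨hT.1, fun Q ⟨φ, hφ, hr⟩ => ?_⟩
    have hQT : Q ≤ T := by
      rw [← hr]
      rintro _ ⟨x, rfl⟩
      exact hT.2 T le_rfl φ hφ x
    rw [Subgroup.eq_of_le_of_card_ge hQT (by rw [← hr, card_range_eq (F.injective_of_mem hφ)])]
  obtain ⟨N, hN⟩ := exists_centralizerSystem F hT.1
  have hNs := Cfsg.Agent.S5099.result p hS F hF T
    (centralized_automized_of_fullyNormalized hS hF hTn).1 N hN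
  have hCp := isPGroup_of_le hS (centralizerIn_le S T)
  -- maps of the centralizer system respect the displacement
  have key : ∀ {P : Subgroup Ω} {φ : P →* Ω}, φ ∈ N.Hom P →
      ∀ (x : P) (hx : (x : Ω) ∈ C) (hy : φ x ∈ C), d ⟨φ x, hy⟩ = d ⟨x, hx⟩ := by
    intro P φ hφ
    refine CfsgLib.FusionSub.closed_induction_centric (Good := fun P φ => ∀ (x : P)
      (hx : (x : Ω) ∈ C) (hy : φ x ∈ C), d ⟨φ x, hy⟩ = d ⟨x, hx⟩) hCp hNs
      ⟨fun hQ _ h x hx hy => h ⟨x, hQ x.2⟩ hx hy,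
       fun hφ _ hm h₁ h₂ x hx hy => (h₂ ⟨_, hm x⟩ (apply_mem hφ x) hy).trans (h₁ x hx _),
       fun {P Q φ ψ} hφ _ hr hψx h y hy hy' => ?_⟩ (fun R hR hRc _ α hα => ?_) hφ
    · obtain ⟨yv, hyv⟩ := y
      obtain ⟨x, rfl⟩ := hr.ge hyv
      simp only [hψx x hyv] at hy' ⊢
      exact (h x hy' hy).symm
    · haveI := finite_of_le hR.1
      have hZR : ∀ z ∈ T, z ∈ C → z ∈ R := fun z hz hzC =>
        hRc.2 R (isConj_refl N hRc.1) ⟨hzC, fun r hr => ((hR.1 hr).2 z hz).symm⟩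
      have hRW : R ≤ T ⊔ C := hR.1.trans le_sup_right
      have hRm : ∀ x : R, ((Δ (Subgroup.inclusion hRW x) : ↥(T ⊔ C)) : Ω) ∈ R := fun x => by
        have := R.mul_mem x.2 (hZR _ (hdT ⟨x, hR.1 x.2⟩) (hdC ⟨x, hR.1 x.2⟩))
        rwa [show (x : Ω) * d ⟨x, hR.1 x.2⟩ = _ from mul_inv_cancel_left (x : Ω) _] at this
      have hΔ' := (mem_autGroup_iff F hWS).mp hΔF
      obtain ⟨ε, hεF, hεx⟩ := exists_aut_of_hom' F (restrict_mem hΔ' hRW) hRm
      have hRTW : R ⊔ T ≤ T ⊔ C := sup_le hRW le_sup_left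
      haveI := finite_of_le (hRTW.trans hWS)
      obtain ⟨εT, hεTF, hεTx⟩ := exists_aut_of_hom' F (restrict_mem hΔ' hRTW) (fun z =>
        apply_mem_of_sup (((T ⊔ C).subtype.comp Δ.toMonoidHom).comp (Subgroup.inclusion hRTW))
          (fun x => Subgroup.mem_sup_left (hRm x))
          (fun t => Subgroup.mem_sup_right (hΔT _ t.2)) z)
      have hα' := (mem_autGroup_iff N hR.1).mp hα
      have hfix : ∀ b ∈ N.autGroup R, ∀ x : R, (x : Ω) ∈ T → (b : MulAut R) x = x := by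
        intro b hb x hx
        have hb' := (mem_autGroup_iff N hR.1).mp hb
        rw [hN R] at hb'
        obtain ⟨-, -, -, χ, -, hχx, hχt⟩ := hb'
        refine Subtype.ext ((hχx x).symm.trans ?_)
        exact (congrArg χ (Subtype.ext rfl)).trans (hχt ⟨x, hx⟩)
      -- the conjugate of `α`
      have hαε : ε * α * ε⁻¹ ∈ N.autGroup R := by
        rw [hN R] at hα'
        obtain ⟨-, -, -, αh, hαh, hαhx, hαht⟩ := hα'
        obtain ⟨αT, hαTF, hαTx⟩ := exists_aut_of_hom' F hαh (apply_mem_of_sup αh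
          (fun x => Subgroup.mem_sup_left ((hαhx x).symm ▸ (α x).2))
          (fun t => Subgroup.mem_sup_right ((hαht t).symm ▸ t.2)))
        have hi1 : ∀ x : R, εT (Subgroup.inclusion le_sup_left x) =
            Subgroup.inclusion le_sup_left (ε x) := fun x =>
          Subtype.ext ((hεTx _).trans (hεx x).symm)
        have hi2 : ∀ t : T, εT (Subgroup.inclusion le_sup_right t) =
            Subgroup.inclusion le_sup_right (γ t) := fun t =>
          Subtype.ext ((hεTx _).trans (congrArg Subtype.val (hΔx t)))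
        have hi1' : ∀ x : R, εT⁻¹ (Subgroup.inclusion le_sup_left x) =
            Subgroup.inclusion le_sup_left (ε⁻¹ x) := fun x => εT.injective (by
          rw [MulAut.apply_inv_self, hi1, MulAut.apply_inv_self])
        have hi2' : ∀ t : T, εT⁻¹ (Subgroup.inclusion le_sup_right t) =
            Subgroup.inclusion le_sup_right (γ⁻¹ t) := fun t => εT.injective (by
          rw [MulAut.apply_inv_self, hi2, MulAut.apply_inv_self])
        refine (mem_autGroup_iff N hR.1).mpr ?_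
        rw [hN R]
        refine ⟨(mem_autGroup_iff F (hR.1.trans (centralizerIn_le S T))).mp (mul_mem (mul_mem hεF
          ?_) (inv_mem hεF)), hR.1, fun x => hR.1 ((ε * α * ε⁻¹) x).2, _,
          (mem_autGroup_iff F (hRTW.trans hWS)).mp (mul_mem (mul_mem hεTF hαTF) (inv_mem hεTF)),
          fun x => ?_, fun t => ?_⟩
        · exact (mem_autGroup_iff F (hR.1.trans (centralizerIn_le S T))).mpr
            (restrict_mem_apply hαh le_sup_left fun x => (hαhx x).symm)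
        · show (((εT * αT * εT⁻¹) (Subgroup.inclusion le_sup_left x) : ↥(R ⊔ T)) : Ω) = _
          rw [MulAut.mul_apply, MulAut.mul_apply, hi1',
            show αT (Subgroup.inclusion le_sup_left (ε⁻¹ x)) =
              Subgroup.inclusion le_sup_left (α (ε⁻¹ x)) from
              Subtype.ext ((hαTx _).trans (hαhx _)), hi1]
          rfl
        · show (((εT * αT * εT⁻¹) (Subgroup.inclusion le_sup_right t) : ↥(R ⊔ T)) : Ω) = _
          rw [MulAut.mul_apply, MulAut.mul_apply, hi2',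
            show αT (Subgroup.inclusion le_sup_right (γ⁻¹ t)) =
              Subgroup.inclusion le_sup_right (γ⁻¹ t) from
              Subtype.ext ((hαTx _).trans (hαht _)), hi2, MulAut.apply_inv_self]
          rfl
      set g := ε * α * ε⁻¹ * α⁻¹ with hg
      let M : Subgroup (MulAut R) :=
        { carrier := {b | b ∈ N.autGroup R ∧ ∀ x : R, (x : Ω)⁻¹ * ((b x : R) : Ω) ∈ T}
          one_mem' := ⟨one_mem _, fun x => by simp⟩
          mul_mem' := fun {b c} hb hc => ⟨mul_mem hb.1 hc.1, fun x => by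
            have := T.mul_mem (hc.2 x) (hb.2 (c x))
            simpa [mul_assoc] using this⟩
          inv_mem' := fun {b} hb => ⟨inv_mem hb.1, fun x => by
            have := T.inv_mem (hb.2 ((b⁻¹ : MulAut R) x))
            simpa using this⟩ }
      have hεm : ∀ x : R, (x : Ω)⁻¹ * ((ε x : R) : Ω) ∈ T := fun x => by
        rw [hεx]
        exact hdT ⟨x, hR.1 x.2⟩
      have hεT : ∀ x : R, (x : Ω) ∈ T → ((ε x : R) : Ω) ∈ T := fun x hx => by
        rw [hεx]
        exact hΔT _ hx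
      have hgM : g ∈ M := by
        refine ⟨mul_mem hαε (inv_mem hα), fun x => ?_⟩
        set y := (α⁻¹ : MulAut R) x with hy
        set z := y⁻¹ * (ε⁻¹ : MulAut R) y with hz
        have hzT : (z : Ω) ∈ T := by
          have := T.inv_mem (hεm ((ε⁻¹ : MulAut R) y))
          simpa [hz] using this
        have e1 : α ((ε⁻¹ : MulAut R) y) = x * z := by
          rw [show (ε⁻¹ : MulAut R) y = y * z by rw [hz, mul_inv_cancel_left], map_mul,
            hfix α hα z hzT, hy, MulAut.apply_inv_self]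
        show (x : Ω)⁻¹ * ((ε (α ((ε⁻¹ : MulAut R) y)) : R) : Ω) ∈ T
        rw [e1, map_mul, Subgroup.coe_mul, ← mul_assoc]
        exact T.mul_mem (hεm x) (hεT z hzT)
      obtain ⟨e, he⟩ := IsPGroup.iff_card.mp (isPGroup_of_le hS (hR.1.trans (centralizerIn_le S T)))
      have hMpow : ∀ b ∈ M, (b : MulAut R) ^ p ^ e = 1 := by
        intro b hb
        refine MulEquiv.ext fun x => ?_
        set z := x⁻¹ * (b : MulAut R) x
        have hz : b z = z := hfix b hb.1 z (hb.2 x)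
        have h : ∀ n : ℕ, (b ^ n) x = x * z ^ n := by
          intro n
          induction n with
          | zero => simp
          | succ n ih =>
            rw [pow_succ', MulAut.mul_apply, ih, map_mul, map_pow, hz, pow_succ', ← mul_assoc,
              mul_inv_cancel_left]
        have hze : z ^ p ^ e = 1 := he ▸ pow_card_eq_one'
        rw [h, hze, mul_one]
        rfl
      haveI := finite_autGroup N hR.1
      obtain ⟨-, R₀, hR₀⟩ := (centralized_automized_of_fullyNormalized hCp hNs hR).2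
      haveI : (M.subgroupOf (N.autGroup R)).Normal := ⟨fun b hb a => by
        rw [Subgroup.mem_subgroupOf] at hb ⊢
        refine ⟨(a * b * a⁻¹).2, fun x => ?_⟩
        set y := ((a : MulAut R)⁻¹) x
        set z := y⁻¹ * (b : MulAut R) y
        have hzT : (z : Ω) ∈ T := hb.2 y
        show (x : Ω)⁻¹ * (((a : MulAut R) ((b : MulAut R) y) : R) : Ω) ∈ T
        rw [show (b : MulAut R) y = y * z from (mul_inv_cancel_left _ _).symm, map_mul,
          hfix a a.2 z hzT, MulAut.apply_inv_self, Subgroup.coe_mul, inv_mul_cancel_left]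
        exact hzT⟩
      have hMp : IsPGroup p (M.subgroupOf (N.autGroup R)) := fun b => ⟨e, Subtype.ext
        (Subtype.ext (hMpow _ (Subgroup.mem_subgroupOf.mp b.2)))⟩
      have hMR := (IsPGroup.le_sylow_of_normal hMp R₀) (x := ⟨g, hgM.1⟩)
        (Subgroup.mem_subgroupOf.mpr hgM)
      rw [hR₀, Subgroup.mem_subgroupOf] at hMR
      obtain ⟨s, hs, hsx⟩ := mem_autInducedBy_iff.mp hMR
      have hcomm : Commute ε g := by
        refine MulEquiv.ext fun x => Subtype.ext ?_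
        show ((ε (g x) : R) : Ω) = ((g (ε x) : R) : Ω)
        rw [hsx (ε x), hεx, hεx]
        have hdc : d ⟨s, hs⟩ * ((Δ (Subgroup.inclusion hRW x) : ↥(T ⊔ C)) : Ω) =
            ((Δ (Subgroup.inclusion hRW x) : ↥(T ⊔ C)) : Ω) * d ⟨s, hs⟩ :=
          hCT _ (hR.1 (hRm x)) _ (hdT _)
        have e' : Subgroup.inclusion hRW (g x) = Subgroup.inclusion le_sup_right (⟨s, hs⟩ : C) *
            Subgroup.inclusion hRW x * (Subgroup.inclusion le_sup_right (⟨s, hs⟩ : C))⁻¹ :=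
          Subtype.ext (hsx x)
        show ((Δ (Subgroup.inclusion hRW (g x)) : ↥(T ⊔ C)) : Ω) =
          s * ((Δ (Subgroup.inclusion hRW x) : ↥(T ⊔ C)) : Ω) * s⁻¹
        rw [e', map_mul, map_mul, map_inv, Subgroup.coe_mul, Subgroup.coe_mul, Subgroup.coe_inv,
          show ((Δ (Subgroup.inclusion le_sup_right (⟨s, hs⟩ : C)) : ↥(T ⊔ C)) : Ω) =
            s * d ⟨s, hs⟩ from (mul_inv_cancel_left s _).symm]
        calc _ = s * (d ⟨s, hs⟩ * ((Δ (Subgroup.inclusion hRW x) : ↥(T ⊔ C)) : Ω)) *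
              (d ⟨s, hs⟩)⁻¹ * s⁻¹ := by group
          _ = _ := by rw [hdc]; group
      have hεm' : ε ^ m = 1 := by
        refine MulEquiv.ext fun x => ?_
        have h : ∀ n : ℕ, Subgroup.inclusion hRW ((ε ^ n) x) = (Δ ^ n) (Subgroup.inclusion hRW x) := by
          intro n
          induction n with
          | zero => simp
          | succ n ih =>
            rw [pow_succ', pow_succ', MulAut.mul_apply, MulAut.mul_apply, ← ih]
            exact Subtype.ext (hεx _)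
        have h' := h m
        rw [hΔm] at h'
        exact Subgroup.inclusion_injective hRW h'
      have hconj : ∀ n : ℕ, ε ^ n * α * (ε ^ n)⁻¹ = g ^ n * α := by
        intro n
        induction n with
        | zero => simp
        | succ n ih =>
          have h1 : ε * α * ε⁻¹ = g * α := by rw [hg, inv_mul_cancel_right]
          calc ε ^ (n + 1) * α * (ε ^ (n + 1))⁻¹ = ε * (ε ^ n * α * (ε ^ n)⁻¹) * ε⁻¹ := by
                rw [pow_succ']; group
            _ = (ε * g ^ n * ε⁻¹) * (ε * α * ε⁻¹) := by rw [ih]; group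
            _ = g ^ (n + 1) * α := by
              rw [h1, (hcomm.pow_right n).eq, mul_inv_cancel_right, ← mul_assoc, ← pow_succ]
      have hgm : g ^ m = 1 := by
        have := hconj m
        rw [hεm', one_mul, inv_one, mul_one] at this
        exact mul_eq_right.mp this.symm
      have hg1 : g = 1 := by
        rw [← pow_one g]
        refine orderOf_dvd_iff_pow_eq_one.mp ?_
        exact (Nat.dvd_gcd (orderOf_dvd_of_pow_eq_one hgm)
          (orderOf_dvd_of_pow_eq_one (hMpow g hgM))).trans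
            (by rw [Nat.Coprime.gcd_eq_one (hmc.pow_right e)])
      intro x hx hy
      have hea : ε (α x) = α (ε x) := by
        have h := congrArg (fun b : MulAut R => b (α (ε x))) hg1
        simpa [hg] using h
      show ((α x : R) : Ω)⁻¹ * ((Δ _ : ↥(T ⊔ C)) : Ω) = (x : Ω)⁻¹ * ((Δ _ : ↥(T ⊔ C)) : Ω)
      have hz : ((x⁻¹ * ε x : R) : Ω) ∈ T := hεm x
      have h := hfix α hα _ hz
      rw [map_mul, map_inv, ← hea] at h
      have h' := congrArg Subtype.val h
      rw [Subgroup.coe_mul, Subgroup.coe_mul, Subgroup.coe_inv, Subgroup.coe_inv, hεx, hεx] at h'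
      exact h'
  refine ⟨_, (mem_autGroup_iff F hWS).mp hΔF, fun x => congrArg Subtype.val (hΔx x),
    fun y hyW hy => ?_⟩
  obtain ⟨χ, hχ, hχx, hχy⟩ := hy.2 T _ ((mem_autGroup_iff E le_rfl).mp hγ)
  obtain ⟨θ, hθ, hθr, hθx, -⟩ := exists_inverse hχ rfl
  have hyC := hy.1
  have hle : Subgroup.zpowers y ⊔ T ≤ χ.range := by
    refine sup_le (Subgroup.zpowers_le.mpr ⟨_, hχy ⟨y, Subgroup.mem_zpowers y⟩⟩) fun t ht => ?_
    obtain ⟨x, hx⟩ := γ.surjective ⟨t, ht⟩
    exact ⟨_, (hχx x).trans (congrArg Subtype.val hx)⟩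
  have hTy : T ⊔ Subgroup.zpowers y ≤ T ⊔ C := sup_le_sup_left (Subgroup.zpowers_le.mpr hyC) T
  have hm1 : ∀ z, (θ.comp (Subgroup.inclusion hle)) z ∈ T ⊔ C := fun z => hTy (hθr.le ⟨_, rfl⟩)
  set k := ((T ⊔ C).subtype.comp Δ.toMonoidHom).comp
    ((θ.comp (Subgroup.inclusion hle)).codRestrict _ hm1) with hk
  have hkF : k ∈ F.Hom _ :=
    F.comp_mem (restrict_mem hθ hle) ((mem_autGroup_iff F hWS).mp hΔF) hm1
  have hky : k (Subgroup.inclusion le_sup_left ⟨y, Subgroup.mem_zpowers y⟩) =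
      ((Δ ⟨y, hyW⟩ : ↥(T ⊔ C)) : Ω) := by
    refine congrArg (fun v : ↥(T ⊔ C) => ((Δ v : ↥(T ⊔ C)) : Ω)) (Subtype.ext ?_)
    exact (congrArg θ (Subtype.ext (hχy ⟨y, Subgroup.mem_zpowers y⟩).symm : _ =
      (⟨χ (Subgroup.inclusion le_sup_right ⟨y, Subgroup.mem_zpowers y⟩), ⟨_, rfl⟩⟩ :
        χ.range))).trans (hθx _ _)
  have hkt : ∀ t : T, k (Subgroup.inclusion le_sup_right t) = t := by
    intro t
    obtain ⟨x, rfl⟩ := γ.surjective t
    show _ = ((Subgroup.inclusion (le_sup_left : T ≤ T ⊔ C) (γ x) : ↥(T ⊔ C)) : Ω)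
    rw [← hΔx x]
    refine congrArg (fun v : ↥(T ⊔ C) => ((Δ v : ↥(T ⊔ C)) : Ω)) (Subtype.ext ?_)
    exact (congrArg θ (Subtype.ext (hχx x).symm : _ =
      (⟨χ (Subgroup.inclusion le_sup_left x), ⟨_, rfl⟩⟩ : χ.range))).trans (hθx _ _)
  have hΔy := hΔC ⟨y, hyW⟩ hyC
  have hkN : k.comp (Subgroup.inclusion le_sup_left) ∈ N.Hom (Subgroup.zpowers y) := by
    rw [hN]
    exact ⟨restrict_mem hkF le_sup_left, Subgroup.zpowers_le.mpr hyC,
      fun x => map_zpowers_le _ (Subgroup.mem_zpowers y) (hky.symm ▸ hΔy) x x.2,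
      k, hkF, fun x => rfl, hkt⟩
  have hinv := key hkN ⟨y, Subgroup.mem_zpowers y⟩ hyC (hky.symm ▸ hΔy)
  set z := d ⟨y, hyC⟩ with hzd
  have hΔy' : ((Δ ⟨y, hyW⟩ : ↥(T ⊔ C)) : Ω) = y * z := (mul_inv_cancel_left y _).symm
  set zW : ↥(T ⊔ C) := ⟨z, Subgroup.mem_sup_left (hdT _)⟩
  have hΔye : Δ ⟨y, hyW⟩ = ⟨y, hyW⟩ * zW := Subtype.ext hΔy'
  have hΔz : Δ zW = zW := by
    have h2 : d ⟨((Δ ⟨y, hyW⟩ : ↥(T ⊔ C)) : Ω), hΔy⟩ = z := by
      rw [← hinv]
      exact congrArg d (Subtype.ext hky.symm)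
    refine Subtype.ext ?_
    have h3 : ((Δ (Δ ⟨y, hyW⟩) : ↥(T ⊔ C)) : Ω) = ((Δ ⟨y, hyW⟩ : ↥(T ⊔ C)) : Ω) * z := by
      rw [← h2]
      exact (mul_inv_cancel_left _ _).symm
    rw [hΔye, map_mul, Subgroup.coe_mul, hΔye, Subgroup.coe_mul] at h3
    exact mul_left_cancel h3
  have hpow : ∀ n : ℕ, (Δ ^ n) ⟨y, hyW⟩ = ⟨y, hyW⟩ * zW ^ n := by
    intro n
    induction n with
    | zero => simp
    | succ n ih =>
      rw [pow_succ', MulAut.mul_apply, ih, map_mul, map_pow, hΔye, hΔz, pow_succ', mul_assoc]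
  have hzm : zW ^ m = 1 := by
    have h := hpow m
    rw [hΔm, MulAut.one_apply] at h
    exact mul_eq_left.mp h.symm
  obtain ⟨e, he⟩ := IsPGroup.iff_card.mp (isPGroup_of_le hS hWS)
  have hz1 : zW = 1 := by
    rw [← pow_one zW]
    refine orderOf_dvd_iff_pow_eq_one.mp ?_
    exact (Nat.dvd_gcd (orderOf_dvd_of_pow_eq_one hzm)
      (orderOf_dvd_of_pow_eq_one (n := p ^ e) (he ▸ pow_card_eq_one'))).trans
        (by rw [Nat.Coprime.gcd_eq_one (hmc.pow_right e)])
  show ((Δ ⟨y, hyW⟩ : ↥(T ⊔ C)) : Ω) = y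
  rw [hΔye, hz1, mul_one]

/-- Every map of `E` extends fixing all the fixed elements at once. -/
theorem fixY_closure_fixedElts (hS : IsPGroup p S) (hE : E.IsNormalIn F p) {P : Subgroup Ω}
    {φ : P →* Ω} (hφ : φ ∈ E.Hom P) :
    FixY F (Subgroup.closure (fixedElts F E)) P φ := by
  set Y := Subgroup.closure (fixedElts F E) with hY
  have hT := hE.1.2.2.2.1
  have hEs := hE.1.1
  have hF := hE.1.2.1
  have hinv := hE.1.2.2
  have hTp := isPGroup_of_le hS hT.1
  have hYC : Y ≤ centralizerIn S T := (Subgroup.closure_le _).mpr fun y hy => hy.1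
  have hYS : Y ≤ S := hYC.trans (centralizerIn_le S T)
  refine CfsgLib.FusionSub.closed_induction_centric hTp hEs (closed_fixY Y)
    (fun Q hQ hQc big α hα => ?_) hφ
  rcases eq_or_lt_of_le hQ.1 with rfl | hlt
  · let B : Subgroup (MulAut Q) :=
      { carrier := {a | FixY F Y Q (Q.subtype.comp a.toMonoidHom)}
        one_mem' := (FixY.incl hT.1 hYS).congr fun _ => rfl
        mul_mem' := fun {a b} ha hb => hb.comp ha (fun x => (b x).2) fun _ => rfl
        inv_mem' := fun {a} ha => ha.inv (CfsgLib.FusionSub.range_subtype_comp_aut a) fun x hx => by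
          show (((a⁻¹ : MulAut Q) (a x) : Q) : Ω) = x
          rw [MulAut.inv_apply_self] }
    refine autGroup_le_of_pPrime hTp hEs hQ (B := B) (fun a ha => ?_) (fun γ hγ hc => ?_) hα
    · obtain ⟨t, ht, htx⟩ := mem_autInducedBy_iff.mp ha
      refine ⟨conjHom _ t, F.conj_mem (sup_le hT.1 hYS) (hT.1 ht), fun x => (htx x).symm,
        fun y => ?_⟩
      show t * (y : Ω) * t⁻¹ = y
      rw [(hYC y.2).2 t ht, mul_inv_cancel_right]
    · obtain ⟨δ, hδ, hδx, hδy⟩ := exists_fix_top hS hE hγ hc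
      have hle : Q ⊔ Y ≤ Q ⊔ centralizerIn S Q := sup_le_sup_left hYC Q
      exact ⟨_, restrict_mem hδ hle, fun x => hδx x, fun y =>
        eq_of_mem_closure (δ.comp (Subgroup.inclusion hle)) (Q ⊔ Y).subtype
          (fun z hz => Subgroup.mem_sup_right (Subgroup.subset_closure hz))
          (fun z hz => hδy z _ hz) _ y.2⟩
  set K : Subgroup (MulAut Q) :=
    Subgroup.closure {b : MulAut Q | b ∈ E.autGroup Q ∧ ∃ k : ℕ, b ^ p ^ k = 1} with hK
  have hKn : ∀ a ∈ E.autGroup Q, ∀ κ ∈ K, a * κ * a⁻¹ ∈ K := by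
    intro a ha κ hκ
    induction hκ using Subgroup.closure_induction with
    | mem x hx =>
      obtain ⟨hxE, k, hk⟩ := hx
      exact Subgroup.subset_closure ⟨Subgroup.mul_mem _ (Subgroup.mul_mem _ ha hxE)
        (Subgroup.inv_mem _ ha), k, by rw [conj_pow, hk, mul_one, mul_inv_cancel]⟩
    | one => simp
    | mul x y _ _ hx hy =>
      have := K.mul_mem hx hy
      rwa [show a * x * a⁻¹ * (a * y * a⁻¹) = a * (x * y) * a⁻¹ by group] at this
    | inv x _ hx =>
      have := K.inv_mem hx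
      rwa [show (a * x * a⁻¹)⁻¹ = a * x⁻¹ * a⁻¹ by group] at this
  have hgen : ∀ b ∈ E.autGroup Q, ∀ k : ℕ, (b : MulAut Q) ^ p ^ k = 1 →
      FixY F Y Q (Q.subtype.comp b.toMonoidHom) := by
    intro b hb k hk
    obtain ⟨η, hη, -, s, hs, hsy⟩ := CfsgLib.FusionBasics.exists_conj_of_pElement hQ.1
      (fun R _ hR => (centralized_automized_of_fullyNormalized hTp hEs hR).2) hb hk
    obtain ⟨ψ, hψ, hψx, -⟩ := goodExt_of_mem hS hE hη hQc
    set e := ψ.comp (Subgroup.inclusion (sup_le_sup_left hYC Q)) with he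
    have heF : e ∈ F.Hom (Q ⊔ Y) := restrict_mem hψ _
    have heW : ∀ (y : Ω) (hy : y ∈ fixedElts F E),
        e ⟨y, Subgroup.mem_sup_right (Subgroup.subset_closure hy)⟩ ∈ fixedElts F E := fun y hy =>
      (fixedElts_iff hS hE heF _).mp hy
    have heQ : ∀ x : Q, e (Subgroup.inclusion le_sup_left x) = η x := fun x => hψx x
    set τ := (conjHom e.range s).comp e.rangeRestrict with hτd
    have hτF : τ ∈ F.Hom (Q ⊔ Y) :=
      F.comp_mem heF (F.conj_mem (range_le heF) (hT.1 hs)) fun x => ⟨x, rfl⟩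
    have hτQ : ∀ x : Q, τ (Subgroup.inclusion le_sup_left x) =
        e (Subgroup.inclusion le_sup_left (b x)) := fun x => by
      rw [heQ, hsy, ← heQ]
      rfl
    have hτY : ∀ y : Y, τ (Subgroup.inclusion le_sup_right y) =
        e (Subgroup.inclusion le_sup_right y) := fun y =>
      eq_of_mem_closure τ e (fun z hz => Subgroup.mem_sup_right (Subgroup.subset_closure hz))
        (fun z hz => by
          show s * e ⟨z, _⟩ * s⁻¹ = _
          rw [(heW z hz).1.2 s hs, mul_inv_cancel_right]) _ y.2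
    have hm : ∀ z, τ z ∈ e.range := apply_mem_of_sup τ (fun x => ⟨_, (hτQ x).symm⟩)
      (fun y => ⟨_, (hτY y).symm⟩)
    obtain ⟨θ, hθ, -, hθx, -⟩ := exists_inverse heF rfl
    refine ⟨_, F.comp_mem hτF hθ hm, fun x => ?_, fun y => ?_⟩
    · exact (congrArg θ (Subtype.ext (hτQ x))).trans
        (hθx (Subgroup.inclusion le_sup_left (b x)) ⟨_, rfl⟩)
    · exact (congrArg θ (Subtype.ext (hτY y))).trans
        (hθx (Subgroup.inclusion le_sup_right y) ⟨_, rfl⟩)
  have hKgood : ∀ κ ∈ K, FixY F Y Q (Q.subtype.comp κ.toMonoidHom) := by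
    intro κ hκ
    induction hκ using Subgroup.closure_induction with
    | mem x hx =>
      obtain ⟨hxE, k, hk⟩ := hx
      exact hgen x hxE k hk
    | one => exact (FixY.incl (hQ.1.trans hT.1) hYS).congr fun _ => rfl
    | mul x y _ _ hx hy => exact hy.comp hx (fun z => (y z).2) fun z => rfl
    | inv x _ hx =>
      exact hx.inv (CfsgLib.FusionSub.range_subtype_comp_aut x) fun z hz => by
        show (((x⁻¹ : MulAut Q) (x z) : Q) : Ω) = z
        rw [MulAut.inv_apply_self]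
  obtain ⟨κ, hκ, χ, hχ, rfl, R, hQR, ψ, hR, hψ, hψx, hRge⟩ :=
    CfsgLib.FusionSub.frattini_extend hTp hEs hQ K hKn hα
  have hQR' : Q < R := by
    obtain ⟨g, hg, hgQ⟩ := SetLike.exists_of_lt (CfsgLib.FusionSub.lt_normalizerIn hTp hlt)
    refine lt_of_le_of_ne hQR fun h => hgQ (h.ge (hRge g hg.1 hg.2 (Subgroup.subset_closure ?_)))
    obtain ⟨k, hk⟩ := isPGroup_autInducedBy hTp Q ⟨_, conjAut_mem hg.1 hg.2⟩
    exact ⟨autInducedBy_le_autGroup E hQ.1 (conjAut_mem hg.1 hg.2), k, congrArg Subtype.val hk⟩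
  have hχgood : FixY F Y Q (Q.subtype.comp χ.toMonoidHom) :=
    (big R ψ hψ (CfsgLib.FusionSub.card_lt_card (hR.trans (normalizerIn_le T Q)) hQR')).restrict
      hQR fun x => (hψx x).symm
  exact hχgood.comp (hKgood κ hκ.1) (fun z => (χ z).2) fun z => rfl

end CfsgLib.FusionBasics.Central
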