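import Cfsg.Agent.Lib.Alperin.NormalResidual
import Cfsg.Agent.Lib.Alperin.InvariantCore
import Cfsg.Agent.Lib.Alperin.PPowerIndex
import Cfsg.Agent.Lib.FusionBasics.Extension
import Cfsg.Agent.Lib.FusionBasics.PPower.Main
import Cfsg.Agent.Lib.FusionSub.Residual
import Cfsg.Agent.Lib.FusionExamples.Hyperfocal
import Cfsg.Agent.S5120
import Cfsg.Agent.S5124

/-!
Invariant subsystems of intermediate systems, the `p`-residual and the `p'`-residual of the
`p`-residual along chains of weakly normal subsystems.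
-/

set_option autoImplicit false
set_option linter.style.haveILetI false
set_option linter.unusedSectionVars false

namespace CfsgLib.FusionBasics.Central

open Cfsg Cfsg.FusionSystem CfsgLib.Alperin

variable {Ω : Type*} [Group Ω] {S R T U : Subgroup Ω} {p : ℕ} [Fact p.Prime]

/-- An invariant subsystem is invariant in every saturated intermediate system. -/
theorem isInvariantIn_of_le [Finite S] [Finite R] (hR : IsPGroup p R) {F : FusionSystem S}
    {D : FusionSystem R} {E : FusionSystem T} (hD : D.IsSaturated p) (hDF : D.IsSubsystemOf F)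
    (hED : E.IsSubsystemOf D) (hE : E.IsInvariantIn F) : E.IsInvariantIn D := by
  have hTR : T ≤ R := CfsgLib.FusionSub.subsystem_le hED
  have hTc : D.StronglyClosed T := ⟨hTR, fun Q hQ φ hφ x => hE.2.1.2 Q hQ φ (hDF Q hφ) x⟩
  have hinv : InvCond E D := fun P hPT φ hφ α hα =>
    hE.2.2.1 P hPT φ hφ α (CfsgLib.FusionSub.autGroup_mono hDF T hα)
  refine ⟨hED, hTc, hinv, frattini_of_aut hR hD hinv hTc fun Q hQT hQn big α hα => ?_⟩
  rcases hQT.eq_or_lt with rfl | hlt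
  · exact ⟨α, hα, Q.subtype, incl_mem E le_rfl, fun _ _ => rfl⟩
  have hαD := (mem_autGroup_iff D hQn.1).mp hα
  obtain ⟨a, ha, φ₀, hφ₀, hx⟩ := hE.2.2.2 Q hQT _ (hDF Q hαD)
  have hQ₀T : φ₀.range ≤ T := range_le hφ₀
  haveI := finite_of_le hTR
  have hc₀ : Nat.card φ₀.range = Nat.card Q := card_range_eq (E.injective_of_mem hφ₀)
  obtain ⟨θ, hθ, hθr, hθx, hθy⟩ := exists_inverse (hED Q hφ₀) rfl
  set r : φ₀.range →* Ω := (T.subtype.comp a.toMonoidHom).comp (Subgroup.inclusion hQ₀T) with hr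
  have hrx : ∀ y : φ₀.range, r y = ((a ⟨y, hQ₀T y.2⟩ : T) : Ω) := fun y => rfl
  have hrD : r ∈ D.Hom φ₀.range := by
    refine comp_mem_apply hθ hαD (fun y => hθr.le ⟨y, rfl⟩) fun y => ?_
    have h2 : φ₀ ⟨θ y, hθr.le ⟨y, rfl⟩⟩ = (y : Ω) := hθy y (hθr.le ⟨y, rfl⟩)
    rw [hx ⟨θ y, hθr.le ⟨y, rfl⟩⟩ (h2.symm ▸ hQ₀T y.2), hrx]
    simp only [h2]
  have hrr : r.range = Q := by
    ext y
    constructor
    · rintro ⟨⟨_, x, rfl⟩, rfl⟩
      rw [hrx, ← hx x (apply_mem hφ₀ x)]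
      exact (α x).2
    · intro hy
      refine ⟨⟨φ₀ (α.symm ⟨y, hy⟩), _, rfl⟩, ?_⟩
      rw [hrx, ← hx _ (apply_mem hφ₀ _)]
      exact congrArg Subtype.val (α.apply_symm_apply ⟨y, hy⟩)
  obtain ⟨γ, hγ, hγx⟩ := (receptive_of_fullyNormalized hR hD hQn).2 φ₀.range r hrD hrr
  set N := normalizerIn T φ₀.range with hN
  have hNle : N ≤ extender R φ₀.range r := by
    intro t ht
    refine mem_extender_iff.mpr ⟨hTR ht.1, ht.2, (a ⟨t, ht.1⟩ : T), hTR (a _).2, fun x hx' => ?_⟩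
    rw [hrx, hrx, show (⟨t * x * t⁻¹, hQ₀T hx'⟩ : T) = ⟨t, ht.1⟩ * ⟨x, hQ₀T x.2⟩ * ⟨t, ht.1⟩⁻¹
      from rfl, map_mul, map_mul, map_inv]
    rfl
  have hlt₀ : φ₀.range < T := lt_of_le_of_ne hQ₀T fun h => hlt.ne
    (Subgroup.eq_of_le_of_card_ge hQT (by rw [← hc₀, h]))
  have hQN : φ₀.range < N := CfsgLib.FusionSub.lt_normalizerIn (isPGroup_of_le hR hTR) hlt₀
  have hγN := big N (normalizerIn_le T _)
    (hc₀ ▸ CfsgLib.FusionSub.card_lt_card (normalizerIn_le T _) hQN) _ (restrict_mem hγ hNle)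
  refine comp_mem_apply (mem_frattiniSystem_of_mem hinv hφ₀) hγN
    (fun x => hQN.le ⟨x, rfl⟩) fun x => ?_
  refine Eq.trans (hx x (apply_mem hφ₀ x)) (Eq.symm ?_)
  exact (hγx (φ₀ x) ⟨x, rfl⟩ (hNle (hQN.le ⟨x, rfl⟩)))

theorem hyperfocal_mono {F : FusionSystem S} {E : FusionSystem T} (h : E.IsSubsystemOf F) :
    E.hyperfocalSubgroup p ≤ F.hyperfocalSubgroup p := by
  refine (Subgroup.closure_le _).mpr ?_
  rintro _ ⟨P, α, x, hP, hα, rfl⟩
  exact CfsgLib.FusionSub.mem_hyperfocal F (hP.trans (CfsgLib.FusionSub.subsystem_le h))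
    (CfsgLib.FusionSub.map_pResidual_mono h p P ⟨α, hα, rfl⟩) x

/-- The `p`-residual of a weakly normal subsystem is weakly normal. -/
theorem pResidual_weaklyNormal [Finite S] (hS : IsPGroup p S) {F : FusionSystem S}
    {D : FusionSystem R} (hD : D.IsWeaklyNormalIn F p)
    {E : FusionSystem (D.hyperfocalSubgroup p)} (hE : D.IsPResidual p E) :
    E.IsWeaklyNormalIn F p := by
  obtain ⟨hDs, hF, hDi⟩ := hD
  have hRS := hDi.2.1.1
  haveI := finite_of_le hRS
  have hRp := isPGroup_of_le hS hRS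
  have hHc := Cfsg.Agent.S5124.result p hRp D hDs
  have hHS := hHc.1.trans hRS
  haveI := finite_of_le hHS
  haveI hHn : ((D.hyperfocalSubgroup p).subgroupOf R).Normal :=
    ⟨fun x hx s => CfsgLib.FusionSub.stronglyClosed_conj hHc s.2 hx⟩
  have hEn := Cfsg.Agent.S5120.result p hRp D hDs _ hHc.1 hHn le_rfl E hE.1 hE.2
  have hDinv : InvCond D F := hDi.2.2.1
  have hmap : ∀ {a : MulAut R}, a ∈ F.autGroup R → ∀ x : R, (x : Ω) ∈ D.hyperfocalSubgroup p →
      ((a x : R) : Ω) ∈ D.hyperfocalSubgroup p := by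
    intro a ha x hx
    suffices h : D.hyperfocalSubgroup p ≤
        (((D.hyperfocalSubgroup p).subgroupOf R).comap a.toMonoidHom).map R.subtype by
      obtain ⟨w, hw, hwx⟩ := h hx
      obtain rfl : w = x := Subtype.ext hwx
      exact hw
    refine (Subgroup.closure_le _).mpr ?_
    rintro _ ⟨P, α, x, hP, hα, rfl⟩
    refine ⟨⟨(x : Ω)⁻¹ * ((α : MulAut P) x : P), R.mul_mem (R.inv_mem (hP x.2))
      (hP ((α : MulAut P) x).2)⟩, ?_, rfl⟩
    set φ : P →* Ω := (R.subtype.comp a.toMonoidHom).comp (Subgroup.inclusion hP) with hφ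
    have hφF : φ ∈ F.Hom P := restrict_mem ((mem_autGroup_iff F hRS).mp ha) hP
    set e := isoOfHom φ (F.injective_of_mem hφF) rfl with he
    have hdec := hDi.2.2.2 P hP φ hφF
    let c : D.autGroup P →* D.autGroup φ.range :=
      ((MulAut.congr e).toMonoidHom.comp (D.autGroup P).subtype).codRestrict _ fun b =>
        congr_mem_autGroup hDinv hdec (F.injective_of_mem hφF) rfl b.2
    have hc : c α ∈ Cfsg.pResidual p (D.autGroup φ.range) := by
      have hle : Cfsg.pResidual p (D.autGroup P) ≤ (Cfsg.pResidual p _).comap c :=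
        (Subgroup.closure_le _).mpr fun b hb => Subgroup.subset_closure
          (Nat.Coprime.coprime_dvd_left (orderOf_map_dvd c b) hb)
      exact hle hα
    have hrR : φ.range ≤ R := by
      rintro _ ⟨y, rfl⟩
      exact (a _).2
    have h1 := CfsgLib.FusionExamples.hyperfocal_gen_mem hrR hc (e x)
    have h2 : (((c α : MulAut φ.range) (e x) : φ.range) : Ω) = φ ((α : MulAut P) x) := by
      show ((e ((α : MulAut P) (e.symm (e x))) : φ.range) : Ω) = _
      rw [MulEquiv.symm_apply_apply]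
      rfl
    rw [h2] at h1
    show ((a ⟨(x : Ω)⁻¹ * ((α : MulAut P) x : P), _⟩ : R) : Ω) ∈ D.hyperfocalSubgroup p
    rw [show (⟨(x : Ω)⁻¹ * ((α : MulAut P) x : P), R.mul_mem (R.inv_mem (hP x.2))
      (hP ((α : MulAut P) x).2)⟩ : R) = (Subgroup.inclusion hP x)⁻¹ *
        Subgroup.inclusion hP ((α : MulAut P) x) from rfl, map_mul, map_inv]
    exact h1
  have hHF : F.StronglyClosed (D.hyperfocalSubgroup p) := by
    refine ⟨hHS, fun Q hQ φ hφ x => ?_⟩
    obtain ⟨a, ha, φ₀, hφ₀, hx⟩ := hDi.2.2.2 Q (hQ.trans hHc.1) φ hφ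
    rw [hx x (apply_mem hφ₀ x)]
    exact hmap ha _ (hHc.2 Q hQ φ₀ hφ₀ x)
  have hsub : E.IsSubsystemOf F := fun P φ h => hDi.1 P (hE.2.1 P h)
  have hcore : ∀ P, E.Hom P ⊆ (invariantCore E F).Hom P := by
    refine le_of_pPrime_le (isPGroup_of_le hS hHS) hE.1 hE.2.1 hHc.1 (invariantCore E F)
      fun P hP γ hγ hc => ?_
    have hγE := pPrime_mem_of_hasPPowerIndexIn hE.2 hP hγ hc
    refine (mem_autGroup_iff _ hP).mpr ⟨(mem_autGroup_iff E hP).mp hγE, fun a ha => ?_⟩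
    set φ : P →* Ω := ((D.hyperfocalSubgroup p).subtype.comp a.toMonoidHom).comp
      (Subgroup.inclusion hP) with hφ
    have hφF : φ ∈ F.Hom P := restrict_mem ((mem_autGroup_iff F hHS).mp ha) hP
    have hr : φ.range = autImage a P := by rw [hφ, range_comp_inclusion]; rfl
    set e := isoOfHom φ (F.injective_of_mem hφF) hr with he
    have hβ := congr_mem_autGroup hDinv (hDi.2.2.2 P (hP.trans hHc.1) φ hφF)
      (F.injective_of_mem hφF) hr hγ
    have hβE := pPrime_mem_of_hasPPowerIndexIn hE.2 (autImage_le a P) hβ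
      (by rwa [MulEquiv.orderOf_eq])
    refine ⟨_, (mem_autGroup_iff E (autImage_le a P)).mp hβE, fun x hxT hφx => ?_⟩
    have e1 : (⟨((a ⟨(x : Ω), hxT⟩ : D.hyperfocalSubgroup p) : Ω), mem_autImage hxT x.2⟩ :
        autImage a P) = e x := Subtype.ext rfl
    show (((MulAut.congr e γ) ⟨_, mem_autImage hxT x.2⟩ : autImage a P) : Ω) = _
    rw [e1]
    show ((e (γ (e.symm (e x))) : autImage a P) : Ω) = _
    rw [MulEquiv.symm_apply_apply]
    rfl
  refine ⟨hE.1, hF, hsub, hHF, fun P hPT φ hφ α hα => ?_, fun P hP φ hφ => ?_⟩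
  · obtain ⟨χ, hχ, hχx⟩ := (hcore P hφ).2 α hα
    exact ⟨χ, hχ, fun x hφx _ => hχx x (hPT x.2) hφx⟩
  · obtain ⟨a, ha, φ₀, hφ₀, hx⟩ := hDi.2.2.2 P (hP.trans hHc.1) φ hφ
    obtain ⟨a', ha', φ₁, hφ₁, hx'⟩ := hEn.1.2.2.2.2.2 P hP φ₀ hφ₀
    obtain ⟨b, hb, hbx⟩ := exists_aut_of_hom' F
      (restrict_mem ((mem_autGroup_iff F hRS).mp ha) hHc.1) fun y => hmap ha _ y.2
    refine ⟨b * a', mul_mem hb (CfsgLib.FusionSub.autGroup_mono hDi.1 _ ha'), φ₁, hφ₁,
      fun x hx₁ => ?_⟩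
    rw [MulAut.mul_apply, hbx, hx x (apply_mem hφ₀ x)]
    exact congrArg (fun v : R => ((a v : R) : Ω)) (Subtype.ext (hx' x hx₁))

/-- Automorphisms of `p`-power order lie in the subsystems of index prime to `p`. -/
theorem pElement_mem {F D : FusionSystem S} (h : D.HasPrimeToPIndexIn F p) {P : Subgroup Ω}
    (hP : P ≤ S) {β : MulAut P} (hβ : β ∈ F.autGroup P) {k : ℕ} (hk : β ^ p ^ k = 1) :
    β ∈ D.autGroup P := by
  refine h.2 P hP ⟨⟨β, hβ⟩, Subgroup.subset_closure ?_, rfl⟩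
  obtain ⟨j, -, hj⟩ := (Nat.dvd_prime_pow (Fact.out : p.Prime)).mp
    (orderOf_dvd_of_pow_eq_one (Subtype.ext hk : (⟨β, hβ⟩ : F.autGroup P) ^ p ^ k = 1))
  exact ⟨j, hj⟩

/-- An automorphism of a strongly closed subgroup lies in a system as soon as its restriction to a
subgroup which is self-centralizing with all its images does and the stabilizing automorphisms
occurring in the extension steps do. -/
theorem mem_of_restrict_centric [Finite U] (hU : IsPGroup p U) {W : FusionSystem U}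
    (hW : W.IsSaturated p) (hT : W.StronglyClosed T) (a : MulAut T) {Q : Subgroup Ω} (hQT : Q ≤ T)
    (hcent : ∀ ψ ∈ W.Hom Q, centralizerIn T ψ.range ≤ ψ.range)
    (haQ : (T.subtype.comp a.toMonoidHom).comp (Subgroup.inclusion hQT) ∈ W.Hom Q)
    (hu : ∀ (N : Subgroup Ω) (hN : N ≤ T), Q ≤ N → ∀ b ∈ W.Hom N, ∀ u : MulAut N,
      (∀ x : N, (x : Ω) ∈ Q → u x = x) →
      (∀ x : N, b x = ((a (Subgroup.inclusion hN (u x)) : T) : Ω)) →
      (∃ k, u ^ p ^ k = 1) → u ∈ W.autGroup N) :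
    T.subtype.comp a.toMonoidHom ∈ W.Hom T := by
  have hTU := hT.1
  haveI := finite_of_le hTU
  suffices H : ∀ (n : ℕ) (Q : Subgroup Ω), Nat.card T - Nat.card Q = n → ∀ hQT : Q ≤ T,
      (∀ ψ ∈ W.Hom Q, centralizerIn T ψ.range ≤ ψ.range) →
      (T.subtype.comp a.toMonoidHom).comp (Subgroup.inclusion hQT) ∈ W.Hom Q →
      (∀ (N : Subgroup Ω) (hN : N ≤ T), Q ≤ N → ∀ b ∈ W.Hom N, ∀ u : MulAut N,
        (∀ x : N, (x : Ω) ∈ Q → u x = x) →
        (∀ x : N, b x = ((a (Subgroup.inclusion hN (u x)) : T) : Ω)) →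
        (∃ k, u ^ p ^ k = 1) → u ∈ W.autGroup N) →
      T.subtype.comp a.toMonoidHom ∈ W.Hom T from H _ Q rfl hQT hcent haQ hu
  intro n
  induction n using Nat.strong_induction_on with
  | _ n ih =>
  intro Q hn hQT hcent haQ hu
  rcases hQT.eq_or_lt with rfl | hlt
  · exact mem_of_apply_eq haQ fun x => rfl
  set r := (T.subtype.comp a.toMonoidHom).comp (Subgroup.inclusion hQT) with hr
  have hrx : ∀ x : Q, r x = ((a (Subgroup.inclusion hQT x) : T) : Ω) := fun x => rfl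
  set N := normalizerIn T Q with hN
  have hQN : Q < N := CfsgLib.FusionSub.lt_normalizerIn (isPGroup_of_le hU hTU) hlt
  have hNT : N ≤ T := normalizerIn_le T Q
  haveI := finite_of_le hNT
  have hQ'T : r.range ≤ T := by
    rintro _ ⟨x, rfl⟩
    exact (a _).2
  have hnorm : ∀ n : N, ((a (Subgroup.inclusion hNT n) : T) : Ω) ∈ normalizerIn U r.range := by
    intro n
    refine ⟨hTU (a _).2, ?_⟩
    have hn' := Subgroup.mem_normalizer_iff.mp n.2.2
    refine Subgroup.mem_normalizer_iff.mpr fun y => ⟨?_, fun hy => ?_⟩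
    · rintro ⟨x, rfl⟩
      refine ⟨⟨(n : Ω) * x * (n : Ω)⁻¹, (hn' x).mp x.2⟩, ?_⟩
      rw [hrx, hrx, show Subgroup.inclusion hQT ⟨(n : Ω) * x * (n : Ω)⁻¹, (hn' x).mp x.2⟩ =
        Subgroup.inclusion hNT n * Subgroup.inclusion hQT x * (Subgroup.inclusion hNT n)⁻¹ from rfl,
        map_mul, map_mul, map_inv]
      rfl
    · obtain ⟨x, hx⟩ := hy
      have hm : (n : Ω)⁻¹ * x * (n : Ω) ∈ Q := (hn' _).mpr (by simp [mul_assoc])
      refine ⟨⟨_, hm⟩, ?_⟩
      rw [hrx] at hx ⊢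
      rw [show Subgroup.inclusion hQT ⟨_, hm⟩ = (Subgroup.inclusion hNT n)⁻¹ *
        Subgroup.inclusion hQT x * Subgroup.inclusion hNT n from rfl, map_mul, map_mul, map_inv]
      push_cast
      rw [hx]
      group
  obtain ⟨Q'', hconj, hQ''⟩ := exists_isFullyNormalized W (hQ'T.trans hTU)
  obtain ⟨c, hc, hcm, hcQ⟩ := exists_hom_normalizerIn_of_fullyNormalized hU hW hQ'' hconj
  have hQ'N : r.range ≤ normalizerIn U r.range := le_normalizerIn (hQ'T.trans hTU)
  have hm : ∀ x : Q, r x ∈ normalizerIn U r.range := fun x => hQ'N ⟨x, rfl⟩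
  set φ := c.comp (r.codRestrict _ hm) with hφ
  have hφW : φ ∈ W.Hom Q := W.comp_mem haQ hc hm
  have hφr : φ.range = Q'' := by
    rw [← hcQ]
    ext y
    constructor
    · rintro ⟨x, rfl⟩
      exact ⟨⟨r x, hm x⟩, ⟨x, rfl⟩, rfl⟩
    · rintro ⟨w, ⟨x, hx⟩, rfl⟩
      exact ⟨x, congrArg c (Subtype.ext hx)⟩
  let an : N →* normalizerIn U r.range :=
    ((T.subtype.comp a.toMonoidHom).comp (Subgroup.inclusion hNT)).codRestrict _ hnorm
  let g : N →* Ω := c.comp an
  have hgx : ∀ x : Q, g (Subgroup.inclusion hQN.le x) = φ x := fun x => congrArg c (Subtype.ext rfl)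
  have hgT : ∀ n : N, g n ∈ T := fun n =>
    CfsgLib.FusionSub.stronglyClosed_apply hT hc _ (a _).2
  have hNext : N ≤ extender U Q φ := by
    intro n hn'
    refine mem_extender_iff.mpr ⟨hTU hn'.1, hn'.2, g ⟨n, hn'⟩, hTU (hgT _), fun x hx => ?_⟩
    rw [← hgx, ← hgx, ← map_inv g, ← map_mul, ← map_mul]
    rfl
  obtain ⟨b₁, hb₁, hb₁x⟩ := (receptive_of_fullyNormalized hU hW hQ'').2 Q φ hφW hφr
  set b₁' := b₁.comp (Subgroup.inclusion hNext) with hb₁'
  have hb₁'W : b₁' ∈ W.Hom N := restrict_mem hb₁ hNext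
  have hb₁'x : ∀ x : Q, b₁' (Subgroup.inclusion hQN.le x) = g (Subgroup.inclusion hQN.le x) :=
    fun x => (hb₁x x x.2 _).trans (hgx x).symm
  have hq : ∀ n : N, ∃ q : Q, b₁' n = g (n * Subgroup.inclusion hQN.le q) := by
    intro n
    have h1 : (g n)⁻¹ * b₁' n ∈ centralizerIn T φ.range := by
      refine ⟨T.mul_mem (T.inv_mem (hgT n)) (hT.2 N hNT _ hb₁'W n), ?_⟩
      rintro _ ⟨x, rfl⟩
      have hx' : (n : Ω) * x * (n : Ω)⁻¹ ∈ Q := mem_normalizer_conj n.2.2 x.2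
      have e := hb₁'x ⟨_, hx'⟩
      rw [show Subgroup.inclusion hQN.le ⟨_, hx'⟩ =
        n * Subgroup.inclusion hQN.le x * n⁻¹ from rfl, map_mul, map_mul, map_mul, map_mul,
        map_inv, map_inv, hb₁'x, hgx] at e
      show φ x * ((g n)⁻¹ * b₁' n) = (g n)⁻¹ * b₁' n * φ x
      calc φ x * ((g n)⁻¹ * b₁' n) = (g n)⁻¹ * (g n * φ x * (g n)⁻¹) * b₁' n := by group
        _ = (g n)⁻¹ * b₁' n * φ x := by rw [← e]; group
    obtain ⟨q, hq⟩ := hcent φ hφW h1
    refine ⟨q, ?_⟩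
    rw [map_mul, hgx, hq, mul_inv_cancel_left]
  set X := g.range with hX
  obtain ⟨θ, hθ, hθr, hθx, -⟩ := exists_inverse hc rfl
  have hm2 : ∀ n, b₁' n ∈ c.range := fun n => by
    obtain ⟨q, hq⟩ := hq n
    exact hq ▸ ⟨_, rfl⟩
  set b := θ.comp (b₁'.codRestrict _ hm2) with hb
  have hbW : b ∈ W.Hom N := W.comp_mem hb₁'W hθ hm2
  have hbn : ∀ (n : N) (m : N), b₁' n = g m → b n = ((a (Subgroup.inclusion hNT m) : T) : Ω) := by
    intro n m h
    refine Eq.trans (congrArg θ (Subtype.ext h :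
      b₁'.codRestrict c.range hm2 n = ⟨c (an m), an m, rfl⟩)) ?_
    exact hθx (an m) ⟨_, rfl⟩
  let B : N →* T := b.codRestrict T fun n => hT.2 N hNT b hbW n
  let u₀ : N →* T := a.symm.toMonoidHom.comp B
  have hu₀ : ∀ n m : N, b₁' n = g m → u₀ n = Subgroup.inclusion hNT m := by
    intro n m h
    show a.symm (B n) = _
    rw [show B n = a (Subgroup.inclusion hNT m) from Subtype.ext (hbn n m h),
      MulEquiv.symm_apply_apply]
  have hu₀N : ∀ n, (u₀ n : Ω) ∈ N := fun n => by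
    obtain ⟨q, hq⟩ := hq n
    rw [hu₀ n _ hq]
    exact (n * Subgroup.inclusion hQN.le q).2
  let u₁ : N →* N := (T.subtype.comp u₀).codRestrict N hu₀N
  have hinj : Function.Injective u₁ := by
    intro x y h
    have h1 : a.symm (B x) = a.symm (B y) := Subtype.ext (congrArg Subtype.val h :)
    exact W.injective_of_mem hbW (congrArg Subtype.val (a.symm.injective h1))
  let u : MulAut N := MulEquiv.ofBijective u₁ (Finite.injective_iff_bijective.mp hinj)
  have hux : ∀ n : N, Subgroup.inclusion hNT (u n) = u₀ n := fun n => Subtype.ext rfl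
  have hfix : ∀ x : N, (x : Ω) ∈ Q → u x = x := fun x hx => Subtype.ext (by
    show (u₀ x : Ω) = x
    rw [hu₀ x x (hb₁'x ⟨x, hx⟩)]
    rfl)
  have hbu : ∀ x : N, b x = ((a (Subgroup.inclusion hNT (u x)) : T) : Ω) := fun x => by
    rw [hux]
    show b x = ((a (a.symm (B x)) : T) : Ω)
    rw [MulEquiv.apply_symm_apply]
    rfl
  have huW : u ∈ W.autGroup N := hu N hNT hQN.le b hbW u hfix hbu
    (exists_pow_dvd_of_fixes_centric (isPGroup_of_le hU hTU) hQN.le le_rfl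
      (by simpa [Subgroup.range_subtype] using
        hcent Q.subtype (incl_mem W (hQT.trans hTU))) hfix)
  have haN : (T.subtype.comp a.toMonoidHom).comp (Subgroup.inclusion hNT) ∈ W.Hom N := by
    have huinv := (mem_autGroup_iff W (hNT.trans hTU)).mp (inv_mem huW)
    refine comp_mem_apply huinv hbW (fun x => ((u⁻¹ : MulAut N) x).2) fun x => ?_
    show ((a (Subgroup.inclusion hNT x) : T) : Ω) = b ((u⁻¹ : MulAut N) x)
    rw [hbu, MulAut.apply_inv_self]
  refine ih _ ?_ N rfl hNT (fun ψ hψ => ?_) haN fun N' hN' hle b' hb' u' hfix' =>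
    hu N' hN' (hQN.le.trans hle) b' hb' u' fun x hx => hfix' x (hQN.le hx)
  · have h1 := Subgroup.card_le_of_le (K := T) hNT
    have h2 := CfsgLib.FusionSub.card_lt_card hNT hQN
    omega
  · have h3 : (ψ.comp (Subgroup.inclusion hQN.le)).range ≤ ψ.range := by
      rintro _ ⟨x, rfl⟩
      exact ⟨_, rfl⟩
    exact (inf_le_inf_left _ (Subgroup.centralizer_le h3)).trans
      ((hcent _ (restrict_mem hψ hQN.le)).trans h3)

/-- The generated maps of a system lie in a subsystem of index prime to `p` of an overgroup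
system. -/
theorem gen_mem [Finite T] {F F' : FusionSystem U} {E : FusionSystem T} (h : F'.HasPrimeToPIndexIn F p)
    (hE : E.IsSubsystemOf F) {P : Subgroup Ω} {φ : P →* Ω} (hφ : Gen E p P φ) : φ ∈ F'.Hom P := by
  induction hφ with
  | base hPQ hQ β hβ k hk =>
    have hQU := hQ.1.trans (CfsgLib.FusionSub.subsystem_le hE)
    exact restrict_mem ((mem_autGroup_iff F' hQU).mp
      (pElement_mem h hQU (CfsgLib.FusionSub.autGroup_mono hE _ hβ) hk)) hPQ
  | comp _ _ h' ih₁ ih₂ => exact F'.comp_mem ih₁ ih₂ h'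

/-- The maps of the `p'`-residual: an automorphism in `h0` after a generated map. -/
theorem exists_decomp_pPrimeResidual [Finite T] (hT : IsPGroup p T) {E X : FusionSystem T}
    (hEs : E.IsSaturated p) (hX : E.IsPPrimeResidual p X) {P : Subgroup Ω} {φ : P →* Ω}
    (hφ : φ ∈ X.Hom P) : ∃ a : E.autGroup T, a ∈ h0 E p ∧ ∃ z : P →* Ω, Gen E p P z ∧
      ∀ (x : P) (hx : z x ∈ T), φ x = (((a : MulAut T) ⟨z x, hx⟩ : T) : Ω) := by
  haveI := h0_normal (F := E) (p := p)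
  have hπ : h0 E p ≤ (QuotientGroup.mk' (h0 E p)).ker := (QuotientGroup.ker_mk' _).ge
  obtain ⟨a, ha, z, hz, hx⟩ := hX.2.2 (classSystem (QuotientGroup.mk' (h0 E p)) hT)
    (classSystem_isSaturated hT hEs hπ) (classSystem_index hT hEs) P hφ
  exact ⟨a, (QuotientGroup.eq_one_iff a).mp ha, z, hz, hx⟩

/-- Monotonicity of the `p'`-residual along weakly normal subsystems. -/
theorem pPrimeResidual_mono [Finite U] (hU : IsPGroup p U) {E' X' : FusionSystem U}
    {E X : FusionSystem T} (hE : E.IsWeaklyNormalIn E' p) (hX : E.IsPPrimeResidual p X)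
    (hX' : E'.IsPPrimeResidual p X') : X.IsSubsystemOf X' := by
  obtain ⟨hEs, -, hEi⟩ := hE
  have hTU := hEi.2.1.1
  haveI := finite_of_le hTU
  have hTc : X'.StronglyClosed T :=
    ⟨hTU, fun Q hQ φ hφ x => hEi.2.1.2 Q hQ φ (hX'.2.1.1 Q hφ) x⟩
  have hgen : ∀ {P : Subgroup Ω} {φ : P →* Ω}, Gen E p P φ → φ ∈ X'.Hom P :=
    fun h => gen_mem hX'.2.1 hEi.1 h
  have h0mem : ∀ a : E.autGroup T, a ∈ h0 E p → (a : MulAut T) ∈ X'.autGroup T := by
    intro a ha
    suffices h : h0 E p ≤ (X'.autGroup T).comap (E.autGroup T).subtype from h ha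
    refine (Subgroup.closure_le _).mpr ?_
    rintro b ⟨Q, hQ, hb⟩
    refine (mem_autGroup_iff X' hTU).mpr (mem_of_restrict_centric hU hX'.1 hTc _ hQ.1
      (fun ψ hψ => ?_) (hgen hb) fun N hN _ c hc u _ hcu hk => ?_)
    · have hc := isCentric_of_hom_invariant hEi hQ (hX'.2.1.1 Q hψ)
      exact hc.2 _ (isConj_refl E hc.1)
    · obtain ⟨k, hk⟩ := hk
      have hbE' := (mem_autGroup_iff E' hTU).mp
        (inv_mem (CfsgLib.FusionSub.autGroup_mono hEi.1 _ b.2))
      refine pElement_mem hX'.2.1 (hN.trans hTU) ((mem_autGroup_iff E' (hN.trans hTU)).mpr ?_) hk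
      refine comp_mem_apply (hX'.2.1.1 N hc) hbE' (fun x => (hcu x).symm ▸ Subtype.mem _)
        fun x => ?_
      show ((u x : N) : Ω) = (((b : MulAut T)⁻¹ ⟨c x, _⟩ : T) : Ω)
      simp only [hcu, Subtype.coe_eta]
      exact (congrArg Subtype.val (MulAut.inv_apply_self _ (b : MulAut T) (Subgroup.inclusion hN (u x)))).symm
  intro P φ hφ
  obtain ⟨a, ha, z, hz, hx⟩ := exists_decomp_pPrimeResidual (isPGroup_of_le hU hTU) hEs hX hφ
  exact comp_mem_apply (hgen hz) ((mem_autGroup_iff X' hTU).mp (h0mem a ha)) (apply_mem hz.mem)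
    fun x => hx x _

/-- The `p'`-residual is its own `p'`-residual. -/
theorem pPrimeResidual_idem {E X Y : FusionSystem S} (hX : E.IsPPrimeResidual p X)
    (hY : X.IsPPrimeResidual p Y) : Y = X := by
  refine CfsgLib.FusionSub.system_eq_of_subsystem hY.2.1.1 (hX.2.2 Y hY.1 ⟨?_, fun P hP => ?_⟩)
  · exact fun P φ h => hX.2.1.1 P (hY.2.1.1 P h)
  · rw [MonoidHom.map_closure]
    refine (Subgroup.closure_le _).mpr ?_
    rintro _ ⟨α, ⟨k, hk⟩, rfl⟩
    have hα : (α : MulAut P) ^ p ^ k = 1 := by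
      have := pow_orderOf_eq_one α
      rw [hk] at this
      exact congrArg Subtype.val this
    exact pElement_mem hY.2.1 hP (pElement_mem hX.2.1 hP α.2 hα) hα

/-- `X` is the `p'`-residual of the `p`-residual of `D`. -/
def IsOp (D : FusionSystem R) (p : ℕ) (X : FusionSystem (D.hyperfocalSubgroup p)) : Prop :=
  ∃ E : FusionSystem (D.hyperfocalSubgroup p), D.IsPResidual p E ∧ E.IsPPrimeResidual p X

theorem exists_op [Finite R] (hR : IsPGroup p R) {D : FusionSystem R} (hD : D.IsSaturated p) :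
    ∃ X, IsOp D p X := by
  have hle := CfsgLib.FusionSub.hyperfocal_le D p
  obtain ⟨E, hE⟩ := CfsgLib.FusionBasics.PPower.exists_pPowerIndex hR hD hle le_rfl
  haveI := finite_of_le hle
  obtain ⟨X, hX⟩ := exists_isPPrimeResidual (isPGroup_of_le hR hle) hE.1
  exact ⟨X, E, hE, hX⟩

theorem IsOp.isNormalIn [Finite S] (hS : IsPGroup p S) {F : FusionSystem S} {D : FusionSystem R}
    (hD : D.IsWeaklyNormalIn F p) {X : FusionSystem (D.hyperfocalSubgroup p)} (hX : IsOp D p X) :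
    X.IsNormalIn F p := by
  obtain ⟨E, hE, hEX⟩ := hX
  obtain ⟨hEs, hF, hEi⟩ := pResidual_weaklyNormal hS hD hE
  haveI := finite_of_le hEi.2.1.1
  exact pPrimeResidual_isNormalIn hS hF (isPGroup_of_le hS hEi.2.1.1) hEs hEi hEX

theorem IsOp.isSaturated {D : FusionSystem R} {X : FusionSystem (D.hyperfocalSubgroup p)}
    (hX : IsOp D p X) : X.IsSaturated p := by
  obtain ⟨E, -, hEX⟩ := hX
  exact hEX.1

theorem IsOp.isSubsystemOf {D : FusionSystem R} {X : FusionSystem (D.hyperfocalSubgroup p)}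
    (hX : IsOp D p X) : X.IsSubsystemOf D := by
  obtain ⟨E, hE, hEX⟩ := hX
  exact fun P φ h => hE.2.1 P (hEX.2.1.1 P h)

/-- The operation carries weakly normal subsystems to normal subsystems. -/
theorem IsOp.isNormalIn_op [Finite R] (hR : IsPGroup p R) {D : FusionSystem R}
    {D₁ : FusionSystem T} (h : D₁.IsWeaklyNormalIn D p)
    {X : FusionSystem (D.hyperfocalSubgroup p)} {X₁ : FusionSystem (D₁.hyperfocalSubgroup p)}
    (hX : IsOp D p X) (hX₁ : IsOp D₁ p X₁) : X₁.IsNormalIn X p := by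
  have hnorm := hX₁.isNormalIn hR h
  have hXD := hX.isSubsystemOf
  have hXs := hX.isSaturated
  have hHR := CfsgLib.FusionSub.hyperfocal_le D p
  haveI := finite_of_le hHR
  have hHp := isPGroup_of_le hR hHR
  obtain ⟨E, hE, hEX⟩ := hX
  obtain ⟨E₁, hE₁, hEX₁⟩ := hX₁
  have hsub : E₁.IsSubsystemOf E := CfsgLib.FusionSub.subsystem_of_pPowerIndex hR hE₁.1
    (fun P φ h' => h.2.2.1 P (hE₁.2.1 P h')) hE.2 (hyperfocal_mono h.2.2.1)
  have hE₁w := pResidual_weaklyNormal hR h hE₁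
  have hw : E₁.IsWeaklyNormalIn E p :=
    ⟨hE₁.1, hE.1, isInvariantIn_of_le hHp hE.1 hE.2.1 hsub hE₁w.2.2⟩
  have hXX := pPrimeResidual_mono hHp hw hEX₁ hEX
  have hX₁i := isInvariantIn_of_le hHp hXs hXD hXX hnorm.1.2.2
  have hH₁ := hX₁i.2.1.1
  haveI := finite_of_le hH₁
  have hH₁p := isPGroup_of_le hHp hH₁
  obtain ⟨Y, hY⟩ := exists_isPPrimeResidual hH₁p hEX₁.1
  have hYn := pPrimeResidual_isNormalIn hHp hXs hH₁p hEX₁.1 hX₁i hY
  exact pPrimeResidual_idem hEX₁ hY ▸ hYn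

end CfsgLib.FusionBasics.Central
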