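import Cfsg.Agent.Lib.FusionBasics.Central.Residual
import Cfsg.Agent.Lib.Alperin.DirectFactor
import Cfsg.Agent.Lib.Alperin.NormalLift

/-!
Systems split into two commuting strongly closed factors, and the splitting of their weakly normal
subsystems.
-/

set_option autoImplicit false
set_option linter.style.haveILetI false
set_option linter.unusedSectionVars false

namespace CfsgLib.FusionBasics.Central

open Cfsg Cfsg.FusionSystem CfsgLib.Alperin CfsgLib.Alperin.NormalLift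

variable {Ω : Type*} [Group Ω] {S H A B : Subgroup Ω} {p : ℕ} [Fact p.Prime]

/-- The product of the two projections of `P`. -/
abbrev hat (A B P : Subgroup Ω) : Subgroup Ω := (P ⊔ B) ⊓ A ⊔ (P ⊔ A) ⊓ B

/-- `F` is the central product of its parts over `A` and `B`. -/
structure CSplit (F : FusionSystem S) (A B : Subgroup Ω) : Prop where
  sup_eq : A ⊔ B = S
  comm : ∀ a ∈ A, ∀ b ∈ B, a * b = b * a
  closedL : F.StronglyClosed A
  closedR : F.StronglyClosed B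
  liftL : ∀ P : Subgroup Ω, P ≤ A → ∀ φ ∈ F.Hom P, FixY F B P φ
  liftR : ∀ P : Subgroup Ω, P ≤ B → ∀ φ ∈ F.Hom P, FixY F A P φ
  dec : ∀ (P : Subgroup Ω) (φ : P →* Ω), φ ∈ F.Hom P → ∃ ψ ∈ F.Hom (hat A B P),
    ∀ (x : P) (h : (x : Ω) ∈ hat A B P), ψ ⟨x, h⟩ = φ x

theorem hat_comm (A B P : Subgroup Ω) : hat A B P = hat B A P := sup_comm _ _

theorem CSplit.symm {F : FusionSystem S} (hs : CSplit F A B) : CSplit F B A where
  sup_eq := sup_comm B A ▸ hs.sup_eq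
  comm b hb a ha := (hs.comm a ha b hb).symm
  closedL := hs.closedR
  closedR := hs.closedL
  liftL := hs.liftR
  liftR := hs.liftL
  dec P φ hφ := hat_comm A B P ▸ hs.dec P φ hφ

/-- Components of a product in a subgroup. -/
theorem proj_mem {P : Subgroup Ω} {x a b : Ω} (hx : x ∈ P) (ha : a ∈ A) (hb : b ∈ B)
    (h : x = a * b) : a ∈ (P ⊔ B) ⊓ A ∧ b ∈ (P ⊔ A) ⊓ B := by
  refine ⟨⟨?_, ha⟩, ⟨?_, hb⟩⟩
  · have := Subgroup.mul_mem _ (Subgroup.mem_sup_left (T := B) hx)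
      (Subgroup.inv_mem _ (Subgroup.mem_sup_right (S := P) hb))
    rwa [h, mul_inv_cancel_right] at this
  · have := Subgroup.mul_mem _ (Subgroup.inv_mem _ (Subgroup.mem_sup_right (S := P) ha))
      (Subgroup.mem_sup_left (T := A) hx)
    rwa [h, inv_mul_cancel_left] at this

theorem le_hat (hc : ∀ a ∈ A, ∀ b ∈ B, a * b = b * a) {P : Subgroup Ω} (hP : P ≤ A ⊔ B) :
    P ≤ hat A B P := by
  intro x hx
  obtain ⟨a, ha, b, hb, rfl⟩ := exists_mul_of_le_sup hc (hP hx)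
  obtain ⟨h1, h2⟩ := proj_mem hx ha hb rfl
  exact Subgroup.mul_mem _ (Subgroup.mem_sup_left h1) (Subgroup.mem_sup_right h2)

theorem hat_le (A B P : Subgroup Ω) : hat A B P ≤ A ⊔ B := sup_le_sup inf_le_right inf_le_right

theorem hat_eq_of_le {P R : Subgroup Ω} (hPR : P ≤ R) (hR : R ≤ hat A B P) :
    hat A B R = hat A B P := by
  have h1 : hat A B P ≤ P ⊔ B := sup_le inf_le_left (inf_le_right.trans le_sup_right)
  have h2 : hat A B P ≤ P ⊔ A := sup_le (inf_le_right.trans le_sup_right) inf_le_left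
  have e1 : R ⊔ B = P ⊔ B :=
    le_antisymm (sup_le (hR.trans h1) le_sup_right) (sup_le_sup_right hPR B)
  have e2 : R ⊔ A = P ⊔ A :=
    le_antisymm (sup_le (hR.trans h2) le_sup_right) (sup_le_sup_right hPR A)
  unfold hat
  rw [e1, e2]

theorem hat_mono {A' B' P : Subgroup Ω} (hA : A' ≤ A) (hB : B' ≤ B) :
    hat A' B' P ≤ hat A B P :=
  sup_le_sup (inf_le_inf (sup_le_sup_left hB P) hA) (inf_le_inf (sup_le_sup_left hA P) hB)

/-- Elements of `P B` for a strongly closed `B`. -/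
theorem exists_mul_of_mem_sup {F : FusionSystem S} (hB : F.StronglyClosed B) {P : Subgroup Ω}
    (hP : P ≤ S) {y : Ω} (hy : y ∈ P ⊔ B) : ∃ x ∈ P, ∃ b ∈ B, y = x * b := by
  have hn : P ≤ Subgroup.normalizer (B : Set Ω) :=
    hP.trans (CfsgLib.FusionSub.stronglyClosed_le_normalizer hB)
  have hy' : y ∈ ((P ⊔ B : Subgroup Ω) : Set Ω) := hy
  rw [Subgroup.coe_mul_of_left_le_normalizer_right P B hn] at hy'
  obtain ⟨x, hx, b, hb, he⟩ := Set.mem_mul.mp hy'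
  exact ⟨x, hx, b, hb, he.symm⟩

/-- Images under extensions stay in `hat`. -/
theorem apply_hat_mem {F : FusionSystem S} (hA : F.StronglyClosed A) (hB : F.StronglyClosed B)
    {P Q : Subgroup Ω} (hPS : P ≤ S) (hP : P ≤ hat A B P) {φ : P →* Ω}
    {ψ : ↥(hat A B P) →* Ω} (hψ : ψ ∈ F.Hom (hat A B P))
    (hx : ∀ (x : P) (h : (x : Ω) ∈ hat A B P), ψ ⟨x, h⟩ = φ x) (hQ : ∀ x, φ x ∈ Q)
    (z : ↥(hat A B P)) : ψ z ∈ hat A B Q := by
  refine apply_mem_of_sup ψ (fun a => ?_) (fun b => ?_) z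
  · refine Subgroup.mem_sup_left ⟨?_, CfsgLib.FusionSub.stronglyClosed_apply hA hψ _ a.2.2⟩
    obtain ⟨x, hxP, b, hb, he⟩ := exists_mul_of_mem_sup hB hPS a.2.1
    have hbm : b ∈ hat A B P := by
      have := Subgroup.mul_mem _ (Subgroup.inv_mem _ (hP hxP))
        (Subgroup.mem_sup_left a.2 : (a : Ω) ∈ hat A B P)
      rwa [he, inv_mul_cancel_left] at this
    rw [show Subgroup.inclusion (le_sup_left : (P ⊔ B) ⊓ A ≤ hat A B P) a =
      ⟨x, hP hxP⟩ * ⟨b, hbm⟩ from Subtype.ext he, map_mul, hx ⟨x, hxP⟩]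
    exact Subgroup.mul_mem _ (Subgroup.mem_sup_left (hQ _))
      (Subgroup.mem_sup_right (CfsgLib.FusionSub.stronglyClosed_apply hB hψ _ hb))
  · refine Subgroup.mem_sup_right ⟨?_, CfsgLib.FusionSub.stronglyClosed_apply hB hψ _ b.2.2⟩
    obtain ⟨x, hxP, a, ha, he⟩ := exists_mul_of_mem_sup hA hPS b.2.1
    have ham : a ∈ hat A B P := by
      have := Subgroup.mul_mem _ (Subgroup.inv_mem _ (hP hxP))
        (Subgroup.mem_sup_right b.2 : (b : Ω) ∈ hat A B P)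
      rwa [he, inv_mul_cancel_left] at this
    rw [show Subgroup.inclusion (le_sup_right : (P ⊔ A) ⊓ B ≤ hat A B P) b =
      ⟨x, hP hxP⟩ * ⟨a, ham⟩ from Subtype.ext he, map_mul, hx ⟨x, hxP⟩]
    exact Subgroup.mul_mem _ (Subgroup.mem_sup_left (hQ _))
      (Subgroup.mem_sup_right (CfsgLib.FusionSub.stronglyClosed_apply hA hψ _ ha))

/-- Maps fix `A ⊓ B`. -/
theorem CSplit.apply_eq_of_mem {F : FusionSystem S} (hs : CSplit F A B) {P : Subgroup Ω}
    {φ : P →* Ω} (hφ : φ ∈ F.Hom P) (x : P) (ha : (x : Ω) ∈ A) (hb : (x : Ω) ∈ B) :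
    φ x = x := by
  obtain ⟨ψ, -, hx, hy⟩ := hs.liftL (P ⊓ A) inf_le_right _
    (restrict_mem hφ (inf_le_left : P ⊓ A ≤ P))
  have h1 := hx ⟨x, x.2, ha⟩
  have h2 := hy ⟨x, hb⟩
  exact (h1.symm.trans ((congrArg ψ (Subtype.ext rfl)).trans h2) :)

/-- The hyperfocal subgroup of a subsystem over a strongly closed subgroup splits. -/
theorem hyperfocal_le_split {F : FusionSystem S} (hs : CSplit F A B) (hH : F.StronglyClosed H)
    {Y : FusionSystem H} (hY : Y.IsSubsystemOf F) :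
    Y.hyperfocalSubgroup p ≤ (H ⊓ A) ⊔ (H ⊓ B) := by
  refine (Subgroup.closure_le _).mpr ?_
  rintro _ ⟨P, α, x, hP, -, rfl⟩
  set φ : P →* Ω := P.subtype.comp (α : MulAut P).toMonoidHom with hφ
  have hφF : φ ∈ F.Hom P := hY P ((mem_autGroup_iff Y hP).mp α.2)
  have hPS : P ≤ A ⊔ B := hs.sup_eq.symm ▸ hP.trans hH.1
  obtain ⟨ψ, hψ, hx⟩ := hs.dec P φ hφF
  obtain ⟨a, ha, b, hb, he⟩ := exists_mul_of_le_sup hs.comm (hPS x.2)
  obtain ⟨hamem, hbmem⟩ := proj_mem x.2 ha hb he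
  obtain ⟨ψ₁, hψ₁, hx₁, hy₁⟩ := hs.liftL ((P ⊔ B) ⊓ A) inf_le_right _
    (restrict_mem hψ (le_sup_left : (P ⊔ B) ⊓ A ≤ hat A B P))
  set a' := ψ ⟨a, Subgroup.mem_sup_left hamem⟩ with ha'
  set b' := ψ ⟨b, Subgroup.mem_sup_right hbmem⟩ with hb'
  have ha'A : a' ∈ A := CfsgLib.FusionSub.stronglyClosed_apply hs.closedL hψ _ ha
  have hb'B : b' ∈ B := CfsgLib.FusionSub.stronglyClosed_apply hs.closedR hψ _ hb
  have hxeq : φ x = a' * b' := by
    rw [← hx x (le_hat hs.comm hPS x.2), ha', hb', ← map_mul]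
    exact congrArg ψ (Subtype.ext he)
  have h1 : a' * b ∈ H := by
    have := CfsgLib.FusionSub.stronglyClosed_apply hH hψ₁
      (Subgroup.inclusion le_sup_left ⟨a, hamem⟩ * Subgroup.inclusion le_sup_right ⟨b, hb⟩)
      (show (a * b : Ω) ∈ H from he ▸ hP x.2)
    rw [map_mul, hx₁, hy₁] at this
    exact this
  have h2 : a⁻¹ * a' ∈ H := by
    have h3 : a' * a⁻¹ ∈ H := by
      have := H.mul_mem h1 (H.inv_mem (show a * b ∈ H from he ▸ hP x.2))
      rwa [mul_inv_rev, ← mul_assoc, mul_inv_cancel_right] at this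
    have := CfsgLib.FusionSub.stronglyClosed_conj hH (hs.closedL.1 (A.inv_mem ha)) h3
    simpa [mul_assoc] using this
  have h4 : (x : Ω)⁻¹ * φ x = a⁻¹ * a' * (b⁻¹ * b') := by
    rw [hxeq, he, mul_inv_rev]
    have := hs.comm _ (A.mul_mem (A.inv_mem ha) ha'A) _ (B.inv_mem hb)
    calc b⁻¹ * a⁻¹ * (a' * b') = b⁻¹ * (a⁻¹ * a') * b' := by group
      _ = a⁻¹ * a' * (b⁻¹ * b') := by rw [← this]; group
  show (x : Ω)⁻¹ * φ x ∈ _
  have h5 : (x : Ω)⁻¹ * φ x ∈ H := H.mul_mem (H.inv_mem (hP x.2)) (hP ((α : MulAut P) x).2)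
  rw [h4] at h5 ⊢
  refine Subgroup.mul_mem _ (Subgroup.mem_sup_left ⟨h2, A.mul_mem (A.inv_mem ha) ha'A⟩)
    (Subgroup.mem_sup_right ⟨?_, B.mul_mem (B.inv_mem hb) hb'B⟩)
  have := H.mul_mem (H.inv_mem h2) h5
  rwa [inv_mul_cancel_left] at this

variable {F : FusionSystem S}

/-- Maps of a saturated subsystem over a split strongly closed subgroup extend to the product of
the projections. -/
theorem exists_dec [Finite S] (hS : IsPGroup p S) (hs : CSplit F A B) (hH : F.StronglyClosed H)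
    (hsplit : (H ⊓ A) ⊔ (H ⊓ B) = H) {Y : FusionSystem H} (hYs : Y.IsSaturated p)
    (hY : Y.IsSubsystemOf F) {P : Subgroup Ω} {φ : P →* Ω} (hφ : φ ∈ Y.Hom P) :
    ∃ ψ ∈ Y.Hom (hat (H ⊓ A) (H ⊓ B) P),
      ∀ (x : P) (h : (x : Ω) ∈ hat (H ⊓ A) (H ⊓ B) P), ψ ⟨x, h⟩ = φ x := by
  haveI := finite_of_le hH.1
  have hHp := isPGroup_of_le hS hH.1
  have hcA := CfsgLib.FusionSub.stronglyClosed_inf hH hs.closedL
  have hcB := CfsgLib.FusionSub.stronglyClosed_inf hH hs.closedR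
  have hc : ∀ a ∈ H ⊓ A, ∀ b ∈ H ⊓ B, a * b = b * a := fun a ha b hb => hs.comm a ha.2 b hb.2
  have hle : ∀ {P : Subgroup Ω}, P ≤ H → P ≤ hat (H ⊓ A) (H ⊓ B) P := fun h =>
    le_hat hc (hsplit.symm ▸ h)
  have hleH : ∀ P, hat (H ⊓ A) (H ⊓ B) P ≤ H := fun P => (hat_le _ _ P).trans hsplit.le
  have hFext : ∀ {P : Subgroup Ω} {φ : P →* Ω}, P ≤ H → φ ∈ F.Hom P →
      ∃ ψ ∈ F.Hom (hat (H ⊓ A) (H ⊓ B) P),
        (∀ (x : P) (h : (x : Ω) ∈ hat (H ⊓ A) (H ⊓ B) P), ψ ⟨x, h⟩ = φ x) ∧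
        ∀ z, ψ z ∈ hat (H ⊓ A) (H ⊓ B) φ.range := by
    intro P φ hP hφ
    obtain ⟨ψ, hψ, hx⟩ := hs.dec P φ hφ
    have hm := hat_mono (A' := H ⊓ A) (B' := H ⊓ B) (P := P) (A := A) (B := B)
      inf_le_right inf_le_right
    exact ⟨_, restrict_mem hψ hm, fun x h => hx x (hm h), fun z =>
      apply_hat_mem (Q := φ.range) hcA hcB (hP.trans hH.1) (hle hP) (restrict_mem hψ hm)
        (fun x h => hx x (hm h)) (fun x => ⟨x, rfl⟩) z⟩
  suffices h : ∀ (n : ℕ) (P : Subgroup Ω) (φ : P →* Ω), φ ∈ Y.Hom P →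
      Nat.card H - Nat.card P = n → ∃ ψ ∈ Y.Hom (hat (H ⊓ A) (H ⊓ B) P),
        ∀ (x : P) (h : (x : Ω) ∈ hat (H ⊓ A) (H ⊓ B) P), ψ ⟨x, h⟩ = φ x from h _ P φ hφ rfl
  intro n
  induction n using Nat.strong_induction_on with
  | _ n ih =>
  intro P φ hφ hn
  have key : ∀ (P' : Subgroup Ω) (χ : P' →* Ω), χ ∈ Y.Hom P' → Nat.card P' = Nat.card P →
      Y.IsFullyNormalized χ.range → ∃ ψ ∈ Y.Hom (hat (H ⊓ A) (H ⊓ B) P'),
        ∀ (x : P') (h : (x : Ω) ∈ hat (H ⊓ A) (H ⊓ B) P'), ψ ⟨x, h⟩ = χ x := by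
    intro P' χ hχ hcard hn'
    have hP'H := dom_le hχ
    rcases (hle hP'H).eq_or_lt with heq | hlt
    · exact ⟨_, restrict_mem hχ heq.ge, fun x h => congrArg χ (Subtype.ext rfl)⟩
    obtain ⟨f, hf, hfx, hfm⟩ := hFext hP'H (hY _ hχ)
    have hrH : χ.range ≤ H := range_le hχ
    obtain ⟨g, hgK, hgN, hgP⟩ :=
      CfsgLib.FusionSub.exists_mem_normalizer_not_mem hS hlt ((hleH _).trans hH.1)
    set N := hat (H ⊓ A) (H ⊓ B) P' ⊓ normalizerIn H P' with hN
    have hP'N : P' < N := lt_of_le_of_ne (le_inf (hle hP'H) (le_normalizerIn hP'H)) fun h =>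
      hgP (h.ge ⟨hgK, hleH _ hgK, hgN⟩)
    have hNext : N ≤ extender H P' χ := fun m hm => by
      refine mem_extender_iff.mpr ⟨hm.2.1, hm.2.2, f ⟨m, hm.1⟩,
        hleH _ (hfm ⟨m, hm.1⟩), fun x hx => ?_⟩
      rw [← hfx ⟨_, hx⟩ (hle hP'H hx), ← hfx x (hle hP'H x.2), ← map_inv f, ← map_mul, ← map_mul]
      rfl
    obtain ⟨χ', hχ', hχ'x⟩ := (receptive_of_fullyNormalized hHp hYs hn').2 P' χ hχ rfl
    have hcN : Nat.card P' < Nat.card N := CfsgLib.FusionSub.card_lt_card (inf_le_left.trans (hleH P')) hP'N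
    have hcN' : Nat.card N ≤ Nat.card H :=
      Subgroup.card_le_of_le (K := H) (inf_le_left.trans (hleH P'))
    obtain ⟨ψ, hψ, hψx⟩ := ih _ (by omega) N _ (restrict_mem hχ' hNext) rfl
    have heq := hat_eq_of_le hP'N.le (inf_le_left : N ≤ _)
    refine ⟨_, restrict_mem hψ heq.ge, fun x h => ?_⟩
    exact (hψx ⟨x, hP'N.le x.2⟩ (heq.ge h)).trans (hχ'x x x.2 _)
  have hPH := dom_le hφ
  have hrH : φ.range ≤ H := range_le hφ
  obtain ⟨Q'', hconj, hQ''⟩ := exists_isFullyNormalized Y hrH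
  obtain ⟨c, hc', hcr⟩ := hconj
  subst hcr
  set χ := c.comp (φ.codRestrict φ.range fun x => ⟨x, rfl⟩) with hχ
  have hχY : χ ∈ Y.Hom P := Y.comp_mem hφ hc' _
  have hχr : χ.range = c.range := by
    ext y
    exact ⟨fun ⟨x, hx⟩ => ⟨_, hx⟩, fun ⟨⟨_, x, rfl⟩, hx⟩ => ⟨x, hx⟩⟩
  obtain ⟨c₁, hc₁, hc₁x⟩ := key _ c hc' (card_range_eq (Y.injective_of_mem hφ)) hQ''
  obtain ⟨χ₁, hχ₁, hχ₁x⟩ := key _ χ hχY rfl (hχr.symm ▸ hQ'')
  have hc₁m : ∀ z, c₁ z ∈ hat (H ⊓ A) (H ⊓ B) c.range := fun z =>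
    apply_hat_mem (Q := c.range) hcA hcB (hrH.trans hH.1) (hle hrH) (hY _ hc₁) hc₁x (fun x => ⟨x, rfl⟩) z
  have hc₁r : c₁.range = hat (H ⊓ A) (H ⊓ B) c.range := by
    obtain ⟨θ, hθ, hθr, -, -⟩ := exists_inverse hc' rfl
    obtain ⟨f, hf, -, hfm⟩ := hFext (range_le hc') (hY _ hθ)
    rw [hθr] at hfm
    haveI := finite_of_le (hleH c.range)
    haveI := finite_of_le (hleH φ.range)
    refine Subgroup.eq_of_le_of_card_ge (by rintro _ ⟨z, rfl⟩; exact hc₁m z) ?_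
    rw [card_range_eq (Y.injective_of_mem hc₁)]
    exact Nat.card_le_card_of_injective (fun z => (⟨f z, hfm z⟩ : hat (H ⊓ A) (H ⊓ B) φ.range))
      fun z w h => F.injective_of_mem hf (congrArg Subtype.val h)
  obtain ⟨θ₁, hθ₁, -, hθ₁x, -⟩ := exists_inverse hc₁ hc₁r
  have hm : ∀ z, χ₁ z ∈ hat (H ⊓ A) (H ⊓ B) c.range := fun z =>
    apply_hat_mem (Q := c.range) hcA hcB (hPH.trans hH.1) (hle hPH) (hY _ hχ₁) hχ₁x
      (fun x => hχr.le ⟨x, rfl⟩) z
  refine ⟨_, Y.comp_mem hχ₁ hθ₁ hm, fun x h => ?_⟩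
  have e : χ₁ ⟨x, h⟩ = c₁ ⟨φ x, hle hrH ⟨x, rfl⟩⟩ :=
    (hχ₁x x h).trans (hc₁x ⟨φ x, x, rfl⟩ _).symm
  refine Eq.trans (congrArg θ₁ (Subtype.ext e : χ₁.codRestrict _ hm ⟨x, h⟩ =
    ⟨c₁ ⟨φ x, hle hrH ⟨x, rfl⟩⟩, hc₁m _⟩)) ?_
  exact hθ₁x _ _

/-- In a saturated system over a product of commuting strongly closed subgroups, an automorphism
of `p`-power order of a subgroup of one factor extends fixing the other factor. -/
theorem fix_pElement [Finite H] (hH : IsPGroup p H) {X : FusionSystem H} (hX : X.IsSaturated p)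
    (hAB : A ⊔ B = H) (hc : ∀ a ∈ A, ∀ b ∈ B, a * b = b * a) (hcA : X.StronglyClosed A)
    (hcB : X.StronglyClosed B) {P : Subgroup Ω} (hP : P ≤ A) {β : MulAut P}
    (hβ : β ∈ X.autGroup P) {k : ℕ} (hk : β ^ p ^ k = 1) :
    FixY X B P (P.subtype.comp β.toMonoidHom) := by
  have hPH := hP.trans hcA.1
  obtain ⟨φ, hφ, hn, s, hs, hsy⟩ := exists_conj_of_pElement hPH
    (fun R _ hR => (centralized_automized_of_fullyNormalized hH hX hR).2) hβ hk
  obtain ⟨a, ha, b, hb, rfl⟩ := exists_mul_of_le_sup hc (hAB.symm ▸ hs)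
  obtain ⟨φ', hφ', hφ'x⟩ := (receptive_of_fullyNormalized hH hX hn).2 P φ hφ rfl
  have hBC : B ≤ centralizerIn H P := fun y hy => ⟨hcB.1 hy, fun x hx => hc x (hP hx) y hy⟩
  have hle : P ⊔ B ≤ extender H P φ :=
    (sup_le_sup_left hBC P).trans (sup_centralizerIn_le_extender hφ)
  set f := φ'.comp (Subgroup.inclusion hle) with hf
  have hfX : f ∈ X.Hom (P ⊔ B) := restrict_mem hφ' hle
  have hfP : ∀ x : P, f (Subgroup.inclusion le_sup_left x) = φ x := fun x => hφ'x x x.2 _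
  have hfB : ∀ y : B, f (Subgroup.inclusion le_sup_right y) ∈ B := fun y =>
    CfsgLib.FusionSub.stronglyClosed_apply hcB hfX _ y.2
  have hfA : ∀ x : P, φ x ∈ A := fun x => hcA.2 P hP φ hφ x
  obtain ⟨θ, hθ, -, hθx, -⟩ := exists_inverse hfX rfl
  have hfr : f.range ≤ H := range_le hfX
  let cs : f.range →* Ω := conjHom f.range a
  have hcs : cs ∈ X.Hom f.range := X.conj_mem hfr (hcA.1 ha)
  have hP' : ∀ x : P, a * φ x * a⁻¹ = φ (β x) := fun x => by
    rw [hsy]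
    have h := hc _ (hfA x) b hb
    calc a * φ x * a⁻¹ = a * (φ x * b) * b⁻¹ * a⁻¹ := by group
      _ = a * b * φ x * (a * b)⁻¹ := by rw [h]; group
  have hB' : ∀ y : B, a * f (Subgroup.inclusion le_sup_right y) * a⁻¹ =
      f (Subgroup.inclusion le_sup_right y) := fun y => by
    rw [hc a ha _ (hfB y), mul_inv_cancel_right]
  have hm1 : ∀ z, f z ∈ f.range := fun z => ⟨z, rfl⟩
  have hm2 : ∀ z, (cs.comp (f.codRestrict _ hm1)) z ∈ f.range := by
    refine apply_mem_of_sup _ (fun x => ?_) fun y => ?_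
    · refine ⟨Subgroup.inclusion le_sup_left (β x), ?_⟩
      show f (Subgroup.inclusion le_sup_left (β x)) = a * f (Subgroup.inclusion le_sup_left x) * a⁻¹
      rw [hfP, hfP, hP']
    · exact ⟨Subgroup.inclusion le_sup_right y, (hB' y).symm⟩
  refine ⟨_, X.comp_mem (X.comp_mem hfX hcs hm1) hθ hm2, fun x => ?_, fun y => ?_⟩
  · refine Eq.trans (congrArg θ (Subtype.ext ?_))
      (hθx (Subgroup.inclusion le_sup_left (β x)) ⟨_, rfl⟩)
    show a * f (Subgroup.inclusion le_sup_left x) * a⁻¹ = _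
    exact ((congrArg (fun v => a * v * a⁻¹) (hfP x)).trans (hP' x)).trans (hfP (β x)).symm
  · refine Eq.trans (congrArg θ (Subtype.ext ?_))
      (hθx (Subgroup.inclusion le_sup_right y) ⟨_, rfl⟩)
    exact hB' y

section Lift

variable [Finite S] (hS : IsPGroup p S) (hs : CSplit F A B) (hH : F.StronglyClosed H)
  (hsplit : (H ⊓ A) ⊔ (H ⊓ B) = H) {Y X : FusionSystem H} (hYs : Y.IsSaturated p)
  (hY : Y.IsSubsystemOf F) (hX : Y.IsPPrimeResidual p X)

/-- `z` agrees modulo `H ⊓ B` with a map of `X` fixing `H ⊓ B`. -/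
def ProjFix (X : FusionSystem H) (B : Subgroup Ω) (P : Subgroup Ω) (z : P →* Ω) : Prop :=
  ∃ ψ ∈ X.Hom (P ⊔ B), (∀ y : B, ψ (Subgroup.inclusion le_sup_right y) = y) ∧
    ∀ x : P, (ψ (Subgroup.inclusion le_sup_left x))⁻¹ * z x ∈ B

theorem ProjFix.comp {X : FusionSystem H} {B P Q : Subgroup Ω} {φ : P →* Ω} {χ : Q →* Ω}
    (h₁ : ProjFix X B P φ) (h₂ : ProjFix X B Q χ) (h : ∀ x : P, φ x ∈ Q) :
    ProjFix X B P (χ.comp (φ.codRestrict Q h)) := by
  obtain ⟨ψ₁, hψ₁, hy₁, hx₁⟩ := h₁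
  obtain ⟨ψ₂, hψ₂, hy₂, hx₂⟩ := h₂
  have hm : ∀ z, ψ₁ z ∈ Q ⊔ B := by
    refine apply_mem_of_sup ψ₁ (fun x => ?_) fun y => Subgroup.mem_sup_right (by rw [hy₁]; exact y.2)
    have := Subgroup.mul_mem _ (Subgroup.mem_sup_left (T := B) (h x))
      (Subgroup.inv_mem _ (Subgroup.mem_sup_right (S := Q) (hx₁ x)))
    simpa using this
  refine ⟨_, X.comp_mem hψ₁ hψ₂ hm, fun y => ?_, fun x => ?_⟩
  · exact (congrArg ψ₂ (Subtype.ext (hy₁ y) :
      ψ₁.codRestrict _ hm (Subgroup.inclusion le_sup_right y) =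
        Subgroup.inclusion le_sup_right y)).trans (hy₂ y)
  · show (ψ₂ (ψ₁.codRestrict _ hm (Subgroup.inclusion le_sup_left x)))⁻¹ * χ ⟨φ x, h x⟩ ∈ B
    set d : B := ⟨_, hx₁ x⟩ with hd
    have e : ψ₁.codRestrict _ hm (Subgroup.inclusion le_sup_left x) =
        Subgroup.inclusion le_sup_left (⟨φ x, h x⟩ : Q) *
          (Subgroup.inclusion le_sup_right d)⁻¹ := Subtype.ext (by simp [hd])
    rw [e, map_mul, map_inv, hy₂, mul_inv_rev, inv_inv, mul_assoc]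
    exact B.mul_mem d.2 (hx₂ ⟨φ x, h x⟩)

include hS hs hH hsplit hYs hY hX

theorem fix_pElement_residual {P : Subgroup Ω} (hP : P ≤ H ⊓ A) {β : MulAut P}
    (hβ : β ∈ Y.autGroup P) {k : ℕ} (hk : β ^ p ^ k = 1) :
    FixY X (H ⊓ B) P (P.subtype.comp β.toMonoidHom) := by
  haveI := finite_of_le hH.1
  have hXF : X.IsSubsystemOf F := fun Q φ h => hY Q (hX.2.1.1 Q h)
  have hc : ∀ {U : Subgroup Ω}, F.StronglyClosed U → U ≤ H → X.StronglyClosed U := fun hU h =>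
    ⟨h, fun Q hQ φ hφ x => hU.2 Q hQ φ (hXF Q hφ) x⟩
  exact fix_pElement (isPGroup_of_le hS hH.1) hX.1 hsplit
    (fun a ha b hb => hs.comm a ha.2 b hb.2)
    (hc (CfsgLib.FusionSub.stronglyClosed_inf hH hs.closedL) inf_le_left)
    (hc (CfsgLib.FusionSub.stronglyClosed_inf hH hs.closedR) inf_le_left) hP
    (pElement_mem hX.2.1 (hP.trans inf_le_left) hβ hk) hk

theorem projFix_gen {P : Subgroup Ω} {z : P →* Ω} (hz : Gen Y p P z) :
    ProjFix X (H ⊓ B) P z := by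
  haveI := finite_of_le hH.1
  induction hz with
  | comp _ _ h ih₁ ih₂ => exact ih₁.comp ih₂ h
  | @base P Q hPQ hQ β hβ k hk =>
    set A₀ := H ⊓ A
    set B₀ := H ⊓ B
    have hc : ∀ a ∈ A₀, ∀ b ∈ B₀, a * b = b * a := fun a ha b hb => hs.comm a ha.2 b hb.2
    have hQh : Q ≤ hat A₀ B₀ Q := le_hat hc (hsplit.symm ▸ hQ.1)
    have hβY := (mem_autGroup_iff Y hQ.1).mp hβ
    obtain ⟨ψ, hψ, hψx⟩ := exists_dec hS hs hH hsplit hYs hY hβY
    have hhH : hat A₀ B₀ Q ≤ H := (hat_le _ _ Q).trans hsplit.le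
    haveI := finite_of_le hhH
    obtain ⟨δ, hδ, hδx⟩ := exists_aut_of_hom' Y hψ fun z =>
      apply_hat_mem (CfsgLib.FusionSub.stronglyClosed_inf hH hs.closedL)
        (CfsgLib.FusionSub.stronglyClosed_inf hH hs.closedR) (hQ.1.trans hH.1) hQh (hY _ hψ) hψx
        (fun x => (β x).2) z
    haveI := finite_mulAut (P := hat A₀ B₀ Q)
    obtain ⟨i, m, hm, hcop⟩ := CfsgLib.FusionExamples.exists_coprime_power (p := p) δ
    set j := m ^ Nat.totient (p ^ k) with hj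
    have hjm : m ∣ j := dvd_pow_self m (Nat.totient_pos.mpr (pow_pos (Fact.out : p.Prime).pos k)).ne'
    set ε := δ ^ j with hε
    have hεp : ε ^ p ^ i = 1 := by
      obtain ⟨t, ht⟩ := hjm
      rw [hε, ht, ← pow_mul, show m * t * p ^ i = p ^ i * m * t by ring, pow_mul, pow_mul, hm,
        one_pow]
    have hεx : ∀ x : Q, ((ε (Subgroup.inclusion hQh x) : hat A₀ B₀ Q) : Ω) = ((β x : Q) : Ω) := by
      have hpow : ∀ (n : ℕ) (x : Q),
          (δ ^ n) (Subgroup.inclusion hQh x) = Subgroup.inclusion hQh ((β ^ n) x) := by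
        intro n
        induction n with
        | zero => simp
        | succ n ih =>
          intro x
          rw [pow_succ', pow_succ', MulAut.mul_apply, MulAut.mul_apply, ih]
          exact Subtype.ext ((hδx _).trans (hψx ((β ^ n) x) _))
      intro x
      rw [hε, hpow]
      have hmod : j % p ^ k = 1 % p ^ k := Nat.ModEq.pow_totient (hcop.pow_right k)
      rw [← Nat.mod_add_div j (p ^ k), hmod, pow_add, pow_mul, hk, one_pow, mul_one]
      rcases Nat.eq_zero_or_pos k with rfl | hkp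
      · simp only [pow_zero, pow_one] at hk
        simp [hk]
      · rw [Nat.mod_eq_of_lt (Nat.one_lt_pow hkp.ne' (Fact.out : p.Prime).one_lt), pow_one]
        rfl
    set Q₁ := (Q ⊔ B₀) ⊓ A₀ with hQ₁
    haveI := finite_of_le (inf_le_right.trans inf_le_left : Q₁ ≤ H)
    have hεY := Subgroup.pow_mem _ hδ j
    have hres : (((hat A₀ B₀ Q).subtype.comp ε.toMonoidHom).comp
        (Subgroup.inclusion (le_sup_left : Q₁ ≤ hat A₀ B₀ Q))) ∈ Y.Hom Q₁ :=
      restrict_mem ((mem_autGroup_iff Y hhH).mp hεY) _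
    have hmem : ∀ (n : ℕ) (a : Q₁),
        (((ε ^ n) (Subgroup.inclusion le_sup_left a) : hat A₀ B₀ Q) : Ω) ∈ Q₁ := by
      intro n a
      have hn := hY _ ((mem_autGroup_iff Y hhH).mp (Subgroup.pow_mem _ hεY n))
      refine ⟨?_, CfsgLib.FusionSub.stronglyClosed_apply
        (CfsgLib.FusionSub.stronglyClosed_inf hH hs.closedL) hn _ a.2.2⟩
      have := ((ε ^ n) (Subgroup.inclusion le_sup_left a) : hat A₀ B₀ Q).2
      exact (sup_le inf_le_left (inf_le_right.trans le_sup_right) : hat A₀ B₀ Q ≤ Q ⊔ B₀) this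
    obtain ⟨e, he, hex⟩ := exists_aut_of_hom' Y hres fun a => by simpa using hmem 1 a
    have hepow : ∀ (n : ℕ) (a : Q₁),
        Subgroup.inclusion (le_sup_left : Q₁ ≤ hat A₀ B₀ Q) ((e ^ n) a) =
          (ε ^ n) (Subgroup.inclusion le_sup_left a) := by
      intro n
      induction n with
      | zero => simp
      | succ n ih =>
        intro a
        rw [pow_succ', pow_succ', MulAut.mul_apply, MulAut.mul_apply, ← ih]
        exact Subtype.ext (hex _)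
    have he1 : e ^ p ^ i = 1 := MulEquiv.ext fun a => by
      have h := hepow (p ^ i) a
      rw [hεp] at h
      exact Subgroup.inclusion_injective le_sup_left h
    obtain ⟨χ, hχ, hχx, hχy⟩ := fix_pElement_residual hS hs hH hsplit hYs hY hX
      (inf_le_right : Q₁ ≤ A₀) he he1
    have hPB : P ⊔ B₀ ≤ Q₁ ⊔ B₀ := by
      refine sup_le (fun x hx => ?_) le_sup_right
      obtain ⟨a, ha, b, hb, rfl⟩ := exists_mul_of_le_sup hc (hsplit.ge (hQ.1 (hPQ hx)))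
      exact Subgroup.mul_mem _ (Subgroup.mem_sup_left (proj_mem (hPQ hx) ha hb rfl).1)
        (Subgroup.mem_sup_right hb)
    refine ⟨_, restrict_mem hχ hPB, fun y => hχy y, fun x => ?_⟩
    obtain ⟨a, ha, b, hb, hab⟩ := exists_mul_of_le_sup hc (hsplit.ge (hQ.1 (hPQ x.2)))
    obtain ⟨ham, hbm⟩ := proj_mem (hPQ x.2) ha hb hab
    set b' : Ω := ((ε ⟨b, Subgroup.mem_sup_right hbm⟩ : hat A₀ B₀ Q) : Ω) with hb'
    have hb'B : b' ∈ B₀ := CfsgLib.FusionSub.stronglyClosed_apply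
      (CfsgLib.FusionSub.stronglyClosed_inf hH hs.closedR)
      (hY _ ((mem_autGroup_iff Y hhH).mp hεY)) ⟨b, Subgroup.mem_sup_right hbm⟩ hb
    have e1 : ((β (Subgroup.inclusion hPQ x) : Q) : Ω) = ((e ⟨a, ham⟩ : Q₁) : Ω) * b' := by
      rw [← hεx, show Subgroup.inclusion hQh (Subgroup.inclusion hPQ x) =
        Subgroup.inclusion (le_sup_left : Q₁ ≤ hat A₀ B₀ Q) ⟨a, ham⟩ *
          ⟨b, Subgroup.mem_sup_right hbm⟩ from Subtype.ext hab, map_mul, hex]
      rfl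
    show (χ (Subgroup.inclusion hPB (Subgroup.inclusion le_sup_left x)))⁻¹ *
      ((β (Subgroup.inclusion hPQ x) : Q) : Ω) ∈ B₀
    rw [e1, show Subgroup.inclusion hPB (Subgroup.inclusion le_sup_left x) =
      Subgroup.inclusion le_sup_left (⟨a, ham⟩ : Q₁) * Subgroup.inclusion le_sup_right ⟨b, hb⟩ from
      Subtype.ext hab, map_mul, hχx, hχy]
    show ((((e ⟨a, ham⟩ : Q₁) : Ω)) * b)⁻¹ * (((e ⟨a, ham⟩ : Q₁) : Ω) * b') ∈ B₀
    simpa [mul_assoc] using B₀.mul_mem (B₀.inv_mem hb) hb'B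

/-- A map of `Y` on a subgroup of the first factor containing the intersection of the factors,
congruent to a map of `X` fixing the second factor, extends in `X` fixing the second factor. -/
theorem fixY_of_congr {P : Subgroup Ω} (hPA : P ≤ H ⊓ A) (hW : H ⊓ A ⊓ B ≤ P) {φ : P →* Ω}
    (hφ : φ ∈ Y.Hom P) (h : ProjFix X (H ⊓ B) P φ) : FixY X (H ⊓ B) P φ := by
  haveI := finite_of_le hH.1
  obtain ⟨ψ, hψ, hψy, hψx⟩ := h
  have hXF : X.IsSubsystemOf F := fun Q χ h => hY Q (hX.2.1.1 Q h)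
  have hcA := CfsgLib.FusionSub.stronglyClosed_inf hH hs.closedL
  set f := ψ.comp (Subgroup.inclusion (le_sup_left : P ≤ P ⊔ (H ⊓ B))) with hf
  have hfX : f ∈ X.Hom P := restrict_mem hψ le_sup_left
  have hfA : ∀ x : P, f x ∈ H ⊓ A := fun x => hcA.2 P hPA f (hXF P hfX) x
  have hφA : ∀ x : P, φ x ∈ H ⊓ A := fun x => hcA.2 P hPA φ (hY P hφ) x
  let d : P → Ω := fun x => (f x)⁻¹ * φ x
  have hdA : ∀ x, d x ∈ H ⊓ A := fun x => Subgroup.mul_mem _ (Subgroup.inv_mem _ (hfA x)) (hφA x)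
  have hdW : ∀ x, d x ∈ H ⊓ A ⊓ B := fun x => ⟨hdA x, (hψx x).2⟩
  have hfd : ∀ x, f ⟨d x, hW (hdW x)⟩ = d x := fun x =>
    hs.apply_eq_of_mem (hXF P hfX) ⟨d x, hW (hdW x)⟩ (hdW x).1.2 (hdW x).2
  obtain ⟨θ, hθ, hθr, hθx, -⟩ := exists_inverse hfX rfl
  have hm : ∀ x, φ x ∈ f.range := fun x => ⟨x * ⟨d x, hW (hdW x)⟩, by
    rw [map_mul, hfd, mul_inv_cancel_left]⟩
  set u₀ := θ.comp (φ.codRestrict f.range hm) with hu₀
  have hu₀x : ∀ x : P, u₀ x = (x : Ω) * d x := fun x => by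
    refine Eq.trans (congrArg θ (Subtype.ext ?_)) (hθx (x * ⟨d x, hW (hdW x)⟩) ⟨_, rfl⟩)
    show φ x = f (x * ⟨d x, hW (hdW x)⟩)
    rw [map_mul, hfd, mul_inv_cancel_left]
  haveI := finite_of_le (hPA.trans inf_le_left)
  have hu₀Y : u₀ ∈ Y.Hom P := Y.comp_mem hφ (hX.2.1.1 _ hθ) hm
  obtain ⟨u, hu, hux⟩ := exists_aut_of_hom' Y hu₀Y fun x => by
    rw [hu₀x]; exact P.mul_mem x.2 (hW (hdW x))
  have hud : ∀ x : P, d (u x) = d x := by
    intro x
    have e : u x = x * ⟨d x, hW (hdW x)⟩ := Subtype.ext (by rw [hux, hu₀x]; rfl)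
    show (f (u x))⁻¹ * φ (u x) = (f x)⁻¹ * φ x
    rw [e, map_mul, map_mul, hfd, hs.apply_eq_of_mem (hY P hφ) ⟨d x, hW (hdW x)⟩ (hdW x).1.2
      (hdW x).2]
    have h1 : (f x)⁻¹ * φ x = d x := rfl
    calc (f x * d x)⁻¹ * (φ x * d x) = (d x)⁻¹ * ((f x)⁻¹ * φ x) * d x := by group
      _ = (f x)⁻¹ * φ x := by rw [h1]; group
  have hpow : ∀ (n : ℕ) (x : P), (((u ^ n) x : P) : Ω) = (x : Ω) * d x ^ n := by
    intro n
    induction n with
    | zero => simp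
    | succ n ih =>
      intro x
      rw [pow_succ, MulAut.mul_apply, ih, hux, hu₀x, hud, pow_succ', mul_assoc]
  obtain ⟨k, hk⟩ := IsPGroup.iff_card.mp (isPGroup_of_le hS hH.1)
  have hu1 : u ^ p ^ k = 1 := MulEquiv.ext fun x => Subtype.ext (by
    have h1 : (⟨d x, (hdA x).1⟩ : H) ^ p ^ k = 1 := hk ▸ pow_card_eq_one'
    rw [hpow, show d x ^ p ^ k = 1 from congrArg Subtype.val h1, mul_one]
    rfl)
  have hlift := fix_pElement_residual hS hs hH hsplit hYs hY hX hPA hu hu1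
  refine hlift.comp (χ := f) ⟨ψ, hψ, fun x => rfl, hψy⟩ (fun x => (u x).2) fun x => ?_
  have e : (⟨((u x : P) : Ω), (u x).2⟩ : P) = x * ⟨d x, hW (hdW x)⟩ :=
    Subtype.ext ((hux x).trans (hu₀x x))
  show φ x = f ⟨((u x : P) : Ω), (u x).2⟩
  rw [e, map_mul, hfd, mul_inv_cancel_left]

theorem inf_le_proj (P : Subgroup Ω) : H ⊓ A ⊓ B ≤ (P ⊔ (H ⊓ B)) ⊓ (H ⊓ A) :=
  fun _ hx => ⟨Subgroup.mem_sup_right ⟨hx.1.1, hx.2⟩, hx.1⟩

theorem fixY_h0 {a : Y.autGroup H} (ha : a ∈ h0 Y p) :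
    FixY X (H ⊓ B) (H ⊓ A)
      ((H.subtype.comp (a : MulAut H).toMonoidHom).comp (Subgroup.inclusion inf_le_left)) := by
  haveI := finite_of_le hH.1
  have hXF : X.IsSubsystemOf F := fun Q χ h => hY Q (hX.2.1.1 Q h)
  have hcA := CfsgLib.FusionSub.stronglyClosed_inf hH hs.closedL
  have hres : ∀ b : Y.autGroup H, ∀ x : ↥(H ⊓ A),
      (((b : MulAut H) (Subgroup.inclusion inf_le_left x) : H) : Ω) ∈ H ⊓ A := fun b x =>
    hcA.2 _ le_rfl _ (hY _ (restrict_mem ((mem_autGroup_iff Y le_rfl).mp b.2) inf_le_left)) x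
  induction ha using Subgroup.closure_induction with
  | one => exact (FixY.incl inf_le_left inf_le_left).congr fun _ => rfl
  | mul x y _ _ hx hy => exact hy.comp hx (fun z => hres y z) fun z => rfl
  | inv x _ hx =>
    refine hx.inv ?_ fun z hz => ?_
    · haveI := finite_of_le (inf_le_left : H ⊓ A ≤ H)
      refine Subgroup.eq_of_le_of_card_ge ?_ (card_range_eq (fun u v h =>
        Subgroup.inclusion_injective inf_le_left ((x : MulAut H).injective (Subtype.ext h)))).ge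
      rintro _ ⟨z, rfl⟩
      exact hres x z
    · show ((((x⁻¹ : Y.autGroup H) : MulAut H) ((x : MulAut H) (Subgroup.inclusion inf_le_left z)) : H) : Ω) = z
      simp
  | mem a hmem =>
    obtain ⟨Q, hQ, hgen⟩ := hmem
    set A₀ := H ⊓ A with hA₀
    set B₀ := H ⊓ B with hB₀
    have hc : ∀ x ∈ A₀, ∀ y ∈ B₀, x * y = y * x := fun x hx y hy => hs.comm x hx.2 y hy.2
    set Q₁ := (Q ⊔ B₀) ⊓ A₀ with hQ₁
    have hQ₁H : Q₁ ≤ H := inf_le_right.trans inf_le_left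
    obtain ⟨ψ, hψ, hψy, hψx⟩ := projFix_gen hS hs hH hsplit hYs hY hX hgen
    have haY := (mem_autGroup_iff Y le_rfl).mp a.2
    have hle : Q₁ ⊔ B₀ ≤ Q ⊔ B₀ := sup_le inf_le_left le_sup_right
    have hmod : ProjFix X B₀ Q₁
        ((H.subtype.comp (a : MulAut H).toMonoidHom).comp (Subgroup.inclusion hQ₁H)) := by
      refine ⟨_, restrict_mem hψ hle, fun y => hψy y, fun x => ?_⟩
      obtain ⟨q, hq, b, hb, he⟩ := exists_mul_of_mem_sup
        (CfsgLib.FusionSub.stronglyClosed_inf hH hs.closedR) (hQ.1.trans hH.1) x.2.1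
      have e1 : Subgroup.inclusion hle (Subgroup.inclusion le_sup_left x) =
          Subgroup.inclusion le_sup_left (⟨q, hq⟩ : Q) * Subgroup.inclusion le_sup_right ⟨b, hb⟩ :=
        Subtype.ext he
      have e2 : Subgroup.inclusion hQ₁H x =
          Subgroup.inclusion hQ.1 ⟨q, hq⟩ * ⟨b, hb.1⟩ := Subtype.ext he
      show (ψ (Subgroup.inclusion hle (Subgroup.inclusion le_sup_left x)))⁻¹ *
        (((a : MulAut H) (Subgroup.inclusion hQ₁H x) : H) : Ω) ∈ B₀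
      rw [e1, e2, map_mul, hψy, map_mul, Subgroup.coe_mul, mul_inv_rev, mul_assoc, ← mul_assoc
        (ψ _)⁻¹]
      refine B₀.mul_mem (B₀.inv_mem hb) (B₀.mul_mem (hψx ⟨q, hq⟩) ?_)
      exact CfsgLib.FusionSub.stronglyClosed_apply
        (CfsgLib.FusionSub.stronglyClosed_inf hH hs.closedR) (hY _ haY) ⟨b, hb.1⟩ hb
    obtain ⟨χ, hχ, hχx, hχy⟩ := fixY_of_congr hS hs hH hsplit hYs hY hX inf_le_right
      (inf_le_proj hS hs hH hsplit hYs hY hX Q) (restrict_mem haY hQ₁H) hmod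
    obtain ⟨Φ, hΦ, hΦx, hΦy⟩ := hs.liftL A₀ inf_le_right _
      (hY _ (restrict_mem haY (inf_le_left : A₀ ≤ H)))
    have hHle : H ≤ A₀ ⊔ B := hsplit.ge.trans (sup_le_sup_left inf_le_right _)
    have hΦH := restrict_mem hΦ hHle
    obtain ⟨ε, hεF, hεx⟩ := exists_aut_of_hom' F hΦH fun z =>
      hH.2 H le_rfl _ hΦH z
    have hεA : ∀ (x : Ω) (hx : x ∈ A₀),
        ((ε ⟨x, hx.1⟩ : H) : Ω) = (((a : MulAut H) ⟨x, hx.1⟩ : H) : Ω) := fun x hx =>
      (hεx _).trans (hΦx ⟨x, hx⟩)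
    have hεB : ∀ (y : Ω) (hy : y ∈ B₀), ((ε ⟨y, hy.1⟩ : H) : Ω) = y := fun y hy =>
      (hεx _).trans (hΦy ⟨y, hy.2⟩)
    have hQ'H : Q₁ ⊔ B₀ ≤ H := sup_le hQ₁H inf_le_left
    have hQQ' : Q ≤ Q₁ ⊔ B₀ := by
      intro x hx
      obtain ⟨a', ha', b', hb', rfl⟩ := exists_mul_of_le_sup hc (hsplit.ge (hQ.1 hx))
      exact Subgroup.mul_mem _ (Subgroup.mem_sup_left (proj_mem hx ha' hb' rfl).1)
        (Subgroup.mem_sup_right hb')
    have hεX : H.subtype.comp ε.toMonoidHom ∈ X.Hom H := by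
      refine mem_of_restrict_centric (T := H) (isPGroup_of_le hS hH.1) hX.1
        (CfsgLib.FusionSub.stronglyClosed_self X) ε hQ'H (fun χ' hχ' => ?_)
        (mem_of_apply_eq hχ fun z => ?_) fun N hN hQN c hc' u hfix hcu hk => ?_
      · have h1 := hQ.2 _ ⟨_, hX.2.1.1 _ (restrict_mem hχ' hQQ'), rfl⟩
        have h2 : (χ'.comp (Subgroup.inclusion hQQ')).range ≤ χ'.range := by
          rintro _ ⟨x, rfl⟩
          exact ⟨_, rfl⟩
        exact (inf_le_inf_left _ (Subgroup.centralizer_le h2)).trans (h1.trans h2)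
      · have hd : (Q₁ ⊔ B₀).subtype.range ≤ (MonoidHom.eqLocus
            ((H.subtype.comp ε.toMonoidHom).comp (Subgroup.inclusion hQ'H)) χ).map
              (Q₁ ⊔ B₀).subtype := by
          rw [Subgroup.range_subtype]
          refine sup_le (fun x hx => ⟨⟨x, Subgroup.mem_sup_left hx⟩, ?_, rfl⟩)
            fun y hy => ⟨⟨y, Subgroup.mem_sup_right hy⟩, ?_, rfl⟩
          · exact (hεA x hx.2).trans (hχx ⟨x, hx⟩).symm
          · exact (hεB y hy).trans (hχy ⟨y, hy⟩).symm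
        obtain ⟨w, hw, hwz⟩ := hd ⟨z, rfl⟩
        obtain rfl : w = z := Subtype.ext hwz
        exact hw
      · obtain ⟨k, hk⟩ := hk
        set N₁ := N ⊓ A₀ with hN₁
        have hBN : B₀ ≤ N := le_sup_right.trans hQN
        have hu1 : ∀ x : N₁, ((u (Subgroup.inclusion inf_le_left x) : N) : Ω) ∈ A₀ := by
          intro x
          have h1 : c (Subgroup.inclusion inf_le_left x) ∈ A₀ :=
            CfsgLib.FusionSub.stronglyClosed_apply hcA (hXF _ hc') _ x.2.2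
          rw [hcu] at h1
          have h2 := CfsgLib.FusionSub.stronglyClosed_apply hcA
            ((mem_autGroup_iff F hH.1).mp (inv_mem hεF)) ⟨_, hH.1 |> fun _ =>
              (ε (Subgroup.inclusion hN (u (Subgroup.inclusion inf_le_left x)))).2⟩ h1
          rwa [show H.subtype.comp (ε⁻¹ : MulAut H).toMonoidHom ⟨_,
            (ε (Subgroup.inclusion hN (u (Subgroup.inclusion inf_le_left x)))).2⟩ =
              ((u (Subgroup.inclusion inf_le_left x) : N) : Ω) from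
            congrArg Subtype.val (MulAut.inv_apply_self _ ε _)] at h2
        let u₁ : N₁ →* Ω :=
          (N.subtype.comp u.toMonoidHom).comp (Subgroup.inclusion inf_le_left)
        have hu₁Y : u₁ ∈ Y.Hom N₁ := by
          refine comp_mem_apply (restrict_mem (hX.2.1.1 _ hc') inf_le_left)
            ((mem_autGroup_iff Y le_rfl).mp (inv_mem a.2)) (fun x => ?_) fun x => ?_
          · exact apply_mem (restrict_mem hc' inf_le_left) x
          · show ((u (Subgroup.inclusion inf_le_left x) : N) : Ω) =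
              (((a : MulAut H)⁻¹ ⟨c (Subgroup.inclusion inf_le_left x), _⟩ : H) : Ω)
            have e : (⟨c (Subgroup.inclusion inf_le_left x), apply_mem hc' _⟩ : H) =
                (a : MulAut H) ⟨_, (hu1 x).1⟩ :=
              Subtype.ext ((hcu _).trans (hεA _ (hu1 x)))
            simp only [e, MulAut.inv_apply_self]
        haveI := finite_of_le (inf_le_left.trans hN : N₁ ≤ H)
        obtain ⟨e, he, hex⟩ := exists_aut_of_hom' Y hu₁Y fun x => ⟨(u _).2, hu1 x⟩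
        have hepow : ∀ (n : ℕ) (x : N₁), Subgroup.inclusion (inf_le_left : N₁ ≤ N) ((e ^ n) x) =
            (u ^ n) (Subgroup.inclusion inf_le_left x) := by
          intro n
          induction n with
          | zero => simp
          | succ n ih =>
            intro x
            rw [pow_succ', pow_succ', MulAut.mul_apply, MulAut.mul_apply, ← ih]
            exact Subtype.ext (hex _)
        have he1 : e ^ p ^ k = 1 := MulEquiv.ext fun x => by
          have h := hepow (p ^ k) x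
          rw [hk] at h
          exact Subgroup.inclusion_injective inf_le_left h
        obtain ⟨δ, hδ, hδx, hδy⟩ := fix_pElement_residual hS hs hH hsplit hYs hY hX
          (inf_le_right : N₁ ≤ A₀) he he1
        have hN₁B : N ≤ N₁ ⊔ B₀ := by
          intro x hx
          obtain ⟨a', ha', b', hb', rfl⟩ := exists_mul_of_le_sup hc (hsplit.ge (hN hx))
          have hm := N.mul_mem hx (N.inv_mem (hBN hb'))
          rw [mul_inv_cancel_right] at hm
          exact Subgroup.mul_mem _ (Subgroup.mem_sup_left ⟨hm, ha'⟩) (Subgroup.mem_sup_right hb')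
        refine (mem_autGroup_iff X hN).mpr (mem_of_apply_eq (restrict_mem hδ hN₁B) fun x => ?_)
        obtain ⟨a', ha', b', hb', he'⟩ := exists_mul_of_le_sup hc (hsplit.ge (hN x.2))
        have hm : a' ∈ N := by
          have hm := N.mul_mem x.2 (N.inv_mem (hBN hb'))
          rwa [he', mul_inv_cancel_right] at hm
        show ((u x : N) : Ω) = δ (Subgroup.inclusion hN₁B x)
        rw [show x = (⟨a', hm⟩ : N) * ⟨b', hBN hb'⟩ from Subtype.ext he', map_mul,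
          show Subgroup.inclusion hN₁B ((⟨a', hm⟩ : N) * ⟨b', hBN hb'⟩) =
            Subgroup.inclusion le_sup_left (⟨a', hm, ha'⟩ : N₁) *
              Subgroup.inclusion le_sup_right ⟨b', hb'⟩ from rfl, map_mul, hδx, hδy,
          hfix ⟨b', hBN hb'⟩ (Subgroup.mem_sup_right hb')]
        show _ = ((e ⟨a', hm, ha'⟩ : N₁) : Ω) * b'
        rw [hex]
        rfl
    exact ⟨_, restrict_mem hεX (sup_le inf_le_left inf_le_left), fun x => hεA x x.2,
      fun y => hεB y y.2⟩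

/-- The left lifting property of the `p'`-residual. -/
theorem fixY_residual {P : Subgroup Ω} (hP : P ≤ H ⊓ A) {φ : P →* Ω} (hφ : φ ∈ X.Hom P) :
    FixY X (H ⊓ B) P φ := by
  haveI := finite_of_le hH.1
  have hXF : X.IsSubsystemOf F := fun Q χ h => hY Q (hX.2.1.1 Q h)
  have hcA := CfsgLib.FusionSub.stronglyClosed_inf hH hs.closedL
  obtain ⟨ψ, hψ, hψx⟩ := exists_dec hS hs hH hsplit hX.1 hXF hφ
  set P₁ := (P ⊔ (H ⊓ B)) ⊓ (H ⊓ A) with hP₁
  have hψ₁ := restrict_mem hψ (le_sup_left : P₁ ≤ hat (H ⊓ A) (H ⊓ B) P)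
  obtain ⟨a, ha, z, hz, hza⟩ :=
    exists_decomp_pPrimeResidual (isPGroup_of_le hS hH.1) hYs hX hψ₁
  have hzA : ∀ x : P₁, z x ∈ H ⊓ A := fun x =>
    hcA.2 P₁ inf_le_right z (hY _ hz.mem) x
  have h1 := fixY_of_congr hS hs hH hsplit hYs hY hX inf_le_right
    (inf_le_proj hS hs hH hsplit hYs hY hX P) hz.mem (projFix_gen hS hs hH hsplit hYs hY hX hz)
  have h2 := h1.comp (fixY_h0 hS hs hH hsplit hYs hY hX ha) hzA fun x => hza x (apply_mem hz.mem x)
  refine h2.restrict (fun x hx => ⟨Subgroup.mem_sup_left hx, hP hx⟩) fun x => ?_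
  exact (hψx x _).symm

end Lift

/-- The `p'`-residual of a subsystem over a split strongly closed subgroup is split. -/
theorem CSplit.residual [Finite S] (hS : IsPGroup p S) (hs : CSplit F A B)
    (hH : F.StronglyClosed H) (hsplit : (H ⊓ A) ⊔ (H ⊓ B) = H) {Y X : FusionSystem H}
    (hYs : Y.IsSaturated p) (hY : Y.IsSubsystemOf F) (hX : Y.IsPPrimeResidual p X) :
    CSplit X (H ⊓ A) (H ⊓ B) where
  sup_eq := hsplit
  comm a ha b hb := hs.comm a ha.2 b hb.2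
  closedL := ⟨inf_le_left, fun Q hQ φ hφ x =>
    (CfsgLib.FusionSub.stronglyClosed_inf hH hs.closedL).2 Q hQ φ (hY Q (hX.2.1.1 Q hφ)) x⟩
  closedR := ⟨inf_le_left, fun Q hQ φ hφ x =>
    (CfsgLib.FusionSub.stronglyClosed_inf hH hs.closedR).2 Q hQ φ (hY Q (hX.2.1.1 Q hφ)) x⟩
  liftL P hP φ hφ := fixY_residual hS hs hH hsplit hYs hY hX hP hφ
  liftR P hP φ hφ := fixY_residual hS hs.symm hH (sup_comm (H ⊓ B) (H ⊓ A) ▸ hsplit) hYs hY hX
    hP hφ
  dec P φ hφ := exists_dec hS hs hH hsplit hX.1 (fun Q χ h => hY Q (hX.2.1.1 Q h)) hφ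

/-- The operation carries a weakly normal subsystem of a split system to a split system. -/
theorem CSplit.op [Finite S] (hS : IsPGroup p S) (hs : CSplit F A B) {R : Subgroup Ω}
    {D : FusionSystem R} (hD : D.IsWeaklyNormalIn F p)
    {X : FusionSystem (D.hyperfocalSubgroup p)} (hX : IsOp D p X) :
    CSplit X (D.hyperfocalSubgroup p ⊓ A) (D.hyperfocalSubgroup p ⊓ B) := by
  obtain ⟨E, hE, hEX⟩ := hX
  obtain ⟨hEs, -, hEi⟩ := pResidual_weaklyNormal hS hD hE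
  haveI := finite_of_le hD.2.2.2.1.1
  refine hs.residual hS hEi.2.1 (le_antisymm (sup_le inf_le_left inf_le_left) ?_) hEs hEi.1 hEX
  refine le_trans (le_of_eq ?_) (hyperfocal_le_split (p := p) hs hEi.2.1 hEi.1)
  exact (CfsgLib.FusionSub.hyperfocal_eq_of_pPowerIndex
    (isPGroup_of_le hS hD.2.2.2.1.1) (haveI := finite_of_le hD.2.2.2.1.1; hE.2)).symm

/-- The full subsystem over the first factor. -/
def leftSystem (hs : CSplit F A B) : FusionSystem A where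
  Hom P := {φ | φ ∈ F.Hom P ∧ P ≤ A}
  le_of_mem h := ⟨h.2, fun x => hs.closedL.2 _ h.2 _ h.1 x⟩
  injective_of_mem h := F.injective_of_mem h.1
  conj_mem hP hg := ⟨F.conj_mem (hP.trans hs.closedL.1) (hs.closedL.1 hg), hP⟩
  comp_mem h₁ h₂ h := ⟨F.comp_mem h₁.1 h₂.1 h, h₁.2⟩
  inv_mem {P φ} hφ := by
    obtain ⟨θ, hθ, -, hθx, -⟩ := exists_inverse hφ.1 rfl
    exact ⟨θ, ⟨hθ, fun y ⟨x, hx⟩ => hx ▸ hs.closedL.2 _ hφ.2 _ hφ.1 x⟩,
      fun x => hθx x ⟨x, rfl⟩⟩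

theorem leftSystem_hom (hs : CSplit F A B) {P : Subgroup Ω} (hP : P ≤ A) :
    (leftSystem hs).Hom P = F.Hom P :=
  Set.ext fun _ => ⟨fun h => h.1, fun h => ⟨h, hP⟩⟩

theorem leftSystem_isSaturated [Finite S] (hF : F.IsSaturated p) (hs : CSplit F A B) :
    (leftSystem hs).IsSaturated p :=
  isSaturated_factor hF hs.comm hs.sup_eq.symm hs.closedL _ fun _ hP => leftSystem_hom hs hP

/-- The first factor of a split normal subsystem is normal in the first factor. -/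
theorem leftSystem_isNormalIn [Finite S] (hs : CSplit F A B) {X : FusionSystem H}
    (hX : X.IsNormalIn F p) (hsX : CSplit X (H ⊓ A) (H ⊓ B)) :
    (leftSystem hsX).IsNormalIn (leftSystem hs) p := by
  obtain ⟨⟨hXs, hF, hXi⟩, hXext⟩ := hX
  have hHS := hXi.2.1.1
  haveI := finite_of_le hHS
  have hA₀A : H ⊓ A ≤ A := inf_le_right
  have haut : ∀ {α : MulAut ↥(H ⊓ A)}, α ∈ (leftSystem hs).autGroup (H ⊓ A) →
      α ∈ F.autGroup (H ⊓ A) := fun h =>
    (mem_autGroup_iff F (inf_le_left.trans hHS)).mpr ((mem_autGroup_iff _ hA₀A).mp h).1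
  refine ⟨⟨leftSystem_isSaturated hXs hsX, leftSystem_isSaturated hF hs,
    fun P φ h => ⟨hXi.1 P h.1, h.2.trans hA₀A⟩, ⟨hA₀A, fun R hR φ hφ x =>
      (CfsgLib.FusionSub.stronglyClosed_inf hXi.2.1 hs.closedL).2 R hR φ hφ.1 x⟩, ?_, ?_⟩, ?_⟩
  · intro P hP φ hφ α hα
    obtain ⟨Φ, hΦ, hΦx, hΦy⟩ := hs.liftL _ hA₀A _
      ((mem_autGroup_iff F (inf_le_left.trans hHS)).mp (haut hα))
    have hHle : H ≤ (H ⊓ A) ⊔ B := hsX.sup_eq.ge.trans (sup_le_sup_left inf_le_right _)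
    obtain ⟨ε, hεF, hεx⟩ := exists_aut_of_hom' F (restrict_mem hΦ hHle) fun z =>
      hXi.2.1.2 H le_rfl _ (restrict_mem hΦ hHle) z
    obtain ⟨χ, hχ, hχx⟩ := hXi.2.2.1 P (hP.trans inf_le_left) φ hφ.1 ε hεF
    have hεA : ∀ (x : Ω) (hx : x ∈ H ⊓ A),
        ((ε ⟨x, hx.1⟩ : H) : Ω) = ((α ⟨x, hx⟩ : ↥(H ⊓ A)) : Ω) := fun x hx =>
      (hεx _).trans (hΦx ⟨x, hx⟩)
    have hle : (P.subgroupOf (H ⊓ A)).map ((H ⊓ A).subtype.comp α.toMonoidHom) ≤
        (P.subgroupOf H).map (H.subtype.comp ε.toMonoidHom) := by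
      rintro _ ⟨⟨x, hx⟩, hxP, rfl⟩
      exact ⟨⟨x, hx.1⟩, hxP, hεA x hx⟩
    refine ⟨_, ⟨restrict_mem hχ hle, Subgroup.map_le_range _ _ |>.trans ?_⟩,
      fun x hφx hαx => ?_⟩
    · rintro _ ⟨y, rfl⟩
      exact (α y).2
    have e : Subgroup.inclusion hle ⟨_, hαx⟩ = ⟨((ε ⟨x, (hP x.2).1⟩ : H) : Ω),
        ⟨⟨x, (hP x.2).1⟩, x.2, rfl⟩⟩ := Subtype.ext (hεA x (hP x.2)).symm
    show χ (Subgroup.inclusion hle ⟨_, hαx⟩) = _
    rw [e]
    exact (hχx x hφx.1 _).trans (hεA _ hφx)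
  · intro P hP φ hφ
    obtain ⟨a, ha, φ₀, hφ₀, hx⟩ := hXi.2.2.2 P (hP.trans inf_le_left) φ hφ.1
    have haF := (mem_autGroup_iff F hHS).mp ha
    haveI := finite_of_le (inf_le_left : H ⊓ A ≤ H)
    obtain ⟨α, hα, hαx⟩ := exists_aut_of_hom' F (restrict_mem haF inf_le_left) fun y =>
      (CfsgLib.FusionSub.stronglyClosed_inf hXi.2.1 hs.closedL).2 _ le_rfl _
        (restrict_mem haF inf_le_left) y
    refine ⟨α, (mem_autGroup_iff _ hA₀A).mpr
      ⟨(mem_autGroup_iff F (inf_le_left.trans hHS)).mp hα, hA₀A⟩, φ₀, ⟨hφ₀, hP⟩,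
      fun x hxm => ?_⟩
    rw [hαx, hx x hxm.1]
    rfl
  · intro α hα
    obtain ⟨Ψ, hΨ, hΨx, hΨy⟩ := hsX.liftL _ le_rfl _
      ((mem_autGroup_iff _ le_rfl).mp hα).1
    obtain ⟨a, ha, hax⟩ := exists_aut_of_hom' X (restrict_mem hΨ hsX.sup_eq.ge) fun z =>
      apply_mem (restrict_mem hΨ hsX.sup_eq.ge) z
    obtain ⟨β, hβ, hβx, hβc⟩ := hXext a ha
    have hC : centralizerIn A (H ⊓ A) ≤ centralizerIn S H := by
      intro c hc
      refine ⟨hs.closedL.1 hc.1, fun h hh => ?_⟩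
      obtain ⟨x, hx, y, hy, rfl⟩ := exists_mul_of_le_sup hsX.comm (hsX.sup_eq.ge hh)
      have h1 : Commute x c := hc.2 x hx
      have h2 : Commute y c := (hs.comm c hc.1 y hy.2).symm
      exact (h1.mul_left h2).eq
    have hle : (H ⊓ A) ⊔ centralizerIn A (H ⊓ A) ≤ H ⊔ centralizerIn S H :=
      sup_le_sup inf_le_left hC
    have hβ' : ((H ⊔ centralizerIn S H).subtype.comp β.toMonoidHom).comp
        (Subgroup.inclusion hle) ∈ F.Hom _ := restrict_mem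
      ((mem_autGroup_iff F (sup_le hHS (centralizerIn_le S H))).mp hβ) hle
    have hA₀ : ∀ x : ↥(H ⊓ A), ((β (Subgroup.inclusion hle (Subgroup.inclusion le_sup_left x)) :
        ↥(H ⊔ centralizerIn S H)) : Ω) = ((α x : ↥(H ⊓ A)) : Ω) := fun x =>
      ((hβx ⟨x, x.2.1⟩).trans (hax _)).trans (hΨx x)
    have hCm : ∀ c : centralizerIn A (H ⊓ A), (c : Ω)⁻¹ *
        ((β (Subgroup.inclusion hle (Subgroup.inclusion le_sup_right c)) :
          ↥(H ⊔ centralizerIn S H)) : Ω) ∈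
          (H ⊓ A) ⊓ Subgroup.centralizer ((H ⊓ A : Subgroup Ω) : Set Ω) := fun c => by
      have h1 := hβc (Subgroup.inclusion hle (Subgroup.inclusion le_sup_right c)) (hC c.2)
      refine ⟨⟨h1.1, A.mul_mem (A.inv_mem c.2.1) ?_⟩, fun x hx => h1.2 x hx.1⟩
      exact CfsgLib.FusionSub.stronglyClosed_apply hs.closedL hβ'
        (Subgroup.inclusion le_sup_right c) c.2.1
    have hle' : (H ⊓ A) ⊔ centralizerIn A (H ⊓ A) ≤ A := sup_le hA₀A inf_le_left
    haveI := finite_of_le (hle'.trans hs.closedL.1)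
    have hm : ∀ z, (((H ⊔ centralizerIn S H).subtype.comp β.toMonoidHom).comp
        (Subgroup.inclusion hle)) z ∈ (H ⊓ A) ⊔ centralizerIn A (H ⊓ A) := by
      intro z
      refine apply_mem_of_sup _ (fun x => Subgroup.mem_sup_left (T := centralizerIn A (H ⊓ A))
        (Eq.subst (motive := fun w => w ∈ H ⊓ A) (hA₀ x).symm (α x).2)) (fun c => ?_) z
      have := Subgroup.mul_mem _
        (Subgroup.mem_sup_right (S := H ⊓ A) c.2) (Subgroup.mem_sup_left (hCm c).1)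
      rwa [mul_inv_cancel_left] at this
    obtain ⟨γ, hγ, hγx⟩ := exists_aut_of_hom' (leftSystem hs) (⟨hβ', hle'⟩ :
      _ ∈ (leftSystem hs).Hom _) hm
    refine ⟨γ, hγ, fun x => (hγx _).trans (hA₀ x), fun c hc => ?_⟩
    rw [hγx]
    exact hCm ⟨c, hc⟩

end CfsgLib.FusionBasics.Central
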